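import Cfsg.Prelude.Def_Local
import Cfsg.Agent.Lib.Involutions.Basic
import Cfsg.Agent.Lib.Cores.PCore
import Cfsg.Agent.Lib.Subnormal.BaerSuzuki

/-!
Finite groups in which the centraliser of every involution is a 2-group.
-/

set_option autoImplicit false

open Cfsg

namespace CfsgLib.CIT

/-- The centraliser of every involution is a `2`-group. -/
def IsCIT (G : Type*) [Group G] : Prop :=
  ∀ t : G, orderOf t = 2 → IsPGroup 2 (Subgroup.centralizer ({t} : Set G))

variable {G : Type*} [Group G]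

theorem IsCIT.of_injective {H : Type*} [Group H] (hG : IsCIT G) (f : H →* G) (hf : Function.Injective f) :
    IsCIT H := by
  intro t ht a
  have hft : orderOf (f t) = 2 := (orderOf_injective f hf t).trans ht
  have ha : f (a : H) ∈ Subgroup.centralizer ({f t} : Set G) := by
    rw [Subgroup.mem_centralizer_singleton_iff, ← map_mul, ← map_mul,
      Subgroup.mem_centralizer_singleton_iff.1 a.2]
  obtain ⟨k, hk⟩ := hG (f t) hft ⟨_, ha⟩
  refine ⟨k, Subtype.ext (hf ?_)⟩
  simpa using congrArg Subtype.val hk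

theorem IsCIT.subgroup (hG : IsCIT G) (H : Subgroup G) : IsCIT H :=
  hG.of_injective H.subtype H.subtype_injective

theorem IsCIT.of_equiv {H : Type*} [Group H] (hG : IsCIT G) (e : G ≃* H) : IsCIT H :=
  hG.of_injective e.symm.toMonoidHom e.symm.injective

theorem odd_of_coprime_two {n : ℕ} (h : Nat.Coprime n 2) : Odd n :=
  Nat.coprime_two_right.1 h

theorem eq_one_of_two_pow_odd {n k : ℕ} (hn : n = 2 ^ k) (hodd : Odd n) : n = 1 := by
  rcases k with _ | k
  · simpa using hn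
  · exact absurd (hn ▸ (Nat.even_pow.2 ⟨even_two, Nat.succ_ne_zero k⟩)) (Nat.not_even_iff_odd.2 hodd)

variable [Finite G]

/-- The centraliser of an element of even order is a `2`-group. -/
theorem IsCIT.isPGroup_centralizer (hG : IsCIT G) {a : G} (ha : 2 ∣ orderOf a) :
    IsPGroup 2 (Subgroup.centralizer ({a} : Set G)) := by
  obtain ⟨c, hc⟩ := ha
  have hc0 : c ≠ 0 := fun h => (orderOf_pos a).ne' (by rw [hc, h, mul_zero])
  have h2 : orderOf (a ^ c) = 2 := by
    rw [orderOf_pow' a hc0, hc, Nat.gcd_mul_left_left, Nat.mul_div_cancel _ (Nat.pos_of_ne_zero hc0)]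
  refine (hG _ h2).to_le fun x hx => ?_
  rw [Subgroup.mem_centralizer_singleton_iff] at hx ⊢
  exact ((show Commute x a from hx).pow_right c).eq

omit [Finite G] in
theorem two_dvd_orderOf_of_mem {D : Subgroup G} (hD : IsPGroup 2 D) {a : G} (ha : a ∈ D) (h1 : a ≠ 1) :
    2 ∣ orderOf a := by
  obtain ⟨k, hk⟩ := (IsPGroup.iff_orderOf.1 hD) ⟨a, ha⟩
  rw [Subgroup.orderOf_mk] at hk
  rcases k with _ | k
  · exact absurd (orderOf_eq_one_iff.1 (by simpa using hk)) h1
  · exact hk ▸ dvd_pow_self 2 (Nat.succ_ne_zero k)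

/-- An element of odd order commuting with a non-trivial `2`-element is trivial. -/
theorem IsCIT.eq_one_of_commute (hG : IsCIT G) {a x : G} (ha : 2 ∣ orderOf a) (hx : Odd (orderOf x))
    (hc : Commute a x) : x = 1 := by
  obtain ⟨k, hk⟩ := (IsPGroup.iff_orderOf.1 (hG.isPGroup_centralizer ha))
    ⟨x, Subgroup.mem_centralizer_singleton_iff.2 hc.eq.symm⟩
  rw [Subgroup.orderOf_mk] at hk
  exact orderOf_eq_one_iff.1 (eq_one_of_two_pow_odd hk hx)

/-- Elements of odd order act fixed-point-freely on `2`-subgroups. -/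
theorem IsCIT.fpf (hG : IsCIT G) {D : Subgroup G} (hD : IsPGroup 2 D) {a x : G} (ha : a ∈ D)
    (hx : Odd (orderOf x)) (hx1 : x ≠ 1) (hc : Commute a x) : a = 1 := by
  by_contra h1
  exact hx1 (hG.eq_one_of_commute (two_dvd_orderOf_of_mem hD ha h1) hx hc)

/-- The centraliser of a non-trivial `2`-subgroup is a `2`-group. -/
theorem IsCIT.isPGroup_centralizer_subgroup (hG : IsCIT G) {D : Subgroup G} (hD : IsPGroup 2 D)
    (hne : D ≠ ⊥) : IsPGroup 2 (Subgroup.centralizer (D : Set G)) := by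
  obtain ⟨⟨a, ha⟩, ha1⟩ := Subgroup.ne_bot_iff_exists_ne_one.1 hne
  refine (hG.isPGroup_centralizer (two_dvd_orderOf_of_mem hD ha fun e => ha1 (Subtype.ext e))).to_le ?_
  exact Subgroup.centralizer_le (by simpa using ha)

/-- Quotients by normal `2`-subgroups keep the property. -/
theorem IsCIT.quotient (hG : IsCIT G) {N : Subgroup G} [N.Normal] (hN : IsPGroup 2 N) : IsCIT (G ⧸ N) := by
  classical
  have : Fact (Nat.Prime 2) := ⟨Nat.prime_two⟩
  intro t' ht'
  rw [IsPGroup.iff_card]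
  by_contra hcon
  set C := Subgroup.centralizer ({t'} : Set (G ⧸ N))
  obtain ⟨p, hp, hpd, hp2⟩ : ∃ p, Nat.Prime p ∧ p ∣ Nat.card C ∧ p ≠ 2 := by
    by_contra! hall
    exact hcon ⟨_, Nat.eq_prime_pow_of_unique_prime_dvd Nat.card_pos.ne' fun hq hd => hall _ hq hd⟩
  have : Fact p.Prime := ⟨hp⟩
  obtain ⟨⟨x', hx'C⟩, hx'⟩ := exists_prime_orderOf_dvd_card' p hpd
  rw [Subgroup.orderOf_mk] at hx'
  obtain ⟨x₀, rfl⟩ := QuotientGroup.mk'_surjective N x'
  obtain ⟨t, rfl⟩ := QuotientGroup.mk'_surjective N t'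
  -- a preimage of order `p`
  obtain ⟨x, hx, hxeq⟩ : ∃ x : G, orderOf x = p ∧ (QuotientGroup.mk' N x) ∈ C ∧ x ∉ N := by
    obtain ⟨k, hk⟩ := hN ⟨x₀ ^ p, by
      rw [← QuotientGroup.eq_one_iff]
      show (QuotientGroup.mk' N) (x₀ ^ p) = 1
      rw [map_pow, ← hx', pow_orderOf_eq_one]⟩
    have hne : x₀ ^ 2 ^ k ∉ N := by
      intro hmem
      have h1 : (QuotientGroup.mk' N x₀) ^ 2 ^ k = 1 := by
        rw [← map_pow]; exact (QuotientGroup.eq_one_iff _).2 hmem
      have h2 := orderOf_dvd_of_pow_eq_one h1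
      rw [hx'] at h2
      exact hp2 ((Nat.prime_dvd_prime_iff_eq hp Nat.prime_two).1 (hp.dvd_of_dvd_pow h2))
    refine ⟨x₀ ^ 2 ^ k, orderOf_eq_prime ?_ (fun e => hne (e ▸ N.one_mem)), ?_, hne⟩
    · have h3 := congrArg Subtype.val hk
      simp only [SubgroupClass.coe_pow, Subgroup.coe_one] at h3
      rwa [← pow_mul, mul_comm, pow_mul]
    · rw [map_pow]; exact C.pow_mem hx'C _
  obtain ⟨hxC, hxN⟩ := hxeq
  -- `x` permutes the coset `tN`
  have hx1 : x ≠ 1 := fun e => hxN (e ▸ N.one_mem)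
  let P := Subgroup.zpowers x
  let Y := {g : G // QuotientGroup.mk' N g = QuotientGroup.mk' N t}
  have hfixQ : ∀ a : P, ∀ g : Y, QuotientGroup.mk' N ((a : G) * (g : G) * (a : G)⁻¹) = QuotientGroup.mk' N t := by
    intro a g
    obtain ⟨n, hn⟩ := Subgroup.mem_zpowers_iff.1 a.2
    rw [map_mul, map_mul, map_inv, g.2, mul_inv_eq_iff_eq_mul, ← hn, map_zpow]
    exact ((show Commute (QuotientGroup.mk' N x) (QuotientGroup.mk' N t) from
      Subgroup.mem_centralizer_singleton_iff.1 hxC).zpow_left n).eq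
  letI : MulAction P Y :=
    { smul := fun a g => ⟨(a : G) * (g : G) * (a : G)⁻¹, hfixQ a g⟩
      one_smul := fun g => Subtype.ext (by show ((1 : P) : G) * g * ((1 : P) : G)⁻¹ = g; simp)
      mul_smul := fun a b g => Subtype.ext (by
        show ((a * b : P) : G) * g * ((a * b : P) : G)⁻¹ = a * (b * g * (b : G)⁻¹) * (a : G)⁻¹
        simp [mul_assoc]) }
  have hPp : IsPGroup p P := IsPGroup.of_card (n := 1) (by rw [pow_one, Nat.card_zpowers, hx])
  have hY : Nat.card Y = Nat.card N := Nat.card_congr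
    { toFun := fun g => ⟨t⁻¹ * g, QuotientGroup.eq.1 g.2.symm⟩
      invFun := fun n => ⟨t * n, (QuotientGroup.eq.2 (by simp [n.2])).symm⟩
      left_inv := fun g => Subtype.ext (by simp)
      right_inv := fun n => Subtype.ext (by simp) }
  have hnd : ¬ p ∣ Nat.card Y := by
    obtain ⟨k, hk⟩ := IsPGroup.iff_card.1 hN
    rw [hY, hk]
    exact fun h => hp2 ((Nat.prime_dvd_prime_iff_eq hp Nat.prime_two).1 (hp.dvd_of_dvd_pow h))
  obtain ⟨g, hg⟩ := hPp.nonempty_fixed_point_of_prime_not_dvd_card Y hnd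
  have hcomm : Commute (g : G) x := by
    have := congrArg Subtype.val (hg ⟨x, Subgroup.mem_zpowers x⟩)
    exact (mul_inv_eq_iff_eq_mul.1 this).symm
  have hg2 : 2 ∣ orderOf (g : G) := by
    refine dvd_trans ?_ (orderOf_map_dvd (QuotientGroup.mk' N) (g : G))
    rw [g.2, ht']
  refine hx1 (hG.eq_one_of_commute hg2 ?_ hcomm)
  rw [hx]; exact hp.odd_of_ne_two hp2

/-- An involution outside the `2`-core inverts a non-trivial element of odd order. -/
theorem exists_inverted {t : G} (ht : orderOf t = 2) (hout : t ∉ pCore 2 G) :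
    ∃ x : G, Odd (orderOf x) ∧ x ≠ 1 ∧ t * x * t⁻¹ = x⁻¹ := by
  have : Fact (Nat.Prime 2) := ⟨Nat.prime_two⟩
  by_contra hcon
  push Not at hcon
  refine hout (Subnormal.mem_pCore_of_forall_closure_pair fun g => ?_)
  set s := g * t * g⁻¹
  have hs : orderOf s = 2 := by rw [Involutions.orderOf_conj, ht]
  -- the product has 2-power order
  set y := t * s
  obtain ⟨k, m, hm, hkm⟩ : ∃ k m, Odd m ∧ orderOf y = 2 ^ k * m := by
    obtain ⟨k, m, hm, e⟩ := Nat.exists_eq_two_pow_mul_odd (orderOf_pos y).ne'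
    exact ⟨k, m, hm, e⟩
  have hzo : orderOf (y ^ 2 ^ k) = m := by
    rw [orderOf_pow' y (pow_ne_zero k two_ne_zero), hkm, Nat.gcd_mul_right_left,
      Nat.mul_div_cancel_left _ (Nat.two_pow_pos k)]
  have hz1 : y ^ 2 ^ k = 1 := by
    by_contra h1
    refine hcon _ (hzo ▸ hm) h1 ?_
    have hy : t * y * t⁻¹ = y⁻¹ := Involutions.conj_mul_eq_inv ht hs
    rw [← conj_pow, hy, inv_pow]
  have hy2 : ∃ j, orderOf y = 2 ^ j :=
    ((Nat.dvd_prime_pow Nat.prime_two).1 (orderOf_dvd_of_pow_eq_one hz1)).imp fun j hj => hj.2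
  obtain ⟨j, hj⟩ := hy2
  intro a
  obtain ⟨i, hi | hi⟩ := Involutions.mem_closure_pair ht hs a.2
  · refine ⟨j, Subtype.ext ?_⟩
    rw [SubgroupClass.coe_pow, hi, ← zpow_natCast, ← zpow_mul, mul_comm, zpow_mul, zpow_natCast, ← hj,
      pow_orderOf_eq_one, one_zpow]
    rfl
  · refine ⟨1, Subtype.ext ?_⟩
    rw [SubgroupClass.coe_pow, hi, pow_one, pow_two, Involutions.zpow_mul_mul_zpow_mul ht hs]
    simp

end CfsgLib.CIT
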