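import Cfsg.Agent.Lib.CIT.Pair4

/-!
The dichotomy: a self-centralising four-group, two natural 2-locals with `q = 4` sharing a Sylow
subgroup, or Sylow 2-subgroups meeting trivially.
-/

set_option autoImplicit false

open Cfsg CfsgLib.PrimeElementOrders

namespace CfsgLib.CIT

universe u

variable {G : Type u} [Group G] [Finite G]

omit [Finite G] in
theorem LocData.core_ne {M T : Subgroup G} (h : LocData M T) : pCoreOf 2 M ≠ T := fun e => h.ne e.symm

omit [Finite G] in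
theorem LocData.conj {M T : Subgroup G} (h : LocData M T) (g : G) :
    LocData (M.map (MulAut.conj g).toMonoidHom) (T.map (MulAut.conj g).toMonoidHom) := by
  refine ⟨h.maxLoc.map_conj g, Subgroup.map_mono h.T_le, h.T_two.map _, fun R hR hle hRM => ?_, fun e => ?_⟩
  · have hinv : ∀ X : Subgroup G, (X.map (MulAut.conj g⁻¹).toMonoidHom).map (MulAut.conj g).toMonoidHom = X :=
      fun X => by
        rw [Subgroup.map_map, show (MulAut.conj g).toMonoidHom.comp (MulAut.conj g⁻¹).toMonoidHom =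
          MonoidHom.id G from MonoidHom.ext fun y => by simp [mul_assoc], Subgroup.map_id]
    rw [← hinv R]
    congr 1
    refine h.T_max _ (hR.map _) (fun a ha => ⟨g * a * g⁻¹, hle ⟨a, ha, rfl⟩, by simp [mul_assoc]⟩) ?_
    rintro _ ⟨b, hb, rfl⟩
    obtain ⟨c, hc, rfl⟩ := hRM hb
    simpa [mul_assoc] using hc
  · rw [map_conj_pCoreOf] at e
    exact h.ne (Subgroup.map_injective (f := (MulAut.conj g).toMonoidHom) (MulAut.conj g).injective e)

/-- A maximal 2-local with a self-centralising four-group as core. -/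
def IsFour (M T : Subgroup G) : Prop :=
  ∃ x s, Local1 M 3 x s T 1 ∧ Nat.card (pCoreOf 2 M) = 4

/-- What can be said of two locals sharing `T`. -/
theorem LocData.unique (hC : Ctx G) {M₁ M₂ T : Subgroup G} (h₁ : LocData M₁ T) (h₂ : LocData M₂ T) :
    M₁ = M₂ ∨ IsFour M₁ T ∨ IsFour M₂ T ∨ E2Pair M₁ M₂ T := by
  by_contra hcon
  push Not at hcon
  obtain ⟨hne, hf₁, hf₂, hP⟩ := hcon
  have small : ∀ {M₁ M₂ : Subgroup G} (x s : G), Local1 M₁ 3 x s T 1 →
      Nat.card (omegaZ (pCoreOf 2 M₁)) ≤ 4 → LocData M₂ T → ¬ IsFour M₁ T → ¬ IsFour M₂ T →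
      M₁ ≠ M₂ → False := by
    intro M₁ M₂ x s hl hW h₂ hf₁ hf₂ hne
    have hd₁ : LocData M₁ T := ⟨hl.maxLoc, hl.T_le, hl.T_two, hl.T_max, fun e => hl.s_notMem (e.le hl.s_mem)⟩
    rcases h₂.types hC with ⟨x', s', hl', -⟩ | ⟨hJ, hcyc | hs⟩ | ⟨hs, -⟩
    · exact hne (hl.unique hl' (fun e => hf₁ ⟨x, s, hl, e.2⟩) (fun e => hf₂ ⟨x', s', hl', e.2⟩))
    · exact hcyc.not_small hC hl hW
    · have := hd₁.center_le_two hC hW
      have := hs.two_lt_center hC
      omega
    · have := hd₁.center_le_two hC hW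
      have := hs.two_lt_center hC
      omega
  rcases h₁.types hC with ⟨x, s, hl, hW⟩ | ⟨hJ₁, -⟩ | ⟨hs₁, A₁, hA₁, hA₁'⟩
  · exact small x s hl hW h₂ hf₁ hf₂ hne
  all_goals rcases h₂.types hC with ⟨x, s, hl, hW⟩ | ⟨hJ₂, -⟩ | ⟨hs₂, A₂, hA₂, hA₂'⟩
  · exact small x s hl hW h₁ hf₂ hf₁ (Ne.symm hne)
  · exact hne (eq_of_thompson h₁ h₂ hJ₁ hJ₂)
  · obtain ⟨q, hq⟩ := hs₂.exists_e2 hC hA₂ hA₂'
    exact hq.not_thompson hC h₁ hJ₁
  · exact small x s hl hW h₁ hf₂ hf₁ (Ne.symm hne)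
  · obtain ⟨q, hq⟩ := hs₁.exists_e2 hC hA₁ hA₁'
    exact hq.not_thompson hC h₂ hJ₂
  · obtain ⟨q, hq⟩ := hs₁.exists_e2 hC hA₁ hA₁'
    obtain ⟨q', hq'⟩ := hs₂.exists_e2 hC hA₂ hA₂'
    exact hP (hq.pair hC hq' hne)

/-- The dichotomy. -/
theorem Ctx.dichotomy (hC : Ctx G) :
    (∃ M T : Subgroup G, IsFour M T) ∨ (∃ M M' T : Subgroup G, E2Pair M M' T) ∨ TISylow G := by
  classical
  have : Fact (Nat.Prime 2) := ⟨Nat.prime_two⟩
  by_contra hcon
  push Not at hcon
  obtain ⟨hno4, hnoP, hnTI⟩ := hcon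
  have uniq : ∀ {M₁ M₂ T : Subgroup G}, LocData M₁ T → LocData M₂ T → M₁ = M₂ := by
    intro M₁ M₂ T h₁ h₂
    rcases h₁.unique hC h₂ with h | h | h | h
    · exact h
    · exact absurd h (hno4 _ _)
    · exact absurd h (hno4 _ _)
    · exact absurd h (hnoP _ _ _)
  have sylT : ∀ {M T : Subgroup G}, LocData M T → ∃ S : Sylow 2 G, (S : Subgroup G) = T := by
    intro M T h
    obtain ⟨S, hS⟩ := h.T_two.exists_le_sylow
    rcases h.types hC with ⟨x, s, hl, -⟩ | ⟨hJ, -⟩ | -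
    · rcases hl.sylow_or_four with h1 | h1
      · exact ⟨S, h1 _ S.2 hS⟩
      · exact absurd ⟨x, s, hl, h1.2⟩ (hno4 M T)
    · exact ⟨S, sylow_of_thompson_le h hJ S.2 hS⟩
    · refine ⟨S, ?_⟩
      by_contra hne
      obtain ⟨g, hgS, hgN, hgT⟩ := exists_normalizer_notMem S.2 (lt_of_le_of_ne hS (Ne.symm hne))
      have e : T.map (MulAut.conj g).toMonoidHom = T := by
        refine Subgroup.eq_of_le_of_card_ge ?_ (Subgroup.card_map_of_injective (MulAut.conj g).injective).ge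
        rintro _ ⟨a, ha, rfl⟩
        exact mem_normalizer_omegaZ_conj hgN ha
      have h2 := h.conj g
      rw [e] at h2
      have h3 := uniq h2 h
      refine hgT (h.mem_of_normalizer S.2 hS hgS ?_)
      rw [← h.maxLoc.normalizer_core]
      refine mem_normalizer_of_map_conj ?_
      rw [← map_conj_pCoreOf, h3]
  -- a maximal local in which some Sylow subgroup is bigger than the core
  obtain ⟨M₀, T₀, h₀⟩ : ∃ M T : Subgroup G, LocData M T := by
    by_contra! hno
    apply hnTI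
    have hcore : ∀ L : Subgroup G, IsMaxLoc L →
        (∀ R : Subgroup G, IsPGroup 2 R → R ≤ L → R ≤ pCoreOf 2 L) ∧
          ∃ S : Sylow 2 G, (S : Subgroup G) = pCoreOf 2 L := by
      intro L hL
      have hall : ∀ R : Subgroup G, IsPGroup 2 R → R ≤ L → R ≤ pCoreOf 2 L := by
        intro R hR hRL
        obtain ⟨T, hRT, hTL, hT, hmax⟩ := exists_max_two hR hRL
        by_cases hTD : T = pCoreOf 2 L
        · exact hTD ▸ hRT
        · exact absurd ⟨hL, hTL, hT, hmax, hTD⟩ (hno L T)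
      refine ⟨hall, ?_⟩
      obtain ⟨S, hS⟩ := (isPGroup_pCoreOf L).exists_le_sylow
      refine ⟨S, ?_⟩
      by_contra hne
      obtain ⟨g, hgS, hgN, hgD⟩ := exists_normalizer_notMem S.2 (lt_of_le_of_ne hS (Ne.symm hne))
      rw [hL.normalizer_core] at hgN
      exact hgD (hall (Subgroup.zpowers g) (S.2.to_le (Subgroup.zpowers_le.2 hgS))
        (Subgroup.zpowers_le.2 hgN) (Subgroup.mem_zpowers g))
    have hTI : ∀ n : ℕ, ∀ S₁ S₂ : Sylow 2 G, ∀ R : Subgroup G, R ≤ (S₁ : Subgroup G) → R ≤ (S₂ : Subgroup G) →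
        R ≠ ⊥ → Nat.card G ≤ n + Nat.card R → S₁ = S₂ := by
      intro n
      induction n with
      | zero =>
        intro S₁ S₂ R h1 h2 _ hn
        have e : R = ⊤ := Subgroup.eq_top_of_card_eq R
          (le_antisymm (Subgroup.card_le_card_group R) (by omega))
        exact Sylow.ext (((top_le_iff.1 (e ▸ h1)) : (S₁ : Subgroup G) = ⊤).trans
          (top_le_iff.1 (e ▸ h2) : (S₂ : Subgroup G) = ⊤).symm)
      | succ n ih =>
        intro S₁ S₂ R h1 h2 hne hn
        obtain ⟨L, hL, hN⟩ := exists_maxLoc_normalizer (S₁.2.to_le h1) hne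
        obtain ⟨hall, S₃, hS₃⟩ := hcore L hL
        have step : ∀ S : Sylow 2 G, R ≤ (S : Subgroup G) → (R = (S : Subgroup G) → False) → S = S₃ := by
          intro S hR hne'
          obtain ⟨g, hgS, hgN, hgR⟩ := exists_normalizer_notMem S.2 (lt_of_le_of_ne hR hne')
          have hlt : R < R ⊔ Subgroup.zpowers g :=
            lt_of_le_of_ne le_sup_left fun e => hgR (e ▸ le_sup_right (a := R) (Subgroup.mem_zpowers g))
          have hle : R ⊔ Subgroup.zpowers g ≤ (S : Subgroup G) := sup_le hR (Subgroup.zpowers_le.2 hgS)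
          refine ih S S₃ (R ⊔ Subgroup.zpowers g) hle ?_ ?_ ?_
          · exact hS₃ ▸ hall _ (S.2.to_le hle)
              (sup_le (Subgroup.le_normalizer.trans hN) (Subgroup.zpowers_le.2 (hN hgN)))
          · exact fun e => hne (le_bot_iff.1 (e ▸ le_sup_left))
          · have := two_mul_card_le hlt
            have := Nat.card_pos (α := R)
            omega
        by_cases e1 : R = (S₁ : Subgroup G)
        · exact Sylow.ext (S₁.3 S₂.2 (e1 ▸ h2)).symm
        by_cases e2 : R = (S₂ : Subgroup G)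
        · exact (Sylow.ext (S₂.3 S₁.2 (e2 ▸ h1)).symm).symm
        exact (step S₁ h1 e1).trans (step S₂ h2 e2).symm
    exact fun S₁ S₂ hne => hTI (Nat.card G) S₁ S₂ _ inf_le_left inf_le_right hne (Nat.le_add_right _ _)
  obtain ⟨S₀, hS₀⟩ := sylT h₀
  -- every maximal local is of this kind
  have hall : ∀ L T : Subgroup G, IsMaxLoc L → T ≤ L → IsPGroup 2 T →
      (∀ R : Subgroup G, IsPGroup 2 R → T ≤ R → R ≤ L → R = T) → LocData L T := by
    intro L T hL hTL hT hmax
    refine ⟨hL, hTL, hT, hmax, fun hTD => ?_⟩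
    obtain ⟨S, hTS⟩ := hT.exists_le_sylow
    have hTSeq : (S : Subgroup G) = T := by
      by_contra hne
      obtain ⟨g, hgS, hgN, hgT⟩ := exists_normalizer_notMem S.2 (lt_of_le_of_ne hTS (Ne.symm hne))
      rw [hTD, hL.normalizer_core] at hgN
      have h2 := hmax _ (S.2.to_le (sup_le hTS (Subgroup.zpowers_le.2 hgS))) le_sup_left
        (sup_le hTL (Subgroup.zpowers_le.2 hgN))
      exact hgT (h2 ▸ le_sup_right (a := T) (Subgroup.mem_zpowers g))
    obtain ⟨x, hx⟩ := MulAction.exists_smul_eq G S₀ S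
    have h := h₀.conj x
    have e : T₀.map (MulAut.conj x).toMonoidHom = T := by
      rw [← hTSeq, ← hx, Sylow.coe_subgroup_smul, hS₀]; rfl
    rw [e] at h
    have hLM : L ≤ M₀.map (MulAut.conj x).toMonoidHom := by
      intro g hg
      rw [← h.maxLoc.normalizer_core]
      refine mem_normalizer_of_map_conj ?_
      rw [← map_conj_pCoreOf]
      congr 1
      have h2 := h.conj g
      have e2 : T.map (MulAut.conj g).toMonoidHom = T := by
        rw [hTD]
        refine Subgroup.eq_of_le_of_card_ge ?_ (Subgroup.card_map_of_injective (MulAut.conj g).injective).ge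
        rintro _ ⟨b, hb, rfl⟩
        exact (Subgroup.mem_normalizer_iff.1 (le_normalizer_pCoreOf L hg) b).1 hb
      rw [e2] at h2
      exact uniq h2 h
    have hLeq := le_antisymm hLM (hL.le_of_ge h.maxLoc.prop hLM)
    subst hLeq
    exact h.ne hTD
  have hsyl : ∀ L R : Subgroup G, IsMaxLoc L → R ≤ L → IsPGroup 2 R →
      ∃ S : Sylow 2 G, R ≤ (S : Subgroup G) ∧ (S : Subgroup G) ≤ L := by
    intro L R hL hRL hR
    obtain ⟨T, hRT, hTL, hT, hmax⟩ := exists_max_two hR hRL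
    obtain ⟨S, hS⟩ := sylT (hall L T hL hTL hT hmax)
    exact ⟨S, hS.symm ▸ hRT, hS.symm ▸ hTL⟩
  have hunique : ∀ (L₁ L₂ : Subgroup G) (S : Sylow 2 G), IsMaxLoc L₁ → IsMaxLoc L₂ →
      (S : Subgroup G) ≤ L₁ → (S : Subgroup G) ≤ L₂ → L₁ = L₂ := by
    intro L₁ L₂ S h1 h2 hS1 hS2
    exact uniq (hall L₁ S h1 hS1 S.2 fun R hR h' _ => S.3 hR h')
      (hall L₂ S h2 hS2 S.2 fun R hR h' _ => S.3 hR h')
  -- distinct maximal locals meet in a subgroup of odd order
  have hodd : ∀ n : ℕ, ∀ L₁ L₂ R : Subgroup G, IsMaxLoc L₁ → IsMaxLoc L₂ → L₁ ≠ L₂ → R ≤ L₁ →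
      R ≤ L₂ → IsPGroup 2 R → R ≠ ⊥ → Nat.card G ≤ n + Nat.card R → False := by
    intro n
    induction n with
    | zero =>
      intro L₁ L₂ R hL₁ _ _ hR1 _ _ _ hn
      have h1 : R = ⊤ := Subgroup.eq_top_of_card_eq R
        (le_antisymm (Subgroup.card_le_card_group R) (by omega))
      exact hC.ne_top_of_isLoc hL₁.prop (top_le_iff.1 (h1 ▸ hR1))
    | succ n ih =>
      intro L₁ L₂ R hL₁ hL₂ hne hR1 hR2 hR hRne hn
      obtain ⟨L₃, hL₃, hN⟩ := exists_maxLoc_normalizer hR hRne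
      have grow : ∀ (L : Subgroup G), IsMaxLoc L → R ≤ L → L ≠ L₃ → (∀ S : Sylow 2 G, (S : Subgroup G) = R → False) → False := by
        intro L hL hRL hne' hnotS
        obtain ⟨S, hRS, hSL⟩ := hsyl L R hL hRL hR
        obtain ⟨g, hgS, hgN, hgR⟩ := exists_normalizer_notMem S.2
          (lt_of_le_of_ne hRS fun e => hnotS S e.symm)
        have hlt : R < R ⊔ Subgroup.zpowers g :=
          lt_of_le_of_ne le_sup_left fun e => hgR (e ▸ le_sup_right (a := R) (Subgroup.mem_zpowers g))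
        refine ih L L₃ (R ⊔ Subgroup.zpowers g) hL hL₃ hne'
          (sup_le hRL (Subgroup.zpowers_le.2 (hSL hgS)))
          (sup_le (Subgroup.le_normalizer.trans hN) (Subgroup.zpowers_le.2 (hN hgN)))
          (S.2.to_le (sup_le hRS (Subgroup.zpowers_le.2 hgS))) ?_ ?_
        · exact fun e => hRne (le_bot_iff.1 (e ▸ le_sup_left))
        · have := two_mul_card_le hlt
          have := Nat.card_pos (α := R)
          omega
      have hnotS : ∀ S : Sylow 2 G, (S : Subgroup G) = R → False := fun S e =>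
        hne (hunique L₁ L₂ S hL₁ hL₂ (e ▸ hR1) (e ▸ hR2))
      by_cases e1 : L₁ = L₃
      · exact grow L₂ hL₂ hR2 (fun e2 => hne (e1.trans e2.symm)) hnotS
      · exact grow L₁ hL₁ hR1 e1 hnotS
  -- two involutions of `M₀` are conjugate in `M₀`
  have hse : ∀ g t : G, t ∈ M₀ → orderOf t = 2 → g * t * g⁻¹ ∈ M₀ → g ∈ M₀ := by
    intro g t ht ht2 hg
    by_contra hgM
    have hne : M₀.map (MulAut.conj g⁻¹).toMonoidHom ≠ M₀ := by
      intro e
      apply hgM
      have h1 : g⁻¹ ∈ Subgroup.normalizer (pCoreOf 2 M₀ : Set G) :=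
        mem_normalizer_of_map_conj (by rw [← map_conj_pCoreOf, e])
      rw [h₀.maxLoc.normalizer_core] at h1
      simpa using M₀.inv_mem h1
    refine hodd (Nat.card G) _ _ (Subgroup.zpowers t) (h₀.maxLoc.map_conj g⁻¹) h₀.maxLoc hne
      (Subgroup.zpowers_le.2 ⟨g * t * g⁻¹, hg, by simp [mul_assoc]⟩) (Subgroup.zpowers_le.2 ht)
      (IsPGroup.of_card (n := 1) (by rw [pow_one, Nat.card_zpowers, ht2])) ?_ (Nat.le_add_right _ _)
    rw [Ne, Subgroup.zpowers_eq_bot]
    exact fun e => by rw [e, orderOf_one] at ht2; omega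
  obtain ⟨v, hvM, hvD, hv2⟩ := h₀.exists_invol hC
  obtain ⟨⟨u, huW⟩, hune⟩ := Subgroup.ne_bot_iff_exists_ne_one.1
    (omegaZ_ne_bot (isPGroup_pCoreOf M₀) h₀.maxLoc.core_ne_bot)
  have hu2 : orderOf u = 2 :=
    orderOf_eq_prime (by rw [pow_two]; exact huW.2.1) (fun e => hune (Subtype.ext e))
  have huM : u ∈ M₀ := pCoreOf_le M₀ huW.1
  have hM₀ := hC.ne_top_of_isLoc h₀.maxLoc.prop
  obtain ⟨t, ht2, htM⟩ : ∃ t : G, orderOf t = 2 ∧ t ∉ M₀ := by
    by_contra! hall2
    have := hC.simple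
    have h1 : Subgroup.normalClosure {u} ≤ M₀ := by
      rw [Subgroup.normalClosure, Subgroup.closure_le]
      intro y hy
      obtain ⟨_, rfl, hc⟩ := Group.mem_conjugatesOfSet_iff.1 hy
      obtain ⟨c, rfl⟩ := isConj_iff.1 hc
      exact hall2 _ (by rw [Involutions.orderOf_conj, hu2])
    rcases (Subgroup.normalClosure_normal : (Subgroup.normalClosure {u}).Normal).eq_bot_or_eq_top with e | e
    · refine hune (Subtype.ext ?_)
      have := Subgroup.subset_normalClosure (Set.mem_singleton u)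
      rw [e] at this
      exact this
    · exact hM₀ (top_le_iff.1 (e ▸ h1))
  have hconjt : ∀ w ∈ M₀, orderOf w = 2 → IsConj w t := by
    intro w hw hw2
    by_contra hnc
    obtain ⟨z, hz2, hzw, hzt, -⟩ := Involutions.exists_commuting_involution hw2 ht2 hnc
    have hzM : z ∈ M₀ := hse z w hw hw2 (by rw [hzw, mul_inv_cancel_right]; exact hw)
    exact htM (hse t z hzM hz2 (by rw [← hzt, mul_inv_cancel_right]; exact hzM))
  obtain ⟨g, hg⟩ := isConj_iff.1 ((hconjt u huM hu2).trans (hconjt v hvM hv2).symm)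
  refine hvD ?_
  rw [← hg]
  exact (Subgroup.mem_normalizer_iff.1 (le_normalizer_pCoreOf M₀ (hse g u huM hu2 (hg ▸ hvM))) u).1 huW.1

end CfsgLib.CIT
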