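import Cfsg.Agent.Lib.CIT.Sect

/-!
Maximal 2-locals whose core is abelian with natural `Ω₁`.
-/

set_option autoImplicit false

open Cfsg CfsgLib.PrimeElementOrders

namespace CfsgLib.CIT

universe u

variable {G : Type u} [Group G]

/-- The quotient by the core is `SL₂(q)`-like and `Ω₁` of the abelian core is its natural module. -/
structure E2Data (M T : Subgroup G) (q : ℕ) : Prop where
  loc : LocData M T
  simpleQ : IsSimpleGroup (Qt M)
  comm : ∀ a ∈ pCoreOf 2 M, ∀ b ∈ pCoreOf 2 M, a * b = b * a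
  four_le : 4 ≤ q
  pow_two : ∃ n : ℕ, q = 2 ^ n
  card_V : Nat.card (omegaZ (pCoreOf 2 M)) = q ^ 2
  card_T : Nat.card T = Nat.card (pCoreOf 2 M) * q
  card_W : Nat.card (omegaZ T) = q
  sqT : ∀ τ ∈ T, τ * τ ∈ pCoreOf 2 M
  fix : ∀ τ ∈ T, τ ∉ pCoreOf 2 M → ∀ v ∈ omegaZ (pCoreOf 2 M), Commute τ v → v ∈ omegaZ T
  comm_mem : ∀ τ ∈ T, ∀ v ∈ omegaZ (pCoreOf 2 M), τ * v * τ⁻¹ * v⁻¹ ∈ omegaZ T
  weight : ∀ g ∈ M, g ∈ Subgroup.normalizer (T : Set G) → ∀ a ∈ T, ∀ v ∈ omegaZ (pCoreOf 2 M),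
    g * a * g⁻¹ * v * (g * a * g⁻¹)⁻¹ * v⁻¹ = g * g * (a * v * a⁻¹ * v⁻¹) * (g * g)⁻¹
  fuse : ∀ v ∈ omegaZ (pCoreOf 2 M), ∃ m ∈ M, m * v * m⁻¹ ∈ omegaZ T
  card_M : Nat.card M = Nat.card (pCoreOf 2 M) * ((q + 1) * (q * (q - 1)))
  card_NT : Nat.card ↥(M ⊓ Subgroup.normalizer (T : Set G)) = Nat.card T * (q - 1)
  offender : ∃ A, ThompsonJ.IsMaxEA 2 T A ∧ ¬ A ≤ pCoreOf 2 M

namespace E2Data

variable {M T : Subgroup G} {q : ℕ}

theorem mem_omega (h : E2Data M T q) {a : G} (ha : a ∈ pCoreOf 2 M) (ha2 : a * a = 1) :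
    a ∈ omegaZ (pCoreOf 2 M) :=
  ⟨ha, ha2, fun b hb => h.comm a ha b hb⟩

theorem omegaT_le (h : E2Data M T q) [Finite G] (hC : Ctx G) :
    omegaZ T ≤ omegaZ (pCoreOf 2 M) := h.loc.omegaZ_T_le hC

theorem isElem_omega (M : Subgroup G) : IsElementaryAbelian 2 (omegaZ (pCoreOf 2 M)) :=
  ThompsonJ.isElementaryAbelian_iff.2
    ⟨fun a ha b hb => (ha.2.2 b hb.1).symm, fun a ha => by rw [_root_.pow_two]; exact ha.2.1⟩

variable [Finite G]

theorem card_elem_le (h : E2Data M T q) {E : Subgroup G} (hET : E ≤ T)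
    (hE : IsElementaryAbelian 2 E) : Nat.card E ≤ q ^ 2 := by
  have hsq : ∀ a ∈ E, a * a = 1 := fun a ha => by
    rw [← _root_.pow_two]; exact (ThompsonJ.isElementaryAbelian_iff.1 hE).2 a ha
  by_cases hED : E ≤ pCoreOf 2 M
  · rw [← h.card_V]
    exact Subgroup.card_le_of_le fun a ha => h.mem_omega (hED ha) (hsq a ha)
  obtain ⟨τ, hτE, hτD⟩ := SetLike.not_le_iff_exists.1 hED
  have h1 : Nat.card ↥(E ⊓ pCoreOf 2 M) ≤ q := by
    rw [← h.card_W]
    exact Subgroup.card_le_of_le fun v hv => h.fix τ (hET hτE) hτD v (h.mem_omega hv.2 (hsq v hv.1))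
      (ThompsonJ.isElementaryAbelian_comm hE hτE hv.1)
  have h2 := (card_mul_card_le E (pCoreOf 2 M)).trans
    (Nat.mul_le_mul (Subgroup.card_le_of_le (sup_le hET h.loc.core_le)) h1)
  rw [h.card_T, mul_comm (Nat.card (pCoreOf 2 M)) q, mul_comm (Nat.card E)] at h2
  rw [_root_.pow_two]
  refine Nat.le_of_mul_le_mul_left ?_ (Nat.card_pos (α := pCoreOf 2 M))
  linarith

theorem isMaxEA (h : E2Data M T q) : ThompsonJ.IsMaxEA 2 T (omegaZ (pCoreOf 2 M)) :=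
  ⟨(omegaZ_le _).trans h.loc.core_le, isElem_omega M,
    fun _ hB hBe => h.card_V ▸ h.card_elem_le hB hBe⟩

end E2Data

variable [Finite G]

theorem SimpleData.exists_e2 {M T A : Subgroup G} (hC : Ctx G) (h : SimpleData M T)
    (hA : ThompsonJ.IsMaxEA 2 T A) (hAD : ¬ A ≤ pCoreOf 2 M) : ∃ q, E2Data M T q := by
  have := nontrivial_vm h.loc.maxLoc
  obtain ⟨S, hS⟩ := h.loc.exists_qt_sylow
  obtain ⟨z, E⟩ := h.eset S
  have N := h.natV hC hA hAD hS
  obtain ⟨s, t, w, g₀, Gn⟩ := E.exists_natGen N.sq N.card_S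
  have hV := hC.fpfAct M
  set D := pCoreOf 2 M
  have hcomm := h.core_comm hC N Gn
  set q := Nat.card (S : Subgroup (Qt M)) with hq
  set π := QuotientGroup.mk' (pCore 2 M)
  have hπ : Function.Surjective π := QuotientGroup.mk'_surjective _
  -- lifting statements
  have hfixiff : ∀ v : Vm M, v ∈ fixedBy (Vm M) (S : Subgroup (Qt M)) ↔ (v : G) ∈ omegaZ T := by
    intro v
    constructor
    · intro hv
      exact ⟨h.loc.core_le v.2.1, v.2.2.1, fun τ hτ =>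
        ((smul_mk_eq_iff ⟨τ, h.loc.T_le hτ⟩ v).1 (hv _ ((hS _).2 hτ))).eq.symm⟩
    · intro hv σ hσ
      obtain ⟨τ, rfl⟩ := QuotientGroup.mk_surjective σ
      exact (smul_mk_eq_iff τ v).2 (hv.2.2 _ ((hS τ).1 hσ)).symm
  have hdelta : ∀ (τ : M) (v : Vm M), ((delta (Vm M) (QuotientGroup.mk τ : Qt M) v : Vm M) : G) =
      (τ : G) * v * (τ : G)⁻¹ * (v : G)⁻¹ := by
    intro τ v
    show ((((QuotientGroup.mk τ : Qt M) • v) * v : Vm M) : G) = _
    rw [Subgroup.coe_mul, coe_smul_mk, inv_eq_of_mul_eq_one_right v.2.2.1]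
  have hcore : ∀ m : M, m ∈ pCore 2 M ↔ π m = 1 := fun m => (QuotientGroup.eq_one_iff m).symm
  have hDc : Nat.card (pCore 2 M) = Nat.card D :=
    (Subgroup.card_map_of_injective M.subtype_injective).symm
  have hqM : Nat.card (Qt M) * Nat.card D = Nat.card M := by
    rw [← hDc, ← Subgroup.card_eq_card_quotient_mul_card_subgroup]
  have hcomap : ∀ K : Subgroup (Qt M), Nat.card (K.comap π) = Nat.card D * Nat.card K := by
    intro K
    have h1 := (K.comap π).index_mul_card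
    rw [Subgroup.index_comap_of_surjective K hπ] at h1
    have h2 := K.index_mul_card
    have h3 : K.index ≠ 0 := Subgroup.index_ne_zero_of_finite
    refine Nat.eq_of_mul_eq_mul_left (Nat.pos_of_ne_zero h3) ?_
    rw [h1, ← hqM, ← h2]; ring
  have hT : (S : Subgroup (Qt M)).comap π = T.subgroupOf M := by
    ext m; exact hS m
  have hNT : (Subgroup.normalizer ((S : Subgroup (Qt M)) : Set (Qt M))).comap π =
      (M ⊓ Subgroup.normalizer (T : Set G)).subgroupOf M := by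
    ext m
    rw [Subgroup.mem_comap, Subgroup.mem_subgroupOf, Subgroup.mem_inf, Subgroup.mem_normalizer_iff,
      Subgroup.mem_normalizer_iff]
    constructor
    · intro hm
      refine ⟨m.2, fun a => ⟨fun ha => ?_, fun ha => ?_⟩⟩
      · have := (hm (π ⟨a, h.loc.T_le ha⟩)).1 ((hS _).2 ha)
        rw [← map_inv, ← map_mul, ← map_mul] at this
        exact (hS (m * (⟨a, h.loc.T_le ha⟩ : M) * m⁻¹)).1 this
      · have haM : a ∈ M := by
          have := M.mul_mem (M.mul_mem (M.inv_mem m.2) (h.loc.T_le ha)) m.2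
          simpa [mul_assoc] using this
        refine (hS ⟨a, haM⟩).1 ((hm (π ⟨a, haM⟩)).2 ?_)
        rw [← map_inv, ← map_mul, ← map_mul]
        exact (hS (m * (⟨a, haM⟩ : M) * m⁻¹)).2 ha
    · intro hm σ
      obtain ⟨a, rfl⟩ := hπ σ
      show QuotientGroup.mk a ∈ (S : Subgroup (Qt M)) ↔ QuotientGroup.mk (m * a * m⁻¹) ∈ (S : Subgroup (Qt M))
      rw [hS, hS]
      exact hm.2 _
  have hm1 : TIConfig.m (Subgroup.normalizer ((S : Subgroup (Qt M)) : Set (Qt M))) (S : Subgroup (Qt M)) =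
      q - 1 := by
    have := N.card_S
    omega
  refine ⟨q, h.loc, E.simple, hcomm, ?_, IsPGroup.iff_card.1 S.2, N.card_V, ?_, ?_, fun τ hτ => ?_,
    fun τ hτ hτD v hv hc => ?_, fun τ hτ v hv => ?_, fun g hg hgT a ha v hv => ?_, fun v hv => ?_, ?_, ?_,
    ?_⟩
  · have h1 := E.four_le_succ_m
    rwa [← N.card_S] at h1
  · rw [← Nat.card_congr (Subgroup.subgroupOfEquivOfLe h.loc.T_le).toEquiv, ← hT, hcomap]
  · refine (Nat.card_congr ?_).trans N.card_fix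
    exact
      { toFun := fun v => ⟨⟨v, h.loc.omegaZ_T_le hC v.2⟩, (hfixiff _).2 v.2⟩
        invFun := fun v => ⟨((v : Vm M) : G), (hfixiff _).1 v.2⟩
        left_inv := fun v => rfl
        right_inv := fun v => rfl }
  · have h1 := N.sq _ ((hS ⟨τ, h.loc.T_le hτ⟩).2 hτ)
    rw [← QuotientGroup.mk_mul, qmk_eq_one_iff] at h1
    exact h1
  · refine (hfixiff ⟨v, hv⟩).1 ?_
    rw [← N.fix_eq _ ((hS ⟨τ, h.loc.T_le hτ⟩).2 hτ) fun e => hτD ((qmk_eq_one_iff _).1 e)]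
    exact (smul_mk_eq_iff _ _).2 hc
  · have h1 := (hfixiff _).1 (N.delta_mem _ ((hS ⟨τ, h.loc.T_le hτ⟩).2 hτ) ⟨v, hv⟩)
    rw [← hdelta ⟨τ, h.loc.T_le hτ⟩ ⟨v, hv⟩]
    exact h1
  · have hgS : π ⟨g, hg⟩ ∈ Subgroup.normalizer ((S : Subgroup (Qt M)) : Set (Qt M)) := by
      rw [← Subgroup.mem_comap, hNT]
      exact ⟨hg, hgT⟩
    have h1 := E.delta_conj hV N Gn hgS ((hS ⟨a, h.loc.T_le ha⟩).2 ha) (⟨v, hv⟩ : Vm M)
    rw [QuotientGroup.mk'_apply, ← QuotientGroup.mk_inv, ← QuotientGroup.mk_mul, ← QuotientGroup.mk_mul,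
      smul_smul, ← QuotientGroup.mk_mul, Subtype.ext_iff, hdelta, coe_smul_mk, hdelta] at h1
    exact h1
  · obtain ⟨σ, hσ⟩ := Gn.exists_smul_mem_fix hV N (⟨v, hv⟩ : Vm M)
    obtain ⟨m, rfl⟩ := QuotientGroup.mk_surjective σ
    refine ⟨m, m.2, ?_⟩
    have h1 := (hfixiff _).1 hσ
    rwa [coe_smul_mk] at h1
  · rw [← hqM, E.conf.card_eq E.one_lt, ← hq, hm1]; ring
  · rw [← Nat.card_congr (Subgroup.subgroupOfEquivOfLe (inf_le_left :
      M ⊓ Subgroup.normalizer (T : Set G) ≤ M)).toEquiv, ← hNT, hcomap,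
      E.conf.card_M, hm1, ← hq, ← Nat.card_congr (Subgroup.subgroupOfEquivOfLe h.loc.T_le).toEquiv, ← hT,
      hcomap]
    ring
  · exact ⟨A, hA, hAD⟩

end CfsgLib.CIT
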