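import Cfsg.Agent.Lib.CIT.Outcome
import Cfsg.Agent.Lib.TwoGroups.RankOne
import Cfsg.Agent.Lib.AltGroups.MinimalNormalProduct
import Cfsg.Agent.Lib.Cores.MinimalNormal

/-!
A CIT group with trivial 2-core acting fixed-point-freely: either its Sylow 2-subgroups are cyclic
or it is simple; in both cases they meet trivially.
-/

set_option autoImplicit false

open Cfsg
open scoped Pointwise

namespace CfsgLib.CIT

variable {L V : Type*} [Group L] [Finite L] [CommGroup V] [MulDistribMulAction L V] [Finite V]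
  [Nontrivial V]

omit [Finite V] [Nontrivial V] in
theorem FPFAct.eq_one_of_trivial (h : FPFAct L V) [Nontrivial V] (hO : pCore 2 L = ⊥) {a : L}
    (ha : ∀ v : V, a • v = v) : a = 1 := by
  have : Fact (Nat.Prime 2) := ⟨Nat.prime_two⟩
  set K := (MulDistribMulAction.toMulAut L V).ker
  have hK : IsPGroup 2 K := by
    rw [IsPGroup.iff_card]
    by_contra hcon
    obtain ⟨p, hp, hpd, hp2⟩ : ∃ p, Nat.Prime p ∧ p ∣ Nat.card K ∧ p ≠ 2 := by
      by_contra! hall
      exact hcon ⟨_, Nat.eq_prime_pow_of_unique_prime_dvd Nat.card_pos.ne' fun hq hd => hall _ hq hd⟩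
    have : Fact p.Prime := ⟨hp⟩
    obtain ⟨⟨x, hxK⟩, hx⟩ := exists_prime_orderOf_dvd_card' p hpd
    rw [Subgroup.orderOf_mk] at hx
    obtain ⟨v, hv⟩ := exists_ne (1 : V)
    refine hv (h.fpf x (hx ▸ hp.odd_of_ne_two hp2) (fun e => ?_) v ?_)
    · rw [e, orderOf_one] at hx
      exact hp.one_lt.ne hx
    · exact congrArg (fun φ : MulAut V => φ v) (MonoidHom.mem_ker.1 hxK)
  have h1 : K ≤ pCore 2 L := Cores.le_pCore hK
  rw [hO, le_bot_iff] at h1
  have h2 : a ∈ K := MonoidHom.mem_ker.2 (MulEquiv.ext ha)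
  rwa [h1, Subgroup.mem_bot] at h2

omit [Finite L] in
theorem commute_mulAut_of_cyclic {K : Type*} [Group K] [IsCyclic K] (α β : MulAut K) : α * β = β * α := by
  obtain ⟨g, hg⟩ := IsCyclic.exists_generator (α := K)
  obtain ⟨i, hi⟩ := Subgroup.mem_zpowers_iff.1 (hg (α g))
  obtain ⟨j, hj⟩ := Subgroup.mem_zpowers_iff.1 (hg (β g))
  refine MulEquiv.ext fun x => ?_
  obtain ⟨n, rfl⟩ := Subgroup.mem_zpowers_iff.1 (hg x)
  simp only [MulAut.mul_apply, map_zpow]
  congr 1
  rw [← hi, ← hj, map_zpow, map_zpow, ← hi, ← hj, ← zpow_mul, ← zpow_mul, mul_comm]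

/-- The case of a non-trivial odd core. -/
theorem FPFAct.cyclic_sylow (h : FPFAct L V) (hL : IsCIT L) (hK : oddCore L ≠ ⊥) :
    TISylow L ∧ ∀ S : Sylow 2 L, IsCyclic S := by
  have : Fact (Nat.Prime 2) := ⟨Nat.prime_two⟩
  set K := oddCore L with hKdef
  have hKodd : Odd (Nat.card K) := Cores.odd_card_oddCore
  have hKN : ∀ a : L, a ∈ Subgroup.normalizer (K : Set L) := fun a => by
    rw [(Subgroup.normalizer_eq_top_iff.2 (by rw [hKdef]; infer_instance) : _ = ⊤)]
    trivial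
  have hoddmem : ∀ x ∈ K, Odd (orderOf x) := fun x hx =>
    hKodd.of_dvd_nat (Subgroup.orderOf_dvd_natCard K hx)
  have hinv : ∀ t : L, orderOf t = 2 → ∀ x ∈ K, t * x * t⁻¹ = x⁻¹ := by
    intro t ht x hx
    refine Cores.involution_inverts (hKN t) (Involutions.mul_self_eq_one ht) ?_ hx
    rw [Subgroup.eq_bot_iff_forall]
    rintro y ⟨hy, hyt⟩
    exact hL.eq_one_of_commute (by rw [ht]) (hoddmem y hy) (Subgroup.mem_centralizer_singleton_iff.1 hyt).symm
  -- commuting involutions are equal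
  have huniq : ∀ t u : L, orderOf t = 2 → orderOf u = 2 → t * u = u * t → t = u := by
    intro t u ht hu htu
    by_contra hne
    have h2 : orderOf (t * u) = 2 := by
      refine Involutions.orderOf_eq_two_iff.2 ⟨?_, fun e => hne ?_⟩
      · rw [mul_assoc, ← mul_assoc u, ← htu, mul_assoc t u u, Involutions.mul_self_eq_one hu, mul_one,
          Involutions.mul_self_eq_one ht]
      · rw [mul_eq_one_iff_eq_inv.1 e, Involutions.inv_eq_self hu]
    refine hK ((Subgroup.eq_bot_iff_forall _).2 fun x hx => ?_)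
    refine hL.eq_one_of_commute (a := t * u) (by rw [h2]) (hoddmem x hx) ?_
    show t * u * x = x * (t * u)
    rw [← mul_inv_eq_iff_eq_mul, show t * u * x * (t * u)⁻¹ = t * (u * x * u⁻¹) * t⁻¹ by group,
      hinv u hu x hx, show t * x⁻¹ * t⁻¹ = (t * x * t⁻¹)⁻¹ by group, hinv t ht x hx, inv_inv]
  have hsyl : ∀ (S : Sylow 2 L) (t : L), orderOf t = 2 → t ∈ (S : Subgroup L) →
      Subgroup.centralizer ({t} : Set L) = (S : Subgroup L) := by
    intro S t ht htS
    obtain ⟨z, hzS, hz, hzc⟩ := exists_central_involution S (fun e => by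
      rw [e, Subgroup.mem_bot] at htS
      exact Involutions.ne_one ht htS)
    rw [huniq t z ht hz (hzc t htS)]
    exact hL.centralizer_eq_sylow hz hzc
  refine ⟨fun S S' hne => ?_, fun S => ?_⟩
  · obtain ⟨⟨a, ha⟩, ha1⟩ := Subgroup.ne_bot_iff_exists_ne_one.1 hne
    obtain ⟨n, hn⟩ := (IsPGroup.iff_card.1 (S.2.to_le (inf_le_left : (S : Subgroup L) ⊓ S' ≤ S)))
    obtain ⟨⟨t, ht⟩, hto⟩ := exists_prime_orderOf_dvd_card' (G := ↥((S : Subgroup L) ⊓ S')) 2 (by
      rcases n with _ | n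
      · exfalso
        have h1 := Subgroup.eq_bot_of_card_eq ((S : Subgroup L) ⊓ S') (by rw [hn, pow_zero])
        exact hne h1
      · exact hn ▸ dvd_pow_self 2 n.succ_ne_zero)
    rw [Subgroup.orderOf_mk] at hto
    exact Sylow.ext ((hsyl S t hto ht.1).symm.trans (hsyl S' t hto ht.2))
  by_cases hSbot : (S : Subgroup L) = ⊥
  · rw [hSbot]; infer_instance
  obtain ⟨z, hzS, hz, -⟩ := exists_central_involution S hSbot
  have hKcomm : IsMulCommutative K := ⟨⟨fun a b => Subtype.ext (by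
    have e := hinv z hz (a * b : K) (a * b).2
    simp only [Subgroup.coe_mul] at e ⊢
    rw [show z * ((a : L) * b) * z⁻¹ = (z * a * z⁻¹) * (z * b * z⁻¹) by group, hinv z hz a a.2,
      hinv z hz b b.2, ← mul_inv_rev] at e
    exact (inv_injective e).symm)⟩⟩
  have := h.isCyclic K hKodd
  have hCK : ∀ a ∈ (S : Subgroup L), (∀ x ∈ K, a * x * a⁻¹ = x) → a = 1 := by
    intro a ha hc
    by_contra h1
    refine hK ((Subgroup.eq_bot_iff_forall _).2 fun x hx => ?_)
    exact hL.eq_one_of_commute (two_dvd_orderOf_of_mem S.2 ha h1) (hoddmem x hx)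
      (mul_inv_eq_iff_eq_mul.1 (hc x hx))
  have hcomm : IsMulCommutative (S : Subgroup L) := ⟨⟨fun a b => by
    let φ : L →* MulAut K := K.normalizerMonoidHom.comp
      (MonoidHom.id L |>.codRestrict _ hKN)
    have e := commute_mulAut_of_cyclic (φ a) (φ b)
    rw [← map_mul, ← map_mul] at e
    refine Subtype.ext ?_
    simp only [Subgroup.coe_mul]
    have h1 := hCK (((b : L) * a)⁻¹ * ((a : L) * b))
      ((S : Subgroup L).mul_mem ((S : Subgroup L).inv_mem ((S : Subgroup L).mul_mem b.2 a.2))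
        ((S : Subgroup L).mul_mem a.2 b.2)) fun x hx => ?_
    · exact (inv_mul_eq_one.1 h1).symm
    · have e2 : φ (((b : L) * a)⁻¹ * ((a : L) * b)) = 1 := by rw [map_mul, map_inv, e, inv_mul_cancel]
      exact congrArg Subtype.val (congrArg (fun ψ : MulAut K => ψ ⟨x, hx⟩) e2)⟩⟩
  open scoped IsMulCommutative in
  exact TwoGroups.isCyclic_of_uniqueOrderP_comm (H := ↥(S : Subgroup L)) S.2
    (TwoGroups.uniqueOrderP_iff_unique_involution.2 fun a b ha hb => Subtype.ext
      (huniq a b (by rw [Subgroup.orderOf_coe]; exact ha) (by rw [Subgroup.orderOf_coe]; exact hb)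
        (congrArg Subtype.val (hcomm.is_comm.comm a b))))

omit [Finite V] [Nontrivial V] in
/-- A normal simple subgroup with Sylow intersections trivial is everything. -/
theorem eq_top_of_tiSylow (hL : IsCIT L) (N : Subgroup L) [N.Normal] (hsimple : IsSimpleGroup N)
    (hcent : ∀ a : L, (∀ n ∈ N, a * n = n * a) → a = 1) (h2 : 2 ∣ Nat.card N) (hTI : TISylow N)
    (hOdd : oddCore N = ⊥) (hO : pCore 2 N = ⊥) : N = ⊤ := by
  have : Fact (Nat.Prime 2) := ⟨Nat.prime_two⟩
  have hCN : IsCIT N := hL.subgroup N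
  -- Sylow subgroups of `L` meet `N` in Sylow subgroups
  have hinter : ∀ S : Sylow 2 L, ∃ SN : Sylow 2 N, (SN : Subgroup N) = (S : Subgroup L).subgroupOf N := by
    intro S
    obtain ⟨P, hP⟩ := (S.2.comap_subtype : IsPGroup 2 ((S : Subgroup L).subgroupOf N)).exists_le_sylow
    refine ⟨P, (Subgroup.eq_of_le_of_card_ge hP ?_).symm⟩
    obtain ⟨S', hS'⟩ := ((P.2.map N.subtype)).exists_le_sylow
    obtain ⟨g, rfl⟩ := MulAction.exists_smul_eq L S S'
    show Nat.card (P : Subgroup N) ≤ Nat.card ↥((S : Subgroup L).subgroupOf N)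
    rw [← Subgroup.card_map_of_injective N.subtype_injective (K := (P : Subgroup N)),
      ← Subgroup.card_map_of_injective N.subtype_injective (K := (S : Subgroup L).subgroupOf N),
      Subgroup.subgroupOf_map_subtype, ← Subgroup.card_map_of_injective (f := (MulAut.conj g).toMonoidHom) (MulAut.conj g).injective
        (K := (S : Subgroup L) ⊓ N)]
    refine Subgroup.card_le_of_le fun x hx => ?_
    have hxS := hS' hx
    rw [Sylow.coe_subgroup_smul] at hxS
    obtain ⟨y, hy, rfl⟩ := hxS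
    refine ⟨y, ⟨hy, ?_⟩, rfl⟩
    obtain ⟨p, hp, e⟩ := hx
    have h1 : g * y * g⁻¹ ∈ N := by
      have : (p : L) = g * y * g⁻¹ := e
      exact this ▸ p.2
    have h2 := Subgroup.Normal.conj_mem inferInstance _ h1 g⁻¹
    simpa [mul_assoc] using h2
  -- elements of 2-power order lie in `N`
  have hS : ∀ S : Sylow 2 L, (S : Subgroup L) ≤ N := by
    intro S u huS
    by_contra huN
    obtain ⟨SN, hSN⟩ := hinter S
    obtain ⟨z, hzS, hzc, hc⟩ := hTI.tiConfig hCN hO h2 SN
    set M := Subgroup.normalizer ((SN : Subgroup N) : Set N) with hM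
    have hm : 1 < TIConfig.m M (SN : Subgroup N) := by
      by_contra hcon
      obtain ⟨K, hK, hKodd, hKne⟩ := hTI.exists_complement hCN hO h2 SN
        (le_antisymm (not_lt.1 hcon) TIConfig.m_pos)
      exact hKne (le_bot_iff.1 (hOdd ▸ Cores.le_oddCore hKodd))
    have hSNmem : ∀ a : N, a ∈ (SN : Subgroup N) ↔ (a : L) ∈ (S : Subgroup L) := fun a => by
      rw [hSN, Subgroup.mem_subgroupOf]
    -- conjugation by `u` preserves `M`
    let θ : L → N → N := fun a n => ⟨a * n * a⁻¹, Subgroup.Normal.conj_mem inferInstance _ n.2 a⟩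
    have hθmul : ∀ (a : L) (m n : N), θ a (m * n) = θ a m * θ a n := fun a m n => Subtype.ext (by
      simp [θ, mul_assoc])
    have hθθ : ∀ (a b : L) (n : N), θ a (θ b n) = θ (a * b) n := fun a b n => Subtype.ext (by
      simp [θ, mul_assoc])
    have hθone : ∀ n : N, θ 1 n = n := fun n => Subtype.ext (by simp [θ])
    have hθconj : ∀ (b n : N), θ (b : L) n = b * n * b⁻¹ := fun b n => Subtype.ext rfl
    have hθM : ∀ a ∈ (S : Subgroup L), ∀ n ∈ M, θ a n ∈ M := by
      intro a ha n hn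
      have hpres : ∀ a ∈ (S : Subgroup L), ∀ y : N, y ∈ (SN : Subgroup N) → θ a y ∈ (SN : Subgroup N) :=
        fun a ha y hy => (hSNmem _).2 ((S : Subgroup L).mul_mem ((S : Subgroup L).mul_mem ha ((hSNmem y).1 hy))
          ((S : Subgroup L).inv_mem ha))
      rw [hM, Subgroup.mem_normalizer_iff]
      intro y
      have e : θ a n * y * (θ a n)⁻¹ = θ a (n * θ a⁻¹ y * n⁻¹) := by
        apply Subtype.ext; simp [θ, mul_assoc]
      constructor
      · intro hy
        rw [e]
        exact hpres a ha _ ((Subgroup.mem_normalizer_iff.1 hn _).1 (hpres _ ((S : Subgroup L).inv_mem ha) y hy))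
      · intro hy
        rw [e] at hy
        have h1 := hpres _ ((S : Subgroup L).inv_mem ha) _ hy
        rw [hθθ, inv_mul_cancel, hθone] at h1
        have h2 := hpres a ha _ ((Subgroup.mem_normalizer_iff.1 hn _).2 h1)
        rwa [hθθ, mul_inv_cancel, hθone] at h2
    obtain ⟨ω, hω⟩ := hc.exists_ne_pt
    obtain ⟨g₀, hg₀⟩ := MulAction.exists_smul_eq N (TIConfig.pt M) ω
    have hg₀M : g₀ ∉ M := fun e => hω (hg₀ ▸ (TIConfig.smul_pt_eq g₀).2 e)
    have hθg : θ u g₀ ∉ M := fun e => hg₀M (by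
      have := hθM _ ((S : Subgroup L).inv_mem huS) _ e
      rwa [hθθ, inv_mul_cancel, hθone] at this)
    -- correct `u` to fix a second point
    obtain ⟨g, hgM, hgω⟩ := hc.exists_smul_eq hm hω (ω' := θ u g₀ • TIConfig.pt M)
      (fun e => hθg ((TIConfig.smul_pt_eq _).1 e))
    obtain ⟨b, hb, d, hd, hdω, rfl⟩ := hc.exists_eq_mul hω hgM
    rw [mul_smul, hdω] at hgω
    set v₀ : L := (b : L)⁻¹ * u with hv₀
    have hv₀S : v₀ ∈ (S : Subgroup L) := (S : Subgroup L).mul_mem ((S : Subgroup L).inv_mem ((hSNmem b).1 hb)) huS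
    have hv₀N : v₀ ∉ N := fun e => huN (by simpa [hv₀] using N.mul_mem b.2 e)
    have hfix : g₀⁻¹ * θ v₀ g₀ ∈ M := by
      have e1 : θ v₀ g₀ • TIConfig.pt M = ω := by
        have e2 : θ v₀ g₀ = b⁻¹ * θ u g₀ * b := by
          rw [hv₀, ← hθθ]; exact Subtype.ext (by simp [θ, mul_assoc])
        rw [e2, mul_smul, mul_smul, (TIConfig.smul_pt_eq b).2 (Subgroup.le_normalizer hb), ← hgω,
          inv_smul_smul]
      rw [← TIConfig.smul_pt_eq, mul_smul, e1, ← hg₀, inv_smul_smul]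
    -- the involution in `⟨v₀⟩`
    obtain ⟨v, hv2, hvpow⟩ : ∃ v : L, orderOf v = 2 ∧ v ∈ Subgroup.zpowers v₀ := by
      have h1 : v₀ ≠ 1 := fun e => hv₀N (e ▸ N.one_mem)
      obtain ⟨c, hc'⟩ := two_dvd_orderOf_of_mem S.2 hv₀S h1
      refine ⟨v₀ ^ c, ?_, Subgroup.pow_mem _ (Subgroup.mem_zpowers _) _⟩
      have hc0 : c ≠ 0 := fun e => (orderOf_pos v₀).ne' (by rw [hc', e, mul_zero])
      rw [orderOf_pow' v₀ hc0, hc', Nat.gcd_mul_left_left, Nat.mul_div_cancel _ (Nat.pos_of_ne_zero hc0)]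
    have hvS : v ∈ (S : Subgroup L) := Subgroup.zpowers_le.2 hv₀S hvpow
    have hvfix : g₀⁻¹ * θ v g₀ ∈ M := by
      obtain ⟨i, hi⟩ := Submonoid.mem_powers_iff _ _ |>.1 (mem_powers_iff_mem_zpowers.2 hvpow)
      subst hi
      clear hv2 hvS hvpow
      induction i with
      | zero =>
        rw [pow_zero, hθone, inv_mul_cancel]; exact M.one_mem
      | succ i ih =>
        have e : g₀⁻¹ * θ (v₀ ^ (i + 1)) g₀ = (g₀⁻¹ * θ v₀ g₀) * θ v₀ (g₀⁻¹ * θ (v₀ ^ i) g₀) := by
          rw [hθmul, pow_succ', ← hθθ]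
          apply Subtype.ext; simp [θ, mul_assoc]
        rw [e]
        exact M.mul_mem hfix (hθM v₀ hv₀S _ ih)
    obtain ⟨t, ht2, htM, htω, hK, htinv⟩ := hc.exists_swap hω
    set D := M ⊓ M.map (MulAut.conj t).toMonoidHom
    have hmemD : ∀ a : N, a ∈ D ↔ a ∈ M ∧ g₀⁻¹ * a * g₀ ∈ M := by
      intro a
      rw [Subgroup.mem_inf, ← TIConfig.smul_smul_pt_eq, htω, ← hg₀, TIConfig.smul_smul_pt_eq,
        Involutions.mem_map_conj]
    have hθD : ∀ a ∈ D, θ v a ∈ D := by
      intro a ha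
      rw [hmemD] at ha ⊢
      refine ⟨hθM v hvS a ha.1, ?_⟩
      have e : g₀⁻¹ * θ v a * g₀ = (g₀⁻¹ * θ v g₀) * θ v (g₀⁻¹ * a * g₀) * (g₀⁻¹ * θ v g₀)⁻¹ := by
        apply Subtype.ext; simp [θ, mul_assoc]
      rw [e]
      exact M.mul_mem (M.mul_mem hvfix (hθM v hvS _ ha.2)) (M.inv_mem hvfix)
    have hDodd : Odd (Nat.card D) := hc.se.2.2 t htM
    have hvinv : ∀ a ∈ D, θ v a = a⁻¹ := by
      intro a ha
      have hc1 : θ v (a * θ v a) = a * θ v a := by
        rw [hθmul, hθθ, Involutions.mul_self_eq_one hv2, hθone]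
        exact hc.commute_of_fix hω (hθD a ha).1 ha.1 ((TIConfig.smul_smul_pt_eq t _).2 (hθD a ha).2 |> (htω ▸ ·))
          ((TIConfig.smul_smul_pt_eq t _).2 ha.2 |> (htω ▸ ·))
      have h1 : ((a * θ v a : N) : L) = 1 := by
        refine hL.eq_one_of_commute (a := v) (by rw [hv2]) ?_ ?_
        · rw [Subgroup.orderOf_coe]
          exact hDodd.of_dvd_nat (Subgroup.orderOf_dvd_natCard D (D.mul_mem ha (hθD a ha)))
        · exact (mul_inv_eq_iff_eq_mul.1 (congrArg Subtype.val hc1))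
      exact (inv_eq_of_mul_eq_one_right (OneMemClass.coe_eq_one.1 h1)).symm
    -- `y = v t` swaps two points and centralises `D`
    set y : L := v * (t : L) with hy
    have hθy : ∀ a, θ y a = θ v (t * a * t⁻¹) := fun a => by rw [hy, ← hθθ, hθconj]
    have hcentD : ∀ a ∈ D, θ y a = a := by
      intro a ha
      rw [hθy, htinv a ha.1 (htω ▸ (TIConfig.smul_smul_pt_eq t a).2 ha.2), hvinv _ (D.inv_mem ha), inv_inv]
    obtain ⟨⟨a, haD⟩, hane⟩ : ∃ a : D, a ≠ 1 := by
      refine Subgroup.ne_bot_iff_exists_ne_one.1 fun e => ?_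
      rw [e, Subgroup.card_bot] at hK
      exact hm.ne hK
    have ha1 : (a : L) ≠ 1 := fun e => hane (Subtype.ext (Subtype.ext e))
    have haodd : Odd (orderOf (a : L)) := by
      rw [Subgroup.orderOf_coe]
      exact hDodd.of_dvd_nat (Subgroup.orderOf_dvd_natCard D haD)
    refine ha1 (hL.eq_one_of_commute (a := y) ?_ haodd (mul_inv_eq_iff_eq_mul.1 (congrArg Subtype.val (hcentD a haD))))
    -- `y` has even order
    by_contra hyodd
    have hfwd : ∀ n : N, n ∈ M → θ y n ∈ M.map (MulAut.conj t).toMonoidHom ∧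
        θ y (θ y n) ∈ M := by
      intro n hn
      have hvt : θ v t ∈ t • (M : Set N) := by
        rw [mem_leftCoset_iff]
        have hg : g₀⁻¹ * t ∈ M := by rw [← TIConfig.smul_pt_eq, mul_smul, htω, ← hg₀, inv_smul_smul]
        have := M.mul_mem (M.mul_mem (M.inv_mem hg) hvfix) (hθM v hvS _ hg)
        rw [hθmul] at this
        rw [show t⁻¹ * θ v t = (g₀⁻¹ * t)⁻¹ * (g₀⁻¹ * θ v g₀) * (θ v g₀⁻¹ * θ v t) by
          rw [show θ v g₀⁻¹ = (θ v g₀)⁻¹ from Subtype.ext (by simp [θ, mul_assoc])]; group]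
        exact this
      rw [mem_leftCoset_iff] at hvt
      have e1 : θ y n = θ v t * θ v n * (θ v t)⁻¹ := by
        rw [hθy]; apply Subtype.ext; simp [θ, mul_assoc]
      have hout : θ y n ∈ M.map (MulAut.conj t).toMonoidHom := by
        rw [Involutions.mem_map_conj, e1,
          show t⁻¹ * (θ v t * θ v n * (θ v t)⁻¹) * t = (t⁻¹ * θ v t) * θ v n * (t⁻¹ * θ v t)⁻¹ by group]
        exact M.mul_mem (M.mul_mem hvt (hθM v hvS n hn)) (M.inv_mem hvt)
      refine ⟨hout, ?_⟩
      rw [hθy]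
      refine hθM v hvS _ ?_
      rw [Involutions.mem_map_conj, Involutions.inv_eq_self ht2] at hout
      rwa [Involutions.inv_eq_self ht2]
    have hyy : ∀ (i : ℕ) (n : N), n ∈ M → θ ((y ^ 2) ^ i) n ∈ M := by
      intro i
      induction i with
      | zero => intro n hn; rwa [pow_zero, hθone]
      | succ i ih =>
        intro n hn
        rw [pow_succ, ← hθθ]
        refine ih _ ?_
        rw [pow_two, ← hθθ]
        exact (hfwd n hn).2
    obtain ⟨j, hj⟩ := Nat.odd_iff.2 (by omega : orderOf y % 2 = 1)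
    have hyeq : y = (y ^ 2) ^ (j + 1) := by
      rw [← pow_mul, show 2 * (j + 1) = orderOf y + 1 by omega, pow_succ, pow_orderOf_eq_one, one_mul]
    -- so `y` stabilises `M`, and so does `t`
    have hzM : z ∈ M := hc.le hzS
    have h1 : θ y z ∈ M := by rw [hyeq]; exact hyy _ z hzM
    have h2 : θ y z ∈ D := ⟨h1, (hfwd z hzM).1⟩
    have h3 : orderOf (θ y z) = 2 := by
      rw [← Subgroup.orderOf_coe]
      show orderOf (y * (z : L) * y⁻¹) = 2
      rw [Involutions.orderOf_conj, Subgroup.orderOf_coe, hc.z_ord]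
    have h4 := Subgroup.orderOf_dvd_natCard D h2
    rw [h3] at h4
    exact Nat.not_even_iff_odd.2 hDodd (even_iff_two_dvd.2 h4)
  -- Frattini
  rw [Subgroup.eq_top_iff']
  intro g
  let S : Sylow 2 L := default
  obtain ⟨SN, hSN⟩ := hinter S
  have hmapS : ((SN : Subgroup N)).map N.subtype = (S : Subgroup L) := by
    rw [hSN, Subgroup.subgroupOf_map_subtype, inf_eq_left.2 (hS S)]
  -- the conjugate Sylow subgroup, seen in `N`
  obtain ⟨SN', hSN'⟩ := hinter (g • S)
  obtain ⟨n, hn⟩ := MulAction.exists_smul_eq N SN' SN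
  set x : L := (n : L) * g with hx
  have hxS : ∀ a ∈ (S : Subgroup L), x * a * x⁻¹ ∈ (S : Subgroup L) := by
    intro a ha
    have h1 : g * a * g⁻¹ ∈ ((g • S : Sylow 2 L) : Subgroup L) := by
      rw [Sylow.coe_subgroup_smul]; exact ⟨a, ha, rfl⟩
    have h2 : (⟨g * a * g⁻¹, hS (g • S) h1⟩ : N) ∈ (SN' : Subgroup N) := by
      rw [hSN', Subgroup.mem_subgroupOf]; exact h1
    have h3 : n * ⟨g * a * g⁻¹, hS (g • S) h1⟩ * n⁻¹ ∈ (SN : Subgroup N) := by
      rw [← hn, Sylow.coe_subgroup_smul]; exact ⟨_, h2, rfl⟩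
    rw [hSN, Subgroup.mem_subgroupOf] at h3
    simpa [hx, mul_assoc] using h3
  obtain ⟨z, hzS, hzc, hc⟩ := hTI.tiConfig hCN hO h2 SN
  have hzL : (z : L) ∈ (S : Subgroup L) := hmapS ▸ ⟨z, hzS, rfl⟩
  have hxz : x * (z : L) * x⁻¹ ∈ (S : Subgroup L) := hxS _ hzL
  obtain ⟨c, hc'⟩ := isConj_iff.1 (hc.isConj_z (v := (⟨x * z * x⁻¹, hS S hxz⟩ : N)) (by
    rw [← Subgroup.orderOf_coe]
    show orderOf (x * (z : L) * x⁻¹) = 2
    rw [Involutions.orderOf_conj, Subgroup.orderOf_coe, hc.z_ord]))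
  have hc'' : (c : L) * z * (c : L)⁻¹ = x * z * x⁻¹ := congrArg Subtype.val hc'
  have hcent' : (c : L)⁻¹ * x ∈ Subgroup.centralizer ({(z : L)} : Set L) := by
    rw [Subgroup.mem_centralizer_singleton_iff]
    calc (c : L)⁻¹ * x * z = (c : L)⁻¹ * (x * z * x⁻¹) * x := by group
      _ = z * ((c : L)⁻¹ * x) := by rw [← hc'']; group
  have hmem : (c : L)⁻¹ * x ∈ N := by
    obtain ⟨P, hP⟩ := (hL (z : L) (by rw [Subgroup.orderOf_coe, hc.z_ord])).exists_le_sylow
    exact hS P (hP hcent')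
  have := N.mul_mem (N.inv_mem n.2) (N.mul_mem c.2 hmem)
  simpa [hx] using this

/-- The structure of a CIT group acting fixed-point-freely with trivial 2-core. -/
theorem FPFAct.structure_cases (h : FPFAct L V) (hL : IsCIT L) (hO : pCore 2 L = ⊥)
    (h2 : 2 ∣ Nat.card L)
    (ih : ∀ N : Subgroup L, IsSimpleGroup N → (∃ a b : N, a * b ≠ b * a) → 2 ∣ Nat.card N → Outcome N) :
    TISylow L ∧ ((∀ S : Sylow 2 L, IsCyclic S) ∨
      (IsSimpleGroup L ∧
        ∀ S : Sylow 2 L, 1 < TIConfig.m (Subgroup.normalizer ((S : Subgroup L) : Set L)) (S : Subgroup L))) := by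
  by_cases hK : oddCore L = ⊥
  swap
  · exact (h.cyclic_sylow hL hK).imp_right Or.inl
  have : Fact (Nat.Prime 2) := ⟨Nat.prime_two⟩
  have hLtop : (⊤ : Subgroup L) ≠ ⊥ := by
    intro e
    rw [← Subgroup.card_top, e, Subgroup.card_bot] at h2
    omega
  obtain ⟨N, hN, -, hNne, hmin⟩ := Cores.exists_minimal_normal_le (K := (⊤ : Subgroup L)) hLtop
  have := hN
  obtain ⟨T, hT', m, hTs, hm, ⟨e⟩⟩ := AltGroups.exists_mulEquiv_pi_of_minimal_normal N hNne hmin
  have : Finite T := by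
    have : Finite (Fin m → T) := Finite.of_equiv N e.toEquiv
    exact Finite.of_surjective (fun f : Fin m → T => f ⟨0, hm⟩) fun a => ⟨fun _ => a, rfl⟩
  have hcardN : Nat.card N = Nat.card T ^ m := by
    rw [Nat.card_congr e.toEquiv, Nat.card_pi, Finset.prod_const, Finset.card_univ, Fintype.card_fin]
  have hneven : 2 ∣ Nat.card N := by
    by_contra hodd
    exact hNne (le_bot_iff.1 (hK ▸ Cores.le_oddCore (Nat.not_even_iff_odd.1 fun he => hodd he.two_dvd)))
  have h2T : 2 ∣ Nat.card T := Nat.prime_two.dvd_of_dvd_pow (hcardN ▸ hneven)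
  have hna : ∃ a b : T, a * b ≠ b * a := by
    by_contra! hab
    let _ : CommGroup T := { (inferInstance : Group T) with mul_comm := hab }
    have hprime : (Nat.card T).Prime := IsSimpleGroup.prime_card
    have hT2 : Nat.card T = 2 := ((Nat.prime_dvd_prime_iff_eq Nat.prime_two hprime).1 h2T).symm
    exact hNne (le_bot_iff.1 (hO ▸ Cores.le_pCore (IsPGroup.of_card (n := m) (by rw [hcardN, hT2]))))
  have hm1 : m = 1 := by
    by_contra hm1
    obtain ⟨p, hp, hpd, hp2⟩ : ∃ p, Nat.Prime p ∧ p ∣ Nat.card T ∧ p ≠ 2 := by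
      by_contra! hall
      have hp2 : IsPGroup 2 T := IsPGroup.of_card
        (Nat.eq_prime_pow_of_unique_prime_dvd Nat.card_pos.ne' fun hq hd => hall _ hq hd)
      have := hp2.center_nontrivial
      rcases (inferInstance : (Subgroup.center T).Normal).eq_bot_or_eq_top with e' | e'
      · exact (Subgroup.nontrivial_iff_ne_bot _).1 this e'
      · obtain ⟨a, b, hab⟩ := hna
        exact hab (Subgroup.mem_center_iff.1 (e' ▸ Subgroup.mem_top b) a)
    have : Fact p.Prime := ⟨hp⟩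
    obtain ⟨t, ht⟩ := exists_prime_orderOf_dvd_card' 2 h2T
    obtain ⟨x, hx⟩ := exists_prime_orderOf_dvd_card' p hpd
    let t' : Fin m → T := Pi.mulSingle ⟨0, hm⟩ t
    let x' : Fin m → T := Pi.mulSingle ⟨1, by omega⟩ x
    have ht' : orderOf t' = 2 := (orderOf_injective (MonoidHom.mulSingle (fun _ : Fin m => T) _)
      (Pi.mulSingle_injective (M := fun _ : Fin m => T) (⟨0, hm⟩ : Fin m)) t).trans ht
    have hx' : orderOf x' = p := (orderOf_injective (MonoidHom.mulSingle (fun _ : Fin m => T) _)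
      (Pi.mulSingle_injective (M := fun _ : Fin m => T) (⟨1, by omega⟩ : Fin m)) x).trans hx
    have hcit : IsCIT (Fin m → T) := (hL.subgroup N).of_equiv e
    have h1 := hcit.eq_one_of_commute (a := t') (by rw [ht']) (hx' ▸ hp.odd_of_ne_two hp2)
      (Pi.mulSingle_commute (f := fun _ : Fin m => T) (i := (⟨0, hm⟩ : Fin m)) (j := ⟨1, by omega⟩) (by simp [Fin.ext_iff]) t x)
    rw [show x' = 1 from h1, orderOf_one] at hx'
    exact hp.one_lt.ne hx'
  subst hm1
  let e' : N ≃* T := e.trans (MulEquiv.piUnique fun _ : Fin 1 => T)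
  have hNs : IsSimpleGroup N := by
    have := hTs
    have := e'.toEquiv.nontrivial
    exact IsSimpleGroup.isSimpleGroup_of_surjective e'.symm.toMonoidHom e'.symm.surjective
  have hNna : ∃ a b : N, a * b ≠ b * a := by
    obtain ⟨a, b, hab⟩ := hna
    exact ⟨e'.symm a, e'.symm b, fun he => hab (e'.symm.injective (by rw [map_mul, map_mul, he]))⟩
  have hONb : ∀ K : Subgroup N, K.Normal → Odd (Nat.card K) → K = ⊥ := by
    intro K hKn hKodd
    refine (hKn.eq_bot_or_eq_top).resolve_right fun e => ?_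
    rw [e, Subgroup.card_top] at hKodd
    exact Nat.not_even_iff_odd.2 hKodd (even_iff_two_dvd.2 hneven)
  have hON : pCore 2 N = ⊥ := by
    refine (inferInstance : (pCore 2 N).Normal).eq_bot_or_eq_top.resolve_right fun e => hNne ?_
    refine le_bot_iff.1 (hO ▸ Cores.le_pCore ?_)
    exact ((Cores.isPGroup_pCore 2 N).of_equiv ((MulEquiv.subgroupCongr e).trans Subgroup.topEquiv))
  have hfaith : ∀ a : L, (∀ v : V, a • v = v) → a = 1 := fun a => h.eq_one_of_trivial hO
  let _ := MulDistribMulAction.compHom V N.subtype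
  have hVN : FPFAct N V := ⟨h.sq, fun x hx h1 v hv =>
    h.fpf (x : L) (by rwa [Subgroup.orderOf_coe]) (by simpa using h1) v hv⟩
  have hTIN : TISylow N := by
    rcases ih N hNs hNna hneven with hti | hdi | h3
    · exact hti
    · exact absurd hdi (hVN.not_dihedral (hL.subgroup N) fun a ha => Subtype.ext (hfaith a ha))
    · exact absurd h3 hVN.not_three
  have hcent : ∀ a : L, (∀ n ∈ N, a * n = n * a) → a = 1 := by
    intro a ha
    set C := Subgroup.centralizer (N : Set L) with hC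
    have : C.Normal := by rw [hC]; infer_instance
    obtain ⟨t, ht⟩ := exists_prime_orderOf_dvd_card' (G := N) 2 hneven
    have h2C : IsPGroup 2 C := (hL (t : L) (by rw [Subgroup.orderOf_coe, ht])).to_le
      (Subgroup.centralizer_le (by simp))
    have h3 : a ∈ C := fun n hn => (ha n hn).symm
    have h4 := Cores.le_pCore h2C h3
    rwa [hO, Subgroup.mem_bot] at h4
  have hOdd : oddCore N = ⊥ := hONb _ inferInstance Cores.odd_card_oddCore
  have htop := eq_top_of_tiSylow hL N hNs hcent hneven hTIN hOdd hON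
  subst htop
  have eL : (⊤ : Subgroup L) ≃* L := Subgroup.topEquiv
  have hLs : IsSimpleGroup L := by
    have := hNs
    have := eL.symm.toEquiv.nontrivial
    exact IsSimpleGroup.isSimpleGroup_of_surjective eL.toMonoidHom eL.surjective
  have hTIL : TISylow L := by
    intro S S' hne
    have h1 := hTIN (S.subtype le_top) (S'.subtype le_top) ?_
    · exact Sylow.subtype_injective h1
    · obtain ⟨⟨a, ha⟩, ha1⟩ := Subgroup.ne_bot_iff_exists_ne_one.1 hne
      intro e
      have h2 : (⟨a, trivial⟩ : (⊤ : Subgroup L)) ∈ (⊥ : Subgroup (⊤ : Subgroup L)) :=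
        e ▸ (⟨ha.1, ha.2⟩ : _ ∧ _)
      exact ha1 (Subtype.ext (congrArg Subtype.val (Subgroup.mem_bot.1 h2) :))
  refine ⟨hTIL, Or.inr ⟨hLs, fun S => ?_⟩⟩
  by_contra hcon
  obtain ⟨K, hK', hKodd, hKne⟩ := hTIL.exists_complement hL hO h2 S
    (le_antisymm (not_lt.1 hcon) TIConfig.m_pos)
  exact hKne (le_bot_iff.1 (hK ▸ Cores.le_oddCore hKodd))

end CfsgLib.CIT
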