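import Cfsg.Agent.Lib.CIT.Pair4
import Cfsg.Prelude.Def_Sporadic_a

/-!
The projective plane of order four carried by two natural 2-locals.
-/

set_option autoImplicit false

open Cfsg CfsgLib.PrimeElementOrders

namespace CfsgLib.CIT

universe u

variable {G : Type u} [Group G]

/-- `z` lies in the conjugate of the core of `M` that belongs to the coset `p`. -/
def Cen (M : Subgroup G) (z : G) (p : G ⧸ M) : Prop :=
  ∃ g : G, (QuotientGroup.mk g : G ⧸ M) = p ∧ g⁻¹ * z * g ∈ pCoreOf 2 M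

/-- Incidence. -/
def Inc (M M' : Subgroup G) (p : G ⧸ M) (l : G ⧸ M') : Prop :=
  ∃ z : G, orderOf z = 2 ∧ Cen M z p ∧ Cen M' z l

theorem Inc.swap {M M' : Subgroup G} {p : G ⧸ M} {l : G ⧸ M'} (h : Inc M M' p l) : Inc M' M l p :=
  let ⟨z, h1, h2, h3⟩ := h
  ⟨z, h1, h3, h2⟩

theorem cen_base_iff {M : Subgroup G} {z : G} :
    Cen M z (QuotientGroup.mk 1) ↔ z ∈ pCoreOf 2 M := by
  constructor
  · rintro ⟨g, hg, hz⟩
    rw [QuotientGroup.eq, mul_one, inv_mem_iff] at hg
    have := mem_normalizer_omegaZ_conj (le_normalizer_pCoreOf M hg) hz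
    simpa [mul_assoc] using this
  · exact fun h => ⟨1, rfl, by simpa using h⟩

theorem cen_smul {M : Subgroup G} {z : G} {p : G ⧸ M} (g : G) (h : Cen M z p) :
    Cen M (g * z * g⁻¹) (g • p) := by
  obtain ⟨a, rfl, ha⟩ := h
  exact ⟨g * a, rfl, by simpa [mul_assoc] using ha⟩

theorem inc_smul {M M' : Subgroup G} {p : G ⧸ M} {l : G ⧸ M'} (g : G) (h : Inc M M' p l) :
    Inc M M' (g • p) (g • l) := by
  obtain ⟨z, hz, h1, h2⟩ := h
  exact ⟨g * z * g⁻¹, by rw [Involutions.orderOf_conj, hz], cen_smul g h1, cen_smul g h2⟩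

theorem inc_smul_iff {M M' : Subgroup G} {p : G ⧸ M} {l : G ⧸ M'} (g : G) :
    Inc M M' (g • p) (g • l) ↔ Inc M M' p l :=
  ⟨fun h => by simpa using inc_smul g⁻¹ h, inc_smul g⟩

variable [Finite G] {M M' T : Subgroup G}

omit [Finite G] in
theorem E2Pair.symm (P : E2Pair M M' T) : E2Pair M' M T :=
  ⟨P.right, P.left, P.ne.symm, P.core', P.core, inf_comm _ _ |>.trans P.inf,
    fun a h1 h2 => (P.invol a h1 h2).symm, fun E h1 h2 h3 => (P.elem E h1 h2 h3).symm,
    sup_comm _ _ |>.trans P.sup, fun g hg => (P.nt_eq g hg).symm⟩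

omit [Finite G] in
theorem E2Pair.card_core (P : E2Pair M M' T) : Nat.card (pCoreOf 2 M) = 16 := by
  rw [← P.core, P.left.card_V]; norm_num

omit [Finite G] in
theorem E2Pair.omegaT_le_core (P : E2Pair M M' T) : omegaZ T ≤ pCoreOf 2 M := by
  rw [← P.inf]; exact inf_le_left

omit [Finite G] in
theorem E2Pair.inv_sq (P : E2Pair M M' T) {a : G} (ha : a ∈ pCoreOf 2 M) : a * a = 1 := by
  rw [← P.core] at ha; exact ha.2.1

omit [Finite G] in
theorem E2Pair.card_qt (P : E2Pair M M' T) : Nat.card (Qt M) = 60 := by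
  have h1 : (pCore 2 M).index * Nat.card (pCore 2 M) = Nat.card M := Subgroup.index_mul_card _
  have h2 : Nat.card (pCore 2 M) = 16 := by
    rw [← Subgroup.card_map_of_injective M.subtype_injective]
    exact P.card_core
  rw [P.left.card_M, h2, P.card_core] at h1
  show (pCore 2 M).index = 60
  norm_num at h1 ⊢
  omega

variable (hC : Ctx G)

include hC

/-- The Sylow subgroup as a bundled object. -/
theorem E2Pair.exists_sylow (P : E2Pair M M' T) : ∃ S : Sylow 2 G, (S : Subgroup G) = T := by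
  obtain ⟨S, hS⟩ := P.left.loc.T_two.exists_le_sylow
  exact ⟨S, P.sylow hC S.2 hS⟩

theorem E2Pair.not_conj (P : E2Pair M M' T) (g : G) :
    (pCoreOf 2 M).map (MulAut.conj g).toMonoidHom ≠ pCoreOf 2 M' := by
  intro e
  have : Fact (Nat.Prime 2) := ⟨Nat.prime_two⟩
  set D := pCoreOf 2 M
  set D' := pCoreOf 2 M'
  have hM : M.map (MulAut.conj g).toMonoidHom = M' := by
    rw [← (P.left.loc.maxLoc.map_conj g).normalizer_core, map_conj_pCoreOf, e,
      P.right.loc.maxLoc.normalizer_core]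
  obtain ⟨S, hS⟩ := P.exists_sylow hC
  have hS₁ : ((g • S : Sylow 2 G) : Subgroup G) ≤ M' := by
    rw [← hM, Sylow.coe_subgroup_smul, hS]
    rintro _ ⟨a, ha, rfl⟩
    exact ⟨a, P.left.loc.T_le ha, rfl⟩
  have hS₂ : (S : Subgroup G) ≤ M' := hS ▸ P.right.loc.T_le
  obtain ⟨m, hm⟩ := MulAction.exists_smul_eq M' ((g • S).subtype hS₁) (S.subtype hS₂)
  rw [Sylow.smul_subtype] at hm
  have hm' : ((m : G) * g) • S = S := by
    rw [mul_smul]; exact Sylow.subtype_injective hm
  set h := (m : G) * g with hh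
  have hhN : h ∈ Subgroup.normalizer (T : Set G) := hS ▸ (smul_eq_iff_mem_normalizer S).1 hm'
  have hhD : D.map (MulAut.conj h).toMonoidHom = D' := by
    rw [hh, show (MulAut.conj ((m : G) * g)).toMonoidHom = (MulAut.conj (m : G)).toMonoidHom.comp
      (MulAut.conj g).toMonoidHom from MonoidHom.ext fun y => by simp [mul_assoc], ← Subgroup.map_map, e]
    refine Subgroup.eq_of_le_of_card_ge ?_ (Subgroup.card_map_of_injective (MulAut.conj _).injective).ge
    rintro _ ⟨a, ha, rfl⟩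
    exact mem_normalizer_omegaZ_conj (le_normalizer_pCoreOf M' m.2) ha
  have hhM : h ∉ M := by
    intro h1
    refine P.ne (Subgroup.eq_of_le_of_card_ge ?_ (by rw [P.card_core, P.symm.card_core]))
    intro a ha
    show a ∈ D'
    rw [← hhD]
    exact ⟨h⁻¹ * a * h, (Subgroup.mem_normalizer_iff''.1 (le_normalizer_pCoreOf M h1) a).1 ha,
      by simp [mul_assoc]⟩
  have hh2 : h ^ 2 ∈ M := by
    have h2 : D'.map (MulAut.conj h).toMonoidHom = D := by
      have him : D'.map (MulAut.conj h).toMonoidHom ≤ T := by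
        rintro _ ⟨a, ha, rfl⟩
        exact mem_normalizer_omegaZ_conj hhN (P.right.loc.core_le ha)
      refine (P.elem _ him (ThompsonJ.isElementaryAbelian_map (show IsElementaryAbelian 2 (pCoreOf 2 M') from P.core' ▸ E2Data.isElem_omega M') _)
        (by rw [Subgroup.card_map_of_injective (MulAut.conj h).injective, P.symm.card_core])).resolve_right
        fun e2 => P.ne ?_
      exact Subgroup.map_injective (f := (MulAut.conj h).toMonoidHom) (MulAut.conj h).injective
        (hhD.trans e2.symm)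
    rw [← P.left.loc.maxLoc.normalizer_core]
    refine mem_normalizer_of_map_conj ?_
    rw [pow_two, show (MulAut.conj (h * h)).toMonoidHom = (MulAut.conj h).toMonoidHom.comp
      (MulAut.conj h).toMonoidHom from MonoidHom.ext fun y => by simp [mul_assoc], ← Subgroup.map_map,
      hhD, h2]
  obtain ⟨k, m', hm'o, hkm⟩ := Nat.exists_eq_two_pow_mul_odd (orderOf_pos h).ne'
  have hT : h ^ m' ∈ T := by
    rw [← hS]
    refine mem_sylow_of_mem_normalizer S (hS.symm ▸ Subgroup.pow_mem _ hhN m')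
      (IsPGroup.of_card (n := k) ?_)
    rw [Nat.card_zpowers, orderOf_pow' _ (fun e => Nat.not_odd_zero (e ▸ hm'o)), hkm, Nat.gcd_mul_left_left,
      Nat.mul_div_cancel _ (Nat.pos_of_ne_zero fun e => Nat.not_odd_zero (e ▸ hm'o))]
  obtain ⟨j, rfl⟩ := hm'o
  rw [pow_succ, pow_mul] at hT
  exact hhM (by simpa using M.mul_mem (M.inv_mem (M.pow_mem hh2 j)) (P.left.loc.T_le hT))

theorem E2Pair.cent (P : E2Pair M M' T) {z : G} (hz : z ∈ omegaZ T) (hz1 : z ≠ 1) :
    Subgroup.centralizer ({z} : Set G) = T := by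
  refine P.sylow hC (hC.cit z (Involutions.orderOf_eq_two_iff.2 ⟨hz.2.1, hz1⟩)) fun a ha => ?_
  exact Subgroup.mem_centralizer_singleton_iff.2 (hz.2.2 a ha).symm

/-- An element of order three of `M ⊓ M'` acts transitively on the involutions of `Z(T)`. -/
theorem E2Pair.omega_trans (P : E2Pair M M' T) {z z' : G} (hz : z ∈ omegaZ T) (hz1 : z ≠ 1)
    (hz' : z' ∈ omegaZ T) (hz1' : z' ≠ 1) : ∃ k ∈ M ⊓ M', k * z * k⁻¹ = z' := by
  classical
  have : Fact (Nat.Prime 3) := ⟨Nat.prime_three⟩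
  obtain ⟨⟨η, hηM, hηN⟩, hη⟩ := exists_prime_orderOf_dvd_card'
    (G := ↥(M ⊓ Subgroup.normalizer (T : Set G))) 3 (by rw [P.left.card_NT]; exact dvd_mul_left 3 _)
  replace hη : orderOf η = 3 := (Subgroup.orderOf_mk (H := M ⊓ Subgroup.normalizer (T : Set G)) η ⟨hηM, hηN⟩).symm.trans hη
  have hηI : η ∈ M ⊓ M' := ⟨hηM, (P.nt_eq η hηN).1 hηM⟩
  have hη1 : η ≠ 1 := fun e => by rw [e, orderOf_one] at hη; omega
  have hη3 : η * η * η = 1 := by rw [← pow_orderOf_eq_one η, hη]; simp [pow_succ, mul_assoc]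
  have hW : ∀ a ∈ omegaZ T, η * a * η⁻¹ ∈ omegaZ T := fun a ha => normalizer_le_omegaZ hηN ha
  by_contra! hnc
  have hd1 : η * z * η⁻¹ ≠ z := fun e => hz1 (hC.cit.fpf P.left.loc.T_two hz.1 (hη ▸ by decide) hη1
    (mul_inv_eq_iff_eq_mul.1 e).symm)
  have hd2 : η * (η * z * η⁻¹) * η⁻¹ ≠ η * z * η⁻¹ := fun e => hd1 (by simpa using e)
  have hd3 : η * (η * z * η⁻¹) * η⁻¹ ≠ z := by
    intro e
    apply hd1
    calc η * z * η⁻¹ = η * (η * (η * z * η⁻¹) * η⁻¹) * η⁻¹ := by rw [e]
      _ = (η * η * η) * z * (η * η * η)⁻¹ := by group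
      _ = z := by rw [hη3]; group
  letI : Fintype (omegaZ T) := Fintype.ofFinite _
  have h1 : ({(1 : omegaZ T), ⟨z, hz⟩, ⟨_, hW z hz⟩, ⟨_, hW _ (hW z hz)⟩, ⟨z', hz'⟩} :
      Finset (omegaZ T)).card ≤ Fintype.card (omegaZ T) := Finset.card_le_univ _
  rw [Finset.card_insert_of_notMem, Finset.card_insert_of_notMem, Finset.card_insert_of_notMem,
    Finset.card_insert_of_notMem, Finset.card_singleton, ← Nat.card_eq_fintype_card, P.left.card_W] at h1
  · omega
  all_goals simp only [Finset.mem_insert, Finset.mem_singleton, not_or, Subtype.ext_iff, Subgroup.coe_one]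
  · exact fun e => hnc (η * η) (mul_mem hηI hηI) (by rw [← e]; group)
  · exact ⟨Ne.symm hd2, fun e => hnc η hηI e⟩
  · exact ⟨Ne.symm hd1, Ne.symm hd3, fun e => hnc 1 (one_mem _) (by rw [← e]; group)⟩
  · refine ⟨Ne.symm hz1, fun e => hz1 ?_, fun e => hz1 ?_, Ne.symm hz1'⟩
    · exact conj_eq_one_iff.1 e.symm
    · exact conj_eq_one_iff.1 (conj_eq_one_iff.1 e.symm)

theorem E2Pair.exists_conj_omega (P : E2Pair M M' T) {u : G} (hu : orderOf u = 2) :
    ∃ g : G, g * u * g⁻¹ ∈ omegaZ T ∧ g * u * g⁻¹ ≠ 1 := by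
  have : Fact (Nat.Prime 2) := ⟨Nat.prime_two⟩
  obtain ⟨S, hS⟩ := P.exists_sylow hC
  obtain ⟨S', hS'⟩ := (isPGroup_zpowers_of_orderOf hu).exists_le_sylow
  obtain ⟨g, hg⟩ := MulAction.exists_smul_eq G S' S
  have h1 : g * u * g⁻¹ ∈ T := by
    rw [← hS, ← hg, Sylow.coe_subgroup_smul]
    exact ⟨u, hS' (Subgroup.mem_zpowers u), rfl⟩
  have ho : orderOf (g * u * g⁻¹) = 2 := by rw [Involutions.orderOf_conj, hu]
  have key : ∀ {N : Subgroup G}, E2Data N T 4 → omegaZ (pCoreOf 2 N) = pCoreOf 2 N →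
      g * u * g⁻¹ ∈ pCoreOf 2 N → ∃ g : G, g * u * g⁻¹ ∈ omegaZ T ∧ g * u * g⁻¹ ≠ 1 := by
    intro N hN eN hmem
    obtain ⟨m, -, hm⟩ := hN.fuse _ (eN.symm ▸ hmem)
    refine ⟨m * g, ?_, fun e => Involutions.ne_one hu (conj_eq_one_iff.1 e)⟩
    rwa [show m * g * u * (m * g)⁻¹ = m * (g * u * g⁻¹) * m⁻¹ by group]
  rcases P.invol _ h1 (Involutions.mul_self_eq_one ho) with h | h
  · exact key P.left P.core h
  · exact key P.right P.core' h

theorem E2Pair.cen_unique_omega (P : E2Pair M M' T) {z : G} (hz : z ∈ omegaZ T) (hz1 : z ≠ 1)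
    {p : G ⧸ M} (hp : Cen M z p) : p = QuotientGroup.mk 1 := by
  obtain ⟨g, rfl, hg⟩ := hp
  set E := (pCoreOf 2 M).map (MulAut.conj g).toMonoidHom
  have hzE : z ∈ E := ⟨_, hg, by simp [mul_assoc]⟩
  have hEe : IsElementaryAbelian 2 E :=
    ThompsonJ.isElementaryAbelian_map (P.core ▸ E2Data.isElem_omega M) _
  have hET : E ≤ T := by
    rw [← P.cent hC hz hz1]
    exact fun a ha => Subgroup.mem_centralizer_singleton_iff.2
      (ThompsonJ.isElementaryAbelian_comm hEe ha hzE)
  have h1 := (P.elem E hET hEe (by rw [Subgroup.card_map_of_injective (MulAut.conj g).injective,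
    P.card_core])).resolve_right (P.not_conj hC g)
  have h2 : g ∈ M := P.left.loc.maxLoc.normalizer_core ▸ mem_normalizer_of_map_conj h1
  rw [QuotientGroup.eq, mul_one, inv_mem_iff]
  exact h2

theorem E2Pair.cen_unique (P : E2Pair M M' T) {z : G} (hz : orderOf z = 2) {p q : G ⧸ M}
    (hp : Cen M z p) (hq : Cen M z q) : p = q := by
  obtain ⟨g, hg, hg1⟩ := P.exists_conj_omega hC hz
  exact smul_left_cancel g ((P.cen_unique_omega hC hg hg1 (cen_smul g hp)).trans
    (P.cen_unique_omega hC hg hg1 (cen_smul g hq)).symm)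

theorem E2Pair.exists_cen (P : E2Pair M M' T) {z : G} (hz : orderOf z = 2) :
    ∃ p : G ⧸ M, Cen M z p := by
  obtain ⟨g, hg, -⟩ := P.exists_conj_omega hC hz
  have := cen_smul g⁻¹ (cen_base_iff.2 (P.omegaT_le_core hg))
  refine ⟨g⁻¹ • (QuotientGroup.mk 1 : G ⧸ M), ?_⟩
  simpa [mul_assoc] using this

omit [Finite G] hC in
theorem E2Pair.inc_base (P : E2Pair M M' T) {m : G} (hm : m ∈ M) :
    Inc M M' (QuotientGroup.mk 1) (QuotientGroup.mk m) := by
  obtain ⟨⟨w, hw⟩, hw1⟩ : ∃ w : omegaZ T, w ≠ 1 := Subgroup.ne_bot_iff_exists_ne_one.1 fun e => by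
    have := P.left.card_W
    rw [e, Subgroup.card_bot] at this
    omega
  have h1 : orderOf w = 2 := Involutions.orderOf_eq_two_iff.2 ⟨hw.2.1, fun e => hw1 (Subtype.ext e)⟩
  refine ⟨m * w * m⁻¹, by rw [Involutions.orderOf_conj, h1], cen_base_iff.2 ?_, ?_⟩
  · exact mem_normalizer_omegaZ_conj (le_normalizer_pCoreOf M hm) (P.omegaT_le_core hw)
  · exact ⟨m, rfl, by simpa [mul_assoc] using P.symm.omegaT_le_core hw⟩

/-- An involution fixing the base point has its axis through it. -/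
theorem E2Pair.axis_through_base (P : E2Pair M M' T) {x : G} (hx : orderOf x = 2) (hxM : x ∈ M) :
    ∃ l : G ⧸ M', Cen M' x l ∧ Inc M M' (QuotientGroup.mk 1) l := by
  have : Fact (Nat.Prime 2) := ⟨Nat.prime_two⟩
  by_cases hxD : x ∈ pCoreOf 2 M
  · obtain ⟨l, hl⟩ := P.symm.exists_cen hC hx
    exact ⟨l, hl, x, hx, cen_base_iff.2 hxD, hl⟩
  obtain ⟨S, hS⟩ := P.exists_sylow hC
  have hSM : (S : Subgroup G) ≤ M := hS ▸ P.left.loc.T_le
  obtain ⟨Q, hQ⟩ := ((isPGroup_zpowers_of_orderOf hx).comap_of_injective M.subtype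
    M.subtype_injective).exists_le_sylow
  obtain ⟨m, hm⟩ := MulAction.exists_smul_eq M Q (S.subtype hSM)
  have h1 : (m : G) * x * (m : G)⁻¹ ∈ T := by
    have h2 : m * (⟨x, hxM⟩ : M) * m⁻¹ ∈ ((S.subtype hSM : Sylow 2 M) : Subgroup M) := by
      rw [← hm, Sylow.coe_subgroup_smul]
      exact ⟨⟨x, hxM⟩, hQ (Subgroup.mem_zpowers x), rfl⟩
    rw [← hS]
    exact h2
  have hne : (m : G) * x * (m : G)⁻¹ ∉ pCoreOf 2 M := fun h =>
    hxD ((Subgroup.mem_normalizer_iff.1 (le_normalizer_pCoreOf M m.2) x).2 h)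
  have h3 := (P.invol _ h1 (Involutions.mul_self_eq_one (by rw [Involutions.orderOf_conj, hx]))).resolve_left hne
  exact ⟨QuotientGroup.mk ((m : G)⁻¹), ⟨_, rfl, by simpa using h3⟩, P.inc_base (M.inv_mem m.2)⟩

/-- The fixed points of an involution are those on its axis. -/
theorem E2Pair.fixed_iff (P : E2Pair M M' T) {z : G} (hz : orderOf z = 2) {l : G ⧸ M'}
    (hl : Cen M' z l) (p : G ⧸ M) : z • p = p ↔ Inc M M' p l := by
  constructor
  · intro hp
    obtain ⟨g, rfl⟩ := QuotientGroup.mk_surjective p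
    have hx : g⁻¹ * z * g ∈ M := by
      have : (QuotientGroup.mk (z * g) : G ⧸ M) = QuotientGroup.mk g := hp
      rw [QuotientGroup.eq] at this
      have := M.inv_mem this
      simpa [mul_assoc] using this
    obtain ⟨l', hl', hinc⟩ := P.axis_through_base hC (x := g⁻¹ * z * g)
      (by have := Involutions.orderOf_conj g⁻¹ z; rw [inv_inv] at this; rw [this, hz]) hx
    have h1 := inc_smul g hinc
    have h2 := cen_smul g hl'
    rw [show g * (g⁻¹ * z * g) * g⁻¹ = z by group] at h2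
    rw [P.symm.cen_unique hC hz hl h2]
    have e : g • (QuotientGroup.mk 1 : G ⧸ M) = QuotientGroup.mk g := by
      show (QuotientGroup.mk (g * 1) : G ⧸ M) = _
      rw [mul_one]
    rwa [e] at h1
  · rintro ⟨y, hy, hyp, hyl⟩
    obtain ⟨a, ha, hza⟩ := hl
    obtain ⟨b, hb, hyb⟩ := hyl
    have hab : a⁻¹ * b ∈ M' := QuotientGroup.eq.1 (ha.trans hb.symm)
    have hya : a⁻¹ * y * a ∈ pCoreOf 2 M' := by
      have := mem_normalizer_omegaZ_conj (le_normalizer_pCoreOf M' hab) hyb
      simpa [mul_assoc] using this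
    have hc : z * y * z⁻¹ = y := by
      have h := P.right.comm _ hza _ hya
      rw [mul_inv_eq_iff_eq_mul]
      calc z * y = a * ((a⁻¹ * z * a) * (a⁻¹ * y * a)) * a⁻¹ := by group
        _ = a * ((a⁻¹ * y * a) * (a⁻¹ * z * a)) * a⁻¹ := by rw [h]
        _ = y * z := by group
    have := cen_smul z hyp
    rw [hc] at this
    exact P.cen_unique hC hy this hyp

omit hC in
theorem E2Pair.card_inter (P : E2Pair M M' T) : Nat.card ↥(M ⊓ M') = 192 := by
  have h : M ⊓ M' = M ⊓ Subgroup.normalizer (T : Set G) := by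
    refine le_antisymm (fun a ha => ⟨ha.1, mem_normalizer_of_map_conj ?_⟩)
      (fun a ha => ⟨ha.1, (P.nt_eq a ha.2).1 ha.1⟩)
    have key : ∀ {N : Subgroup G}, a ∈ N →
        (pCoreOf 2 N).map (MulAut.conj a).toMonoidHom = pCoreOf 2 N := by
      intro N haN
      refine Subgroup.eq_of_le_of_card_ge ?_ (Subgroup.card_map_of_injective (MulAut.conj a).injective).ge
      rintro _ ⟨b, hb, rfl⟩
      exact mem_normalizer_omegaZ_conj (le_normalizer_pCoreOf N haN) hb
    rw [← P.sup, Subgroup.map_sup, key ha.1, key ha.2]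
  rw [h, P.left.card_NT, P.left.card_T, P.card_core]

/-- Five lines through a point. -/
theorem E2Pair.card_pencil (P : E2Pair M M' T) (p : G ⧸ M) :
    Nat.card {l : G ⧸ M' // Inc M M' p l} = 5 := by
  obtain ⟨g, rfl⟩ := QuotientGroup.mk_surjective p
  have hbase : Nat.card {l : G ⧸ M' // Inc M M' (QuotientGroup.mk 1) l} = 5 := by
    let f : M ⧸ (M ⊓ M').subgroupOf M → {l : G ⧸ M' // Inc M M' (QuotientGroup.mk 1) l} :=
      Quotient.lift (fun m => ⟨QuotientGroup.mk (m : G), P.inc_base m.2⟩) fun a b hab => by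
        refine Subtype.ext (QuotientGroup.eq.2 ?_)
        exact ((QuotientGroup.leftRel_apply).1 hab).2
    have hf : Function.Bijective f := by
      refine ⟨fun a b => ?_, fun ⟨l, z, hz, hzp, hzl⟩ => ?_⟩
      · refine Quotient.inductionOn₂ a b fun a b e => Quotient.sound ((QuotientGroup.leftRel_apply).2 ?_)
        exact ⟨(a⁻¹ * b).2, QuotientGroup.eq.1 (congrArg Subtype.val e)⟩
      · rw [cen_base_iff] at hzp
        obtain ⟨m, hmM, hm⟩ := P.left.fuse z (P.core.symm ▸ hzp)
        refine ⟨QuotientGroup.mk ⟨m⁻¹, M.inv_mem hmM⟩, Subtype.ext ?_⟩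
        refine P.symm.cen_unique hC hz ⟨m⁻¹, rfl, ?_⟩ hzl
        simpa using P.symm.omegaT_le_core hm
    rw [← Nat.card_eq_of_bijective f hf]
    have h1 := Subgroup.card_eq_card_quotient_mul_card_subgroup ((M ⊓ M').subgroupOf M)
    rw [Nat.card_congr (Subgroup.subgroupOfEquivOfLe inf_le_left).toEquiv, P.card_inter, P.left.card_M,
      P.card_core] at h1
    omega
  rw [← hbase]
  refine (Nat.card_congr ((MulAction.toPerm g : Equiv.Perm (G ⧸ M')).subtypeEquiv fun l => ?_)).symm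
  have e : g • (QuotientGroup.mk 1 : G ⧸ M) = QuotientGroup.mk g := by
    show (QuotientGroup.mk (g * 1) : G ⧸ M) = _
    rw [mul_one]
  rw [MulAction.toPerm_apply, ← e, inc_smul_iff]

omit hC in
/-- An invariant subgroup of the core is trivial or all of it. -/
theorem E2Pair.invariant (hC : Ctx G) (P : E2Pair M M' T) {N : Subgroup G} (hN : N ≤ pCoreOf 2 M)
    (hne : N ≠ ⊥) (hinv : ∀ m ∈ M, ∀ a ∈ N, m * a * m⁻¹ ∈ N) : pCoreOf 2 M ≤ N := by
  obtain ⟨⟨a, ha⟩, ha1⟩ := Subgroup.ne_bot_iff_exists_ne_one.1 hne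
  obtain ⟨m, hmM, hm⟩ := P.left.fuse a (P.core.symm ▸ hN ha)
  have hm1 : m * a * m⁻¹ ≠ 1 := fun e => ha1 (Subtype.ext (conj_eq_one_iff.1 e))
  intro b hb
  by_cases hb1 : b = 1
  · exact hb1 ▸ N.one_mem
  obtain ⟨m', hm'M, hm'⟩ := P.left.fuse b (P.core.symm ▸ hb)
  obtain ⟨k, hk, hkb⟩ := P.omega_trans hC hm hm1 hm' (fun e => hb1 (conj_eq_one_iff.1 e))
  have h1 : m' * b * m'⁻¹ ∈ N := hkb ▸ hinv k hk.1 _ (hinv m hmM a ha)
  simpa [mul_assoc] using hinv m'⁻¹ (M.inv_mem hm'M) _ h1

/-- Two lines share at most one point. -/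
theorem E2Pair.line_unique (P : E2Pair M M' T) {p q : G ⧸ M} (hpq : p ≠ q) {l l' : G ⧸ M'}
    (hpl : Inc M M' p l) (hql : Inc M M' q l) (hpl' : Inc M M' p l') (hql' : Inc M M' q l') : l = l' := by
  have : Fact (Nat.Prime 2) := ⟨Nat.prime_two⟩
  obtain ⟨g, hg⟩ := MulAction.exists_smul_eq G p (QuotientGroup.mk 1 : G ⧸ M)
  suffices key : ∀ {q : G ⧸ M}, q ≠ QuotientGroup.mk 1 → ∀ {l l' : G ⧸ M'},
      Inc M M' (QuotientGroup.mk 1) l → Inc M M' q l → Inc M M' (QuotientGroup.mk 1) l' →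
      Inc M M' q l' → l = l' by
    refine smul_left_cancel g (key (q := g • q) ?_ ?_ (inc_smul g hql) ?_ (inc_smul g hql'))
    · exact fun e => hpq (smul_left_cancel g (hg.trans e.symm))
    · exact hg ▸ inc_smul g hpl
    · exact hg ▸ inc_smul g hpl'
  clear hpq hpl hql hpl' hql' hg g p q l l'
  intro q hq l l' hpl hql hpl' hql'
  by_contra hne
  set D := pCoreOf 2 M
  set X := M ⊓ MulAction.stabilizer G q
  -- the elations with axis `l`
  have hel : ∀ {l : G ⧸ M'}, Inc M M' (QuotientGroup.mk 1) l → Inc M M' q l →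
      ∃ E : Subgroup G, Nat.card E = 16 ∧ E ≤ X ∧ ∀ z ∈ E, Cen M' z l := by
    intro l h1 h2
    obtain ⟨a, ha⟩ := QuotientGroup.mk_surjective l
    refine ⟨(pCoreOf 2 M').map (MulAut.conj a).toMonoidHom, ?_, ?_, ?_⟩
    · rw [Subgroup.card_map_of_injective (MulAut.conj a).injective, P.symm.card_core]
    · rintro _ ⟨b, hb, rfl⟩
      by_cases hb1 : b = 1
      · subst hb1; rw [map_one]; exact one_mem _
      have ho : orderOf (a * b * a⁻¹) = 2 := by
        rw [Involutions.orderOf_conj]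
        exact Involutions.orderOf_eq_two_iff.2 ⟨P.symm.inv_sq hb, hb1⟩
      have hcl : Cen M' (a * b * a⁻¹) l := ⟨a, ha, by simpa [mul_assoc] using hb⟩
      refine ⟨?_, (P.fixed_iff hC ho hcl q).2 h2⟩
      have h3 := (P.fixed_iff hC ho hcl (QuotientGroup.mk 1)).2 h1
      show a * b * a⁻¹ ∈ M
      have h4 : (QuotientGroup.mk (a * b * a⁻¹ * 1) : G ⧸ M) = QuotientGroup.mk 1 := h3
      rwa [mul_one, QuotientGroup.eq, mul_one, inv_mem_iff] at h4
    · rintro _ ⟨b, hb, rfl⟩
      exact ⟨a, ha, by simpa [mul_assoc] using hb⟩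
  obtain ⟨E, hEc, hEX, hEl⟩ := hel hpl hql
  obtain ⟨E', hE'c, hE'X, hE'l⟩ := hel hpl' hql'
  have hEE : E ⊓ E' = ⊥ := by
    rw [Subgroup.eq_bot_iff_forall]
    rintro z ⟨hz, hz'⟩
    by_contra hz1
    have ho : orderOf z = 2 := by
      refine Involutions.orderOf_eq_two_iff.2 ⟨?_, hz1⟩
      obtain ⟨a, -, ha⟩ := hEl z hz
      have := P.symm.inv_sq ha
      calc z * z = a * ((a⁻¹ * z * a) * (a⁻¹ * z * a)) * a⁻¹ := by group
        _ = 1 := by rw [this]; group
    exact hne (P.symm.cen_unique hC ho (hEl z hz) (hE'l z hz'))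
  have hXbig : 256 ≤ Nat.card X := by
    have h1 := (card_mul_card_le E E').trans
      (Nat.mul_le_mul_right _ (Subgroup.card_le_of_le (sup_le hEX hE'X)))
    rwa [hEE, Subgroup.card_bot, mul_one, hEc, hE'c] at h1
  have hMc : Nat.card M = 960 := by rw [P.left.card_M, P.card_core]
  -- `M` fixes `q`
  have hXM : X = M := by
    by_contra hXne
    set X' : Subgroup M := X.subgroupOf M
    have hX'c : Nat.card X' = Nat.card X :=
      Nat.card_congr (Subgroup.subgroupOfEquivOfLe inf_le_left).toEquiv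
    have hidx : X'.index ≤ 3 := by
      have := X'.index_mul_card
      rw [hX'c, hMc] at this
      nlinarith
    let φ := MulAction.toPermHom M (M ⧸ X')
    have hk : φ.ker ≤ X' := by
      rw [← Subgroup.normalCore_eq_ker]; exact Subgroup.normalCore_le _
    have hkc : Nat.card φ.range ≤ 6 := by
      refine (Subgroup.card_le_card_group _).trans ?_
      rw [Nat.card_perm]
      exact (Nat.factorial_le (show Nat.card (M ⧸ X') ≤ 3 from hidx)).trans (by decide)
    have hkbig : 160 ≤ Nat.card φ.ker := by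
      have h1 : Nat.card φ.ker * Nat.card φ.range = Nat.card M := by
        rw [← Subgroup.index_ker, Subgroup.card_mul_index]
      rw [hMc] at h1
      by_contra hh
      nlinarith
    set K : Subgroup G := φ.ker.map M.subtype
    have hKc : Nat.card K = Nat.card φ.ker := Subgroup.card_map_of_injective M.subtype_injective
    have hKD : K ⊓ D ≠ ⊥ := by
      intro e
      have h1 := (card_mul_card_le K D).trans (Nat.mul_le_mul_right _
        (Subgroup.card_le_of_le (sup_le (Subgroup.map_subtype_le _) (pCoreOf_le M) : K ⊔ D ≤ M)))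
      rw [e, Subgroup.card_bot, hMc, P.card_core, hKc] at h1
      omega
    have hDK : D ≤ K := by
      refine le_trans (P.invariant hC inf_le_right hKD ?_) inf_le_left
      rintro m hm a ⟨⟨b, hb, rfl⟩, haD⟩
      exact ⟨⟨⟨m, hm⟩ * b * ⟨m, hm⟩⁻¹, φ.normal_ker.conj_mem b hb _, rfl⟩,
        mem_normalizer_omegaZ_conj (le_normalizer_pCoreOf M hm) haD⟩
    have hsimple := P.left.simpleQ
    set π := QuotientGroup.mk' (pCore 2 M)
    have hn : (φ.ker.map π).Normal := φ.normal_ker.map π (QuotientGroup.mk'_surjective _)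
    rcases hn.eq_bot_or_eq_top with e | e
    · have h1 : φ.ker ≤ pCore 2 M := fun a ha => by
        rw [← QuotientGroup.eq_one_iff]
        exact Subgroup.mem_bot.1 (e ▸ ⟨a, ha, rfl⟩ : π a ∈ (⊥ : Subgroup (Qt M)))
      have h2 := Subgroup.card_le_of_le h1
      rw [← Subgroup.card_map_of_injective M.subtype_injective (K := pCore 2 M)] at h2
      have h3 : Nat.card (pCoreOf 2 M) = 16 := P.card_core
      rw [pCoreOf] at h3
      omega
    · refine hXne (le_antisymm inf_le_left fun m hm => ?_)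
      obtain ⟨a, ha, hae⟩ := (e ▸ Subgroup.mem_top (π ⟨m, hm⟩) : π ⟨m, hm⟩ ∈ φ.ker.map π)
      rw [QuotientGroup.mk'_apply, QuotientGroup.mk'_apply, QuotientGroup.eq] at hae
      have h1 : a⁻¹ * ⟨m, hm⟩ ∈ φ.ker := by
        obtain ⟨b, hb, hbe⟩ := hDK ((mem_pCoreOf_iff _).2 hae)
        rwa [show b = a⁻¹ * ⟨m, hm⟩ from Subtype.ext hbe] at hb
      have h2 := hk (φ.ker.mul_mem ha h1)
      rw [mul_inv_cancel_left] at h2
      exact Subgroup.mem_subgroupOf.1 h2
  -- so the core of `q` and `D` generate a 2-group which is too large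
  have hDq : ∀ d ∈ D, d • q = q := fun d hd =>
    ((hXM.symm ▸ pCoreOf_le M hd : d ∈ X)).2
  obtain ⟨b, hb⟩ := QuotientGroup.mk_surjective q
  subst hb
  set E₂ := D.map (MulAut.conj b).toMonoidHom
  have hnorm : D ≤ Subgroup.normalizer (E₂ : Set G) := by
    intro d hd
    refine mem_normalizer_of_map_conj ?_
    have h1 : (QuotientGroup.mk (d * b) : G ⧸ M) = QuotientGroup.mk b := hDq d hd
    rw [QuotientGroup.eq] at h1
    rw [show E₂ = D.map (MulAut.conj b).toMonoidHom from rfl, Subgroup.map_map,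
      show (MulAut.conj d).toMonoidHom.comp (MulAut.conj b).toMonoidHom =
        (MulAut.conj b).toMonoidHom.comp (MulAut.conj (b⁻¹ * d * b)).toMonoidHom from
        MonoidHom.ext fun y => by simp [mul_assoc], ← Subgroup.map_map]
    congr 1
    refine Subgroup.eq_of_le_of_card_ge ?_ (Subgroup.card_map_of_injective (MulAut.conj _).injective).ge
    rintro _ ⟨c, hc, rfl⟩
    refine mem_normalizer_omegaZ_conj (le_normalizer_pCoreOf M ?_) hc
    have := M.inv_mem h1
    simpa [mul_assoc] using this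
  have h2 : IsPGroup 2 ↥(D ⊔ E₂) :=
    (isPGroup_pCoreOf M).to_sup_of_normal_right' ((isPGroup_pCoreOf M).map _) hnorm
  obtain ⟨S, hS⟩ := P.exists_sylow hC
  obtain ⟨S', hS'⟩ := h2.exists_le_sylow
  have h3 : D ⊓ E₂ = ⊥ := by
    rw [Subgroup.eq_bot_iff_forall]
    rintro z ⟨hz, c, hc, hcz⟩
    by_contra hz1
    have ho : orderOf z = 2 := Involutions.orderOf_eq_two_iff.2 ⟨P.inv_sq hz, hz1⟩
    refine hq (P.cen_unique hC ho ⟨b, rfl, ?_⟩ (cen_base_iff.2 hz))
    rw [← hcz]
    simpa [mul_assoc] using hc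
  have h4 := (card_mul_card_le D E₂).trans (Nat.mul_le_mul_right _ (Subgroup.card_le_of_le hS'))
  rw [h3, Subgroup.card_bot, mul_one, Subgroup.card_map_of_injective (MulAut.conj b).injective,
    P.card_core, S'.card_eq_multiplicity, ← S.card_eq_multiplicity, hS, P.left.card_T, P.card_core] at h4
  omega

/-- Any two points are collinear. -/
theorem E2Pair.exists_line (P : E2Pair M M' T) {p q : G ⧸ M} (hpq : p ≠ q) :
    ∃ l : G ⧸ M', Inc M M' p l ∧ Inc M M' q l := by
  classical
  letI : Fintype G := Fintype.ofFinite _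
  letI : Fintype (G ⧸ M) := Fintype.ofFinite _
  let Col : G ⧸ M → G ⧸ M → Prop := fun p q => ∃ l : G ⧸ M', Inc M M' p l ∧ Inc M M' q l
  by_contra hcon
  let NC : Finset ((G ⧸ M) × (G ⧸ M)) := Finset.univ.filter fun pq => pq.1 ≠ pq.2 ∧ ¬ Col pq.1 pq.2
  have hNC : 0 < NC.card := Finset.card_pos.2 ⟨(p, q), by
    simp only [NC, Finset.mem_filter, Finset.mem_univ, true_and]; exact ⟨hpq, hcon⟩⟩
  let A : Finset (G × ((G ⧸ M) × (G ⧸ M))) := (Finset.univ ×ˢ NC).filter fun x =>
    orderOf x.1 = 2 ∧ Cen M x.1 x.2.1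
  -- fifteen involutions with a given centre
  have hlow : 15 * NC.card ≤ A.card := by
    refine Finset.mul_card_image_le_card_of_maps_to (f := fun x => x.2) ?_ 15 ?_ |>.trans' le_rfl
    · intro x hx
      exact (Finset.mem_product.1 (Finset.mem_filter.1 hx).1).2
    · intro pq hpq'
      obtain ⟨g, hg⟩ := QuotientGroup.mk_surjective pq.1
      let i : {d : pCoreOf 2 M // d ≠ 1} → {x : G × ((G ⧸ M) × (G ⧸ M)) // x ∈ A.filter fun x => x.2 = pq} :=
        fun d => ⟨(g * ((d : pCoreOf 2 M) : G) * g⁻¹, pq), by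
          simp only [A, Finset.mem_filter, Finset.mem_product, Finset.mem_univ, true_and]
          refine ⟨⟨hpq', ?_, g, hg, ?_⟩, trivial⟩
          · rw [Involutions.orderOf_conj]
            exact Involutions.orderOf_eq_two_iff.2 ⟨P.inv_sq (d : pCoreOf 2 M).2,
              fun e => d.2 (Subtype.ext e)⟩
          · simp [mul_assoc]⟩
      have hi : Function.Injective i := fun a b e => by
        have h1 := congrArg (fun x : {x : G × ((G ⧸ M) × (G ⧸ M)) // x ∈ A.filter fun x => x.2 = pq} => x.1.1) e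
        exact Subtype.ext (Subtype.ext (by simpa [i] using h1))
      have h2 := Nat.card_le_card_of_injective i hi
      rw [Nat.card_eq_fintype_card, Fintype.card_subtype_compl, Fintype.card_subtype_eq,
        ← Nat.card_eq_fintype_card, P.card_core, Nat.card_eq_fintype_card, Fintype.card_coe] at h2
      exact h2
  -- at most five exchange a given pair
  have hup : A.card ≤ 5 * NC.card := by
    refine Finset.card_le_mul_card_image_of_maps_to (f := fun x => (x.2.2, x.1 • x.2.2)) ?_ 5 ?_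
    · intro x hx
      simp only [A, NC, Finset.mem_filter, Finset.mem_product, Finset.mem_univ, true_and] at hx ⊢
      obtain ⟨⟨hne, hnc⟩, hz, hcen⟩ := hx
      obtain ⟨l, hl⟩ := P.symm.exists_cen hC hz
      have hinc : Inc M M' x.2.1 l := ⟨x.1, hz, hcen, hl⟩
      have hne2 : x.2.2 ≠ x.1 • x.2.2 := fun e =>
        hnc ⟨l, hinc, (P.fixed_iff hC hz hl _).1 e.symm⟩
      refine ⟨hne2, fun ⟨m, h1, h2⟩ => hnc ?_⟩
      have h3 := inc_smul x.1 h2
      rw [smul_smul, Involutions.mul_self_eq_one hz, one_smul] at h3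
      have h4 := P.line_unique hC hne2 h1 h2 h3 (inc_smul x.1 h1)
      exact ⟨m, ((P.symm.fixed_iff hC hz hcen m).1 h4.symm).swap, h1⟩
    · intro pq hpq'
      simp only [NC, Finset.mem_filter, Finset.mem_univ, true_and] at hpq'
      by_cases hemp : (A.filter fun x => (x.2.2, x.1 • x.2.2) = pq) = ∅
      · simp [hemp]
      obtain ⟨x₀, hx₀⟩ := Finset.nonempty_iff_ne_empty.2 hemp
      set X := MulAction.stabilizer G pq.1 ⊓ MulAction.stabilizer G pq.2 with hX
      have hXodd : Odd (Nat.card X) := by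
        by_contra hev
        rw [Nat.not_odd_iff_even] at hev
        have : Fact (Nat.Prime 2) := ⟨Nat.prime_two⟩
        obtain ⟨⟨x, hx⟩, hxo⟩ := exists_prime_orderOf_dvd_card' (G := X) 2 hev.two_dvd
        rw [Subgroup.orderOf_mk] at hxo
        obtain ⟨l, hl⟩ := P.symm.exists_cen hC hxo
        exact hpq'.2 ⟨l, (P.fixed_iff hC hxo hl _).1 hx.1, (P.fixed_iff hC hxo hl _).1 hx.2⟩
      have hX5 : Nat.card X ≤ 5 := by
        obtain ⟨g, hg⟩ := MulAction.exists_smul_eq G pq.1 (QuotientGroup.mk 1 : G ⧸ M)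
        set X₁ := X.map (MulAut.conj g).toMonoidHom
        have hc : Nat.card X₁ = Nat.card X := Subgroup.card_map_of_injective (MulAut.conj g).injective
        have hX₁M : X₁ ≤ M := by
          rintro _ ⟨a, ha, rfl⟩
          have h1 : (g * a * g⁻¹) • (QuotientGroup.mk 1 : G ⧸ M) = QuotientGroup.mk 1 := by
            rw [← hg, mul_smul, mul_smul, inv_smul_smul, show a • pq.1 = pq.1 from ha.1]
          have h4 : (QuotientGroup.mk (g * a * g⁻¹ * 1) : G ⧸ M) = QuotientGroup.mk 1 := h1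
          rwa [mul_one, QuotientGroup.eq, mul_one, inv_mem_iff] at h4
        let f : X₁ →* Qt M := (QuotientGroup.mk' _).comp (Subgroup.inclusion hX₁M)
        have hf : Function.Injective f := by
          rw [injective_iff_map_eq_one]
          intro a ha
          have h1 : (a : G) ∈ pCoreOf 2 M := (qmk_eq_one_iff _).1 ha
          obtain ⟨k, hk⟩ := (IsPGroup.iff_orderOf.1 (isPGroup_pCoreOf M)) ⟨_, h1⟩
          rw [Subgroup.orderOf_mk] at hk
          refine Subtype.ext (orderOf_eq_one_iff.1 (eq_one_of_two_pow_odd (k := k) hk ?_))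
          · exact (hc ▸ hXodd).of_dvd_nat (Subgroup.orderOf_dvd_natCard X₁ a.2)
        have hdvd : Nat.card X ∣ 60 := by
          have hq := P.card_qt
          rw [← hc, ← hq, Nat.card_congr (MonoidHom.ofInjective hf).toEquiv]
          exact Subgroup.card_subgroup_dvd_card _
        have hle : Nat.card X ≠ 15 := by
          intro h15
          have hsimple := P.left.simpleQ
          set Y := f.range
          have hY : Nat.card Y = 15 := by
            rw [← Nat.card_congr (MonoidHom.ofInjective hf).toEquiv, hc, h15]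
          have h1 := Y.index_mul_card
          have hq := P.card_qt
          rw [hY, hq] at h1
          let φ := MulAction.toPermHom (Qt M) (Qt M ⧸ Y)
          rcases φ.normal_ker.eq_bot_or_eq_top with e | e
          · have h2 := Nat.card_le_card_of_injective φ ((MonoidHom.ker_eq_bot_iff φ).1 e)
            rw [Nat.card_perm, show Nat.card (Qt M ⧸ Y) = 4 from (show Y.index = 4 by omega), hq] at h2
            exact absurd h2 (by decide)
          · have h2 : φ.ker ≤ Y := by
              rw [← Subgroup.normalCore_eq_ker]; exact Subgroup.normalCore_le _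
            rw [e, top_le_iff] at h2
            rw [h2, Subgroup.index_top] at h1
            omega
        have hmem : Nat.card X ∈ Nat.divisors 60 := Nat.mem_divisors.2 ⟨hdvd, by norm_num⟩
        have : Nat.divisors 60 = {1, 2, 3, 4, 5, 6, 10, 12, 15, 20, 30, 60} := by decide
        rw [this] at hmem
        simp only [Finset.mem_insert, Finset.mem_singleton] at hmem
        obtain ⟨j, hj⟩ := hXodd
        omega
      refine le_trans ?_ hX5
      have key : ∀ x ∈ A.filter fun x => (x.2.2, x.1 • x.2.2) = pq,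
          orderOf x.1 = 2 ∧ x.1 • pq.1 = pq.2 ∧ x.1 • pq.2 = pq.1 ∧ Cen M x.1 x.2.1 := by
        intro x hx
        simp only [A, Finset.mem_filter, Finset.mem_product, Finset.mem_univ, true_and] at hx
        obtain ⟨⟨-, hz, hcen⟩, hx2⟩ := hx
        subst hx2
        exact ⟨hz, rfl, by rw [smul_smul, Involutions.mul_self_eq_one hz, one_smul], hcen⟩
      let j : {x : G × ((G ⧸ M) × (G ⧸ M)) // x ∈ A.filter fun x => (x.2.2, x.1 • x.2.2) = pq} → X :=
        fun x => ⟨x₀.1 * x.1.1, by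
          obtain ⟨-, a1, a2, -⟩ := key _ x.2
          obtain ⟨-, b1, b2, -⟩ := key _ hx₀
          constructor
          · show (x₀.1 * x.1.1) • pq.1 = pq.1
            rw [mul_smul, a1, b2]
          · show (x₀.1 * x.1.1) • pq.2 = pq.2
            rw [mul_smul, a2, b1]⟩
      have hj : Function.Injective j := fun a b e => by
        have h1 : a.1.1 = b.1.1 := mul_left_cancel (congrArg Subtype.val e)
        obtain ⟨ha, -, -, ha'⟩ := key _ a.2
        obtain ⟨hb, -, -, hb'⟩ := key _ b.2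
        have h2 := (Finset.mem_filter.1 a.2).2
        have h3 := (Finset.mem_filter.1 b.2).2
        refine Subtype.ext (Prod.ext h1 (Prod.ext ?_ ?_))
        · rw [← h1] at hb'; exact P.cen_unique hC ha ha' hb'
        · exact (congrArg Prod.fst h2).trans (congrArg Prod.fst h3).symm
      have h2 := Nat.card_le_card_of_injective j hj
      rwa [Nat.card_eq_fintype_card, Fintype.card_coe] at h2
  omega

end CfsgLib.CIT
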