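import Cfsg.Agent.Lib.CIT.Natural
import Cfsg.Agent.Lib.PrimeElementOrders.Dichotomy

/-!
Maximal 2-local subgroups of a simple CIT group: the action of the quotient by the core on the
involutions of the centre of the core.
-/

set_option autoImplicit false

open Cfsg CfsgLib.PrimeElementOrders

namespace CfsgLib.CIT

universe u

variable {G : Type u} [Group G]

/-- The standing hypotheses of the induction. -/
structure Ctx (G : Type u) [Group G] : Prop where
  cit : IsCIT G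
  simple : IsSimpleGroup G
  nonabelian : ∃ a b : G, a * b ≠ b * a
  even : 2 ∣ Nat.card G
  ih : ∀ (H : Type u) [Group H] [Finite H], Nat.card H < Nat.card G → IsCIT H → IsSimpleGroup H →
    (∃ a b : H, a * b ≠ b * a) → 2 ∣ Nat.card H → Outcome H

/-- The quotient of a subgroup by its 2-core. -/
abbrev Qt (M : Subgroup G) : Type u := M ⧸ pCore 2 M

/-- The involutions in the centre of the core, with one. -/
abbrev Vm (M : Subgroup G) : Type u := ↥(omegaZ (pCoreOf 2 M))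

instance omegaZCommGroup (P : Subgroup G) : CommGroup (omegaZ P) :=
  { (inferInstance : Group (omegaZ P)) with
    mul_comm := fun a b => Subtype.ext (a.2.2.2 b b.2.1) }

theorem le_normalizer_omegaZ (M : Subgroup G) :
    M ≤ Subgroup.normalizer (omegaZ (pCoreOf 2 M) : Set G) := by
  intro m hm
  rw [Subgroup.mem_normalizer_iff]
  intro a
  refine ⟨fun ha => normalizer_le_omegaZ (le_normalizer_pCoreOf M hm) ha, fun ha => ?_⟩
  have h1 := normalizer_le_omegaZ (le_normalizer_pCoreOf M (M.inv_mem hm)) ha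
  simpa [mul_assoc] using h1

theorem mem_pCoreOf_iff {M : Subgroup G} (m : M) : (m : G) ∈ pCoreOf 2 M ↔ m ∈ pCore 2 M := by
  constructor
  · rintro ⟨b, hb, e⟩
    exact M.subtype_injective e ▸ hb
  · exact fun h => ⟨m, h, rfl⟩

theorem qmk_eq_one_iff {M : Subgroup G} (m : M) :
    (QuotientGroup.mk m : Qt M) = 1 ↔ (m : G) ∈ pCoreOf 2 M :=
  (QuotientGroup.eq_one_iff m).trans (mem_pCoreOf_iff m).symm

/-- The action on `Vm M`. -/
def actV (M : Subgroup G) : Qt M →* MulAut (Vm M) :=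
  QuotientGroup.lift (pCore 2 M)
    ((Subgroup.normalizerMonoidHom (omegaZ (pCoreOf 2 M))).comp
      (Subgroup.inclusion (le_normalizer_omegaZ M)))
    fun m hm => by
      refine MulEquiv.ext fun v => Subtype.ext ?_
      show (m : G) * v * (m : G)⁻¹ = v
      rw [← v.2.2.2 _ ((mem_pCoreOf_iff m).2 hm), mul_inv_cancel_right]

instance actVm (M : Subgroup G) : MulDistribMulAction (Qt M) (Vm M) :=
  MulDistribMulAction.compHom (Vm M) (actV M)

theorem coe_smul_mk {M : Subgroup G} (m : M) (v : Vm M) :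
    (((QuotientGroup.mk m : Qt M) • v : Vm M) : G) = (m : G) * v * (m : G)⁻¹ := rfl

theorem smul_mk_eq_iff {M : Subgroup G} (m : M) (v : Vm M) :
    (QuotientGroup.mk m : Qt M) • v = v ↔ Commute (m : G) (v : G) := by
  rw [Subtype.ext_iff, coe_smul_mk, mul_inv_eq_iff_eq_mul]
  rfl

theorem omegaZ_top_le {M T : Subgroup G} (hDT : pCoreOf 2 M ≤ T)
    (hcent : Subgroup.centralizer (pCoreOf 2 M : Set G) ≤ pCoreOf 2 M) :
    omegaZ T ≤ omegaZ (pCoreOf 2 M) := fun a ha =>
  ⟨hcent fun b hb => (ha.2.2 b (hDT hb)).symm, ha.2.1, fun b hb => ha.2.2 b (hDT hb)⟩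

variable [Finite G]

/-- An element of odd order whose commutator with `y` lies in a 2-group fixes an element of the coset. -/
theorem IsCIT.mem_of_fix_coset (hG : IsCIT G) {D N : Subgroup G} (hD : IsPGroup 2 D) (hND : N ≤ D)
    {x y : G} (hx : Odd (orderOf x)) (hx1 : x ≠ 1) (hxN : x ∈ Subgroup.normalizer (N : Set G))
    (hy : y ∈ D) (hfix : x * y * x⁻¹ * y⁻¹ ∈ N) : y ∈ N := by
  classical
  let K : Subgroup G :=
    { carrier := {a | a ∈ Subgroup.normalizer (N : Set G) ∧ a * y * a⁻¹ * y⁻¹ ∈ N}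
      one_mem' := ⟨one_mem _, by simp⟩
      mul_mem' := fun {a b} ha hb => ⟨mul_mem ha.1 hb.1, by
        rw [show a * b * y * (a * b)⁻¹ * y⁻¹ =
          a * (b * y * b⁻¹ * y⁻¹) * a⁻¹ * (a * y * a⁻¹ * y⁻¹) by group]
        exact N.mul_mem ((Subgroup.mem_normalizer_iff.1 ha.1 _).1 hb.2) ha.2⟩
      inv_mem' := fun {a} ha => ⟨inv_mem ha.1, by
        have h1 := N.inv_mem ((Subgroup.mem_normalizer_iff''.1 ha.1 _).1 ha.2)
        simpa [mul_assoc] using h1⟩ }
  obtain ⟨p, hp, hpd⟩ := Nat.exists_prime_and_dvd (fun e => hx1 (orderOf_eq_one_iff.1 e))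
  have hpodd : Odd p := hx.of_dvd_nat hpd
  have : Fact p.Prime := ⟨hp⟩
  set x' := x ^ (orderOf x / p)
  have hx'o : orderOf x' = p := orderOf_pow_orderOf_div (orderOf_pos x).ne' hpd
  have hx'1 : x' ≠ 1 := fun e => by rw [e, orderOf_one] at hx'o; exact hp.one_lt.ne hx'o
  have hPK : Subgroup.zpowers x' ≤ K :=
    Subgroup.zpowers_le.2 (K.pow_mem ⟨hxN, hfix⟩ _)
  let C := {g : G // g * y⁻¹ ∈ N}
  letI : MulAction (Subgroup.zpowers x') C :=
    { smul := fun a g => ⟨(a : G) * g * (a : G)⁻¹, by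
        rw [show (a : G) * g * (a : G)⁻¹ * y⁻¹ =
          (a : G) * ((g : G) * y⁻¹) * (a : G)⁻¹ * ((a : G) * y * (a : G)⁻¹ * y⁻¹) by group]
        exact N.mul_mem ((Subgroup.mem_normalizer_iff.1 (hPK a.2).1 _).1 g.2) (hPK a.2).2⟩
      one_smul := fun g => Subtype.ext (by
        show ((1 : Subgroup.zpowers x') : G) * g * ((1 : Subgroup.zpowers x') : G)⁻¹ = g; simp)
      mul_smul := fun a b g => Subtype.ext (by
        show ((a * b : Subgroup.zpowers x') : G) * g * ((a * b : Subgroup.zpowers x') : G)⁻¹ =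
          a * (b * g * (b : G)⁻¹) * (a : G)⁻¹
        simp [mul_assoc]) }
  have hPp : IsPGroup p (Subgroup.zpowers x') :=
    IsPGroup.of_card (n := 1) (by rw [pow_one, Nat.card_zpowers, hx'o])
  have hC : Nat.card C = Nat.card N := Nat.card_congr
    { toFun := fun g => ⟨g * y⁻¹, g.2⟩
      invFun := fun n => ⟨n * y, by simp⟩
      left_inv := fun g => Subtype.ext (by simp)
      right_inv := fun n => Subtype.ext (by simp) }
  have hnd : ¬ p ∣ Nat.card C := by
    obtain ⟨n, hn⟩ := IsPGroup.iff_card.1 (hD.to_le hND)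
    rw [hC, hn]
    intro h
    rw [(Nat.prime_dvd_prime_iff_eq hp Nat.prime_two).1 (hp.dvd_of_dvd_pow h)] at hpodd
    exact absurd hpodd (by decide)
  obtain ⟨⟨g, hgN⟩, hg⟩ := hPp.nonempty_fixed_point_of_prime_not_dvd_card C hnd
  have h1 : x' * g * x'⁻¹ = g := congrArg Subtype.val (hg ⟨x', Subgroup.mem_zpowers x'⟩)
  have hgD : g ∈ D := by
    have := D.mul_mem (hND hgN) hy
    simpa using this
  have h2 : g = 1 := hG.fpf hD hgD (hx'o ▸ hpodd) hx'1 (mul_inv_eq_iff_eq_mul.1 h1).symm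
  rw [h2, one_mul] at hgN
  simpa using N.inv_mem hgN

variable (hC : Ctx G)

include hC

theorem Ctx.not_two_group : ¬ IsPGroup 2 G := by
  intro h
  have := hC.simple
  have : Fact (Nat.Prime 2) := ⟨Nat.prime_two⟩
  have : Nontrivial G := by
    obtain ⟨a, b, hab⟩ := hC.nonabelian
    exact nontrivial_of_ne _ _ hab
  have := h.center_nontrivial
  rcases (inferInstance : (Subgroup.center G).Normal).eq_bot_or_eq_top with e | e
  · exact (Subgroup.nontrivial_iff_ne_bot _).1 this e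
  · obtain ⟨a, b, hab⟩ := hC.nonabelian
    exact hab (Subgroup.mem_center_iff.1 (e ▸ Subgroup.mem_top b) a)

theorem Ctx.ne_top_of_isLoc {M : Subgroup G} (h : IsLoc M) : M ≠ ⊤ := by
  obtain ⟨T, hT, h1, -, hN⟩ := h
  rintro rfl
  have := hC.simple
  have hn : T.Normal := Subgroup.normalizer_eq_top_iff.1 (top_le_iff.1 hN)
  rcases hn.eq_bot_or_eq_top with h | h
  · exact h1 h
  · subst h
    exact hC.not_two_group (hT.of_equiv Subgroup.topEquiv)

theorem Ctx.centralizer_core_le {M : Subgroup G} (hM : IsMaxLoc M) :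
    Subgroup.centralizer (pCoreOf 2 M : Set G) ≤ pCoreOf 2 M :=
  le_pCoreOf (hC.cit.isPGroup_centralizer_subgroup (isPGroup_pCoreOf M) hM.core_ne_bot)
    ((Subgroup.centralizer_le_normalizer _).trans (le_of_eq hM.normalizer_core))
    (le_normalizer_centralizer (le_normalizer_pCoreOf M))

omit [Finite G] hC in
theorem pCore_qt_eq_bot (M : Subgroup G) : pCore 2 (Qt M) = ⊥ := Cores.pCore_quotient_pCore 2 M

theorem Ctx.cit_qt (M : Subgroup G) : IsCIT (Qt M) :=
  (hC.cit.subgroup M).quotient (Cores.isPGroup_pCore 2 M)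

omit hC in
theorem nontrivial_vm {M : Subgroup G} (hM : IsMaxLoc M) : Nontrivial (Vm M) :=
  (Subgroup.nontrivial_iff_ne_bot _).2 (omegaZ_ne_bot (isPGroup_pCoreOf M) hM.core_ne_bot)

omit [Finite G] hC in
/-- An element of odd order of the quotient has a preimage of the same order. -/
theorem exists_odd_lift {M : Subgroup G} (y : Qt M) (hy : Odd (orderOf y)) :
    ∃ m : M, (QuotientGroup.mk m : Qt M) = y ∧ orderOf (m : G) = orderOf y := by
  obtain ⟨m, rfl⟩ := QuotientGroup.mk_surjective y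
  set n := orderOf (QuotientGroup.mk m : Qt M) with hn
  have h1 : m ^ n ∈ pCore 2 M := by
    rw [← QuotientGroup.eq_one_iff, QuotientGroup.mk_pow, hn, pow_orderOf_eq_one]
  obtain ⟨a, ha⟩ := Cores.isPGroup_pCore 2 M ⟨_, h1⟩
  have ha' : (m ^ n) ^ 2 ^ a = 1 := congrArg Subtype.val ha
  obtain ⟨e, he⟩ := exists_pow_eq_self_of_coprime (n := 2 ^ a) (x := (QuotientGroup.mk m : Qt M))
    (Nat.Coprime.pow_left a (Nat.coprime_two_left.2 hy))
  refine ⟨(m ^ 2 ^ a) ^ e, by rw [QuotientGroup.mk_pow, QuotientGroup.mk_pow, he], ?_⟩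
  rw [Subgroup.orderOf_coe]
  refine Nat.dvd_antisymm (orderOf_dvd_of_pow_eq_one ?_) ?_
  · rw [← pow_mul, ← pow_mul, show 2 ^ a * (e * n) = n * 2 ^ a * e by ring, pow_mul, pow_mul, ha',
      one_pow]
  · have := orderOf_map_dvd (QuotientGroup.mk' (pCore 2 M)) ((m ^ 2 ^ a) ^ e)
    rw [QuotientGroup.mk'_apply, QuotientGroup.mk_pow, QuotientGroup.mk_pow, he] at this
    exact this

theorem Ctx.fpfAct (M : Subgroup G) : FPFAct (Qt M) (Vm M) := by
  refine ⟨fun v => Subtype.ext v.2.2.1, fun x hx hx1 v hv => ?_⟩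
  obtain ⟨m, rfl, hmo⟩ := exists_odd_lift x hx
  refine Subtype.ext (hC.cit.fpf (isPGroup_pCoreOf M) v.2.1 (hmo.symm ▸ hx) (fun e => hx1 ?_)
    ((smul_mk_eq_iff m v).1 hv).symm)
  rw [OneMemClass.coe_eq_one.1 e]
  rfl

theorem Ctx.ih_qt {M : Subgroup G} (hM : IsMaxLoc M) (N : Subgroup (Qt M)) (hs : IsSimpleGroup N)
    (hna : ∃ a b : N, a * b ≠ b * a) (h2 : 2 ∣ Nat.card N) : Outcome N := by
  refine hC.ih N ?_ ((hC.cit_qt M).subgroup N) hs hna h2
  refine (Subgroup.card_le_card_group N).trans_lt (lt_of_le_of_lt ?_ (?_ : Nat.card M < Nat.card G))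
  · exact Nat.card_le_card_of_surjective _ QuotientGroup.mk_surjective
  · refine lt_of_le_of_ne (Subgroup.card_le_card_group M) fun e => ?_
    exact hC.ne_top_of_isLoc hM.prop (Subgroup.eq_top_of_card_eq M e)

theorem Ctx.mem_core_of_commute {M : Subgroup G} (hM : IsMaxLoc M) {m : G} (hm : m ∈ M)
    (hc : ∀ v ∈ omegaZ (pCoreOf 2 M), Commute m v) : m ∈ pCoreOf 2 M := by
  have := nontrivial_vm hM
  refine (qmk_eq_one_iff ⟨m, hm⟩).1 ((hC.fpfAct M).eq_one_of_trivial (pCore_qt_eq_bot M) fun v => ?_)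
  exact (smul_mk_eq_iff _ v).2 (hc v v.2)

/-- Every involution of the quotient comes from an involution. -/
theorem Ctx.exists_invol_lift {M : Subgroup G} (t : Qt M) (ht : orderOf t = 2) :
    ∃ τ : M, (QuotientGroup.mk τ : Qt M) = t ∧ orderOf (τ : G) = 2 := by
  classical
  have hout : t ∉ pCore 2 (Qt M) := by
    rw [pCore_qt_eq_bot, Subgroup.mem_bot]
    exact Involutions.ne_one ht
  obtain ⟨x₀, hx₀, hx₀1, hinv₀⟩ := exists_inverted ht hout
  obtain ⟨p, hp, hpd⟩ := Nat.exists_prime_and_dvd (fun e => hx₀1 (orderOf_eq_one_iff.1 e))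
  have hpodd : Odd p := hx₀.of_dvd_nat hpd
  have : Fact p.Prime := ⟨hp⟩
  set x₁ := x₀ ^ (orderOf x₀ / p)
  have hx₁o : orderOf x₁ = p := orderOf_pow_orderOf_div (orderOf_pos x₀).ne' hpd
  have hinv : t * x₁ * t⁻¹ = x₁⁻¹ := by rw [← conj_pow, hinv₀, inv_pow]
  obtain ⟨xm, hxm, hxo⟩ := exists_odd_lift x₁ (hx₁o.symm ▸ hpodd)
  rw [hx₁o] at hxo
  obtain ⟨τ₀, rfl⟩ := QuotientGroup.mk_surjective t
  let C := {c : M // (QuotientGroup.mk c : Qt M) = QuotientGroup.mk τ₀}
  have hmem : ∀ (a : Subgroup.zpowers xm) (c : C),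
      (QuotientGroup.mk ((a : M) * c * (a : M)) : Qt M) = QuotientGroup.mk τ₀ := by
    intro a c
    obtain ⟨n, hn⟩ := Subgroup.mem_zpowers_iff.1 a.2
    have h1 : (QuotientGroup.mk τ₀ : Qt M) * x₁ ^ n = x₁ ^ (-n) * QuotientGroup.mk τ₀ := by
      rw [← mul_inv_eq_iff_eq_mul, ← conj_zpow, hinv, inv_zpow, zpow_neg]
    rw [← hn, QuotientGroup.mk_mul, QuotientGroup.mk_mul, QuotientGroup.mk_zpow, hxm, c.2, mul_assoc,
      h1, ← mul_assoc, ← zpow_add, add_neg_cancel, zpow_zero, one_mul]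
  letI : MulAction (Subgroup.zpowers xm) C :=
    { smul := fun a c => ⟨(a : M) * c * (a : M), hmem a c⟩
      one_smul := fun c => Subtype.ext (by
        show ((1 : Subgroup.zpowers xm) : M) * c * ((1 : Subgroup.zpowers xm) : M) = c; simp)
      mul_smul := fun a b c => Subtype.ext (by
        show ((a * b : Subgroup.zpowers xm) : M) * c * ((a * b : Subgroup.zpowers xm) : M) =
          (a : M) * ((b : M) * c * b) * a
        have e : ((a * b : Subgroup.zpowers xm) : M) = (b : M) * a := by rw [mul_comm']; rfl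
        conv_lhs => arg 2; rw [e]
        simp [mul_assoc]) }
  have hPp : IsPGroup p (Subgroup.zpowers xm) :=
    IsPGroup.of_card (n := 1) (by rw [pow_one, Nat.card_zpowers, ← Subgroup.orderOf_coe, hxo])
  have hCc : Nat.card C = Nat.card (pCore 2 M) := Nat.card_congr
    { toFun := fun c => ⟨τ₀⁻¹ * c, QuotientGroup.eq.1 c.2.symm⟩
      invFun := fun n => ⟨τ₀ * n, (QuotientGroup.eq.2 (by simp [n.2])).symm⟩
      left_inv := fun c => Subtype.ext (by simp)
      right_inv := fun n => Subtype.ext (by simp) }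
  have hnd : ¬ p ∣ Nat.card C := by
    obtain ⟨n, hn⟩ := IsPGroup.iff_card.1 (Cores.isPGroup_pCore 2 M)
    rw [hCc, hn]
    intro h
    rw [(Nat.prime_dvd_prime_iff_eq hp Nat.prime_two).1 (hp.dvd_of_dvd_pow h)] at hpodd
    exact absurd hpodd (by decide)
  obtain ⟨⟨τ, hτ⟩, hfix⟩ := hPp.nonempty_fixed_point_of_prime_not_dvd_card C hnd
  have h1 : xm * τ * xm = τ := congrArg Subtype.val (hfix ⟨xm, Subgroup.mem_zpowers xm⟩)
  have h2 : Commute (τ * τ) xm := by
    show τ * τ * xm = xm * (τ * τ)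
    calc τ * τ * xm = (xm * τ * xm) * τ * xm := by rw [h1]
      _ = xm * τ * (xm * τ * xm) := by group
      _ = xm * (τ * τ) := by rw [h1, mul_assoc]
  have h3 : ((τ * τ : M) : G) ∈ pCoreOf 2 M := by
    rw [← qmk_eq_one_iff, QuotientGroup.mk_mul, hτ, Involutions.mul_self_eq_one ht]
  have h4 : ((τ * τ : M) : G) = 1 := hC.cit.fpf (isPGroup_pCoreOf M) h3 (hxo.symm ▸ hpodd)
    (fun e => by rw [e, orderOf_one] at hxo; exact hp.one_lt.ne hxo) (congrArg Subtype.val h2.eq)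
  refine ⟨τ, hτ, Involutions.orderOf_eq_two_iff.2 ⟨h4, fun e => ?_⟩⟩
  rw [← hτ, OneMemClass.coe_eq_one.1 e, QuotientGroup.mk_one, orderOf_one] at ht
  omega

omit hC in
/-- Every involution of the quotient inverts a non-trivial element of odd order. -/
theorem exists_inverted_qt {M : Subgroup G} {t : Qt M} (ht : orderOf t = 2) :
    ∃ x : M, Odd (orderOf (x : G)) ∧ (x : G) ∉ pCoreOf 2 M ∧
      t * (QuotientGroup.mk x : Qt M) * t⁻¹ = (QuotientGroup.mk x : Qt M)⁻¹ := by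
  have hout : t ∉ pCore 2 (Qt M) := by
    rw [pCore_qt_eq_bot, Subgroup.mem_bot]
    exact Involutions.ne_one ht
  obtain ⟨x₀, hx₀, hx₀1, hinv₀⟩ := exists_inverted ht hout
  obtain ⟨x, rfl, hxo⟩ := exists_odd_lift x₀ hx₀
  exact ⟨x, hxo.symm ▸ hx₀, fun h => hx₀1 ((qmk_eq_one_iff x).2 h), hinv₀⟩

/-- A subgroup of an invariant subgroup of the core centralised by `τ` has order at most the root. -/
theorem Ctx.sq_le {M : Subgroup G} {τ x : M} (hxD : (x : G) ∉ pCoreOf 2 M)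
    (hxo : Odd (orderOf (x : G)))
    (hinv : (QuotientGroup.mk τ : Qt M) * QuotientGroup.mk x * (QuotientGroup.mk τ : Qt M)⁻¹ =
      (QuotientGroup.mk x : Qt M)⁻¹)
    {X A : Subgroup G} (hX : X ≤ pCoreOf 2 M) (hxX : ∀ a ∈ X, (x : G) * a * (x : G)⁻¹ ∈ X)
    (hA : A ≤ X) (hc : ∀ a ∈ A, Commute a (τ : G)) :
    Nat.card A ^ 2 ≤ Nat.card X := by
  set ξ : Qt M := QuotientGroup.mk x with hξ
  have hξ1 : ξ ≠ 1 := fun e => hxD ((qmk_eq_one_iff x).1 e)
  have hξodd : Odd (orderOf ξ) := by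
    refine hxo.of_dvd_nat ?_
    rw [Subgroup.orderOf_coe]
    exact orderOf_map_dvd (QuotientGroup.mk' _) x
  -- the commutator has an odd part outside the core
  set w : M := x * τ * x⁻¹ * τ⁻¹ with hw
  have hwq : (QuotientGroup.mk w : Qt M) = ξ * ξ := by
    rw [hw, show x * τ * x⁻¹ * τ⁻¹ = x * (τ * x⁻¹ * τ⁻¹) by group, QuotientGroup.mk_mul,
      QuotientGroup.mk_mul, QuotientGroup.mk_mul, QuotientGroup.mk_inv, QuotientGroup.mk_inv,
      ← conj_inv, hinv, inv_inv]
  have hkey : ∀ a ∈ pCoreOf 2 M, Commute a (τ : G) →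
      Commute a ((x : G) * τ * (x : G)⁻¹) → a = 1 := by
    intro a ha h1 h2
    obtain ⟨k, n, hn, hkn⟩ := Nat.exists_eq_two_pow_mul_odd (orderOf_pos (w : G)).ne'
    have ho : orderOf ((w : G) ^ 2 ^ k) = n := by
      rw [orderOf_pow' _ (pow_ne_zero k two_ne_zero), hkn, Nat.gcd_mul_right_left,
        Nat.mul_div_cancel_left _ (Nat.two_pow_pos k)]
    refine hC.cit.fpf (isPGroup_pCoreOf M) ha (x := (w : G) ^ 2 ^ k) (ho.symm ▸ hn) ?_ ?_
    · intro e
      have e2 : (ξ * ξ) ^ 2 ^ k = 1 := by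
        rw [← hwq, ← QuotientGroup.mk_pow, qmk_eq_one_iff, Subgroup.coe_pow, e]
        exact one_mem _
      rw [← pow_two, ← pow_mul] at e2
      have h3 := orderOf_dvd_of_pow_eq_one e2
      exact hξ1 (orderOf_eq_one_iff.1 (Nat.Coprime.eq_one_of_dvd
        (Nat.Coprime.mul_right (Nat.coprime_two_right.2 hξodd)
          (Nat.Coprime.pow_right k (Nat.coprime_two_right.2 hξodd))) h3))
    · exact (h2.mul_right h1.inv_right).pow_right _
  let f : A × A → X := fun p =>
    ⟨(p.1 : G) * ((x : G) * (p.2 : G) * (x : G)⁻¹), X.mul_mem (hA p.1.2) (hxX _ (hA p.2.2))⟩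
  have hf : Function.Injective f := by
    rintro ⟨a, b⟩ ⟨a', b'⟩ e
    have e' : (a : G) * ((x : G) * b * (x : G)⁻¹) = (a' : G) * ((x : G) * b' * (x : G)⁻¹) :=
      congrArg Subtype.val e
    have e2 : (a' : G)⁻¹ * a = (x : G) * ((b' : G) * (b : G)⁻¹) * (x : G)⁻¹ := by
      calc (a' : G)⁻¹ * a =
          (a' : G)⁻¹ * ((a : G) * ((x : G) * b * (x : G)⁻¹)) * ((x : G) * b * (x : G)⁻¹)⁻¹ := by group
        _ = _ := by rw [e']; group
    have h1 : (a' : G)⁻¹ * a = 1 := by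
      refine hkey _ (hX (hA (A.mul_mem (A.inv_mem a'.2) a.2)))
        (hc _ (A.mul_mem (A.inv_mem a'.2) a.2)) ?_
      rw [e2]
      have h2 := (hc _ (A.mul_mem b'.2 (A.inv_mem b.2))).map (MulAut.conj (x : G)).toMonoidHom
      simpa only [MulEquiv.coe_toMonoidHom, MulAut.conj_apply, mul_assoc] using h2
    have h2 : (b' : G) * (b : G)⁻¹ = 1 := by rw [h1] at e2; exact conj_eq_one_iff.1 e2.symm
    rw [inv_mul_eq_one] at h1
    rw [mul_inv_eq_one] at h2
    exact Prod.ext (Subtype.ext h1.symm) (Subtype.ext h2.symm)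
  have := Nat.card_le_card_of_injective f hf
  rwa [Nat.card_prod, ← pow_two] at this

omit [Finite G] hC in
/-- A maximal 2-subgroup of a maximal 2-local contains the core. -/
theorem core_le_of_max {M T : Subgroup G} (hTM : T ≤ M) (hT : IsPGroup 2 T)
    (hmax : ∀ R : Subgroup G, IsPGroup 2 R → T ≤ R → R ≤ M → R = T) : pCoreOf 2 M ≤ T := by
  have h1 : IsPGroup 2 ↥(T ⊔ pCoreOf 2 M) := hT.to_sup_of_normal_right' (isPGroup_pCoreOf M)
    (hTM.trans (le_normalizer_pCoreOf M))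
  exact le_sup_right.trans (hmax _ h1 le_sup_left (sup_le hTM (pCoreOf_le M))).le

end CfsgLib.CIT
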