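import Cfsg.Agent.Lib.CIT.Outcome

/-!
`PSL₃(4)` contains an elementary abelian subgroup of order nine.
-/

set_option autoImplicit false

open Cfsg
open scoped LinearAlgebra.Projectivization Matrix

namespace CfsgLib.CIT

variable {F : Type} [Field F] [Fintype F]

theorem exists_cube_root (hF : Fintype.card F = 4) : ∃ w : F, w ≠ 0 ∧ w ≠ 1 ∧ w * (w * w) = 1 := by
  classical
  obtain ⟨w, -, hw⟩ := Finset.exists_mem_notMem_of_card_lt_card
    (show ({0, 1} : Finset F).card < (Finset.univ : Finset F).card by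
      rw [Finset.card_univ, hF]
      exact lt_of_le_of_lt Finset.card_le_two (by norm_num))
  simp only [Finset.mem_insert, Finset.mem_singleton, not_or] at hw
  have h := FiniteField.pow_card_sub_one_eq_one w hw.1
  rw [hF] at h
  exact ⟨w, hw.1, hw.2, by rw [← h]; ring⟩

open Matrix in
theorem hasNoncyclicThree_psl (hF : Fintype.card F = 4) :
    HasNoncyclicThree (Matrix.ProjectiveSpecialLinearGroup (Fin 3) F) := by
  classical
  obtain ⟨w, hw0, hw1, hw3⟩ := exists_cube_root hF
  let A : SpecialLinearGroup (Fin 3) F :=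
    ⟨!![1, 0, 0; 0, w, 0; 0, 0, w * w], by simp [det_fin_three, hw3]⟩
  let B : SpecialLinearGroup (Fin 3) F :=
    ⟨!![0, 0, 1; 1, 0, 0; 0, 1, 0], by simp [det_fin_three]⟩
  let π := QuotientGroup.mk' (Subgroup.center (SpecialLinearGroup (Fin 3) F))
  let φ := Projectivization.PSLAction.toPermHom (K := F) (ι := Fin 3)
  have hφ := ProjectiveSpecialLinearGroup.toPermHom_injective (K := F) (ι := Fin 3)
  have hact : ∀ (g : SpecialLinearGroup (Fin 3) F) (v : Fin 3 → F) (hv : v ≠ 0) (u : Fin 3 → F)
      (hu : u ≠ 0) (c : F), c • u = g.1 *ᵥ v →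
      φ (π g) (Projectivization.mk F v hv) = Projectivization.mk F u hu := by
    intro g v hv u hu c hc
    show g • Projectivization.mk F v hv = _
    rw [Projectivization.matrixSpecialLinearGroup_smul_def, Projectivization.smul_mk,
      Projectivization.mk_eq_mk_iff']
    exact ⟨c, hc⟩
  have he0 : (![1, 0, 0] : Fin 3 → F) ≠ 0 := fun e => one_ne_zero (congrFun e 0)
  have he1 : (![0, 1, 0] : Fin 3 → F) ≠ 0 := fun e => one_ne_zero (congrFun e 1)
  have he2 : (![1, 1, 0] : Fin 3 → F) ≠ 0 := fun e => one_ne_zero (congrFun e 0)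
  have he3 : (![1, w, 0] : Fin 3 → F) ≠ 0 := fun e => one_ne_zero (congrFun e 0)
  have hA0 := hact A _ he0 _ he0 1 (funext fun i => by
    fin_cases i <;> simp [A, Matrix.mulVec, dotProduct, Fin.sum_univ_three])
  have hA2 := hact A _ he2 _ he3 1 (funext fun i => by
    fin_cases i <;> simp [A, Matrix.mulVec, dotProduct, Fin.sum_univ_three])
  have hB0 := hact B _ he0 _ he1 1 (funext fun i => by
    fin_cases i <;> simp [B, Matrix.mulVec, dotProduct, Fin.sum_univ_three])
  have hne : Projectivization.mk F _ he0 ≠ Projectivization.mk F _ he1 := by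
    rw [Ne, Projectivization.mk_eq_mk_iff']
    rintro ⟨c, hc⟩
    simpa using congrFun hc 0
  have hA3 : A * (A * A) = 1 := by
    apply Subtype.ext
    show A.1 * (A.1 * A.1) = 1
    ext i j
    fin_cases i <;> fin_cases j <;> simp [A, Matrix.mul_apply, Fin.sum_univ_three]
    · exact hw3
    · linear_combination (w * (w * w) + 1) * hw3
  have hB3 : B * (B * B) = 1 := by
    apply Subtype.ext
    show B.1 * (B.1 * B.1) = 1
    ext i j
    fin_cases i <;> fin_cases j <;> simp [B, Matrix.mul_apply, Fin.sum_univ_three]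
  have ho : ∀ g : SpecialLinearGroup (Fin 3) F, g * (g * g) = 1 → π g ≠ 1 → orderOf (π g) = 3 := by
    intro g hg hg1
    have : Fact (Nat.Prime 3) := ⟨Nat.prime_three⟩
    refine orderOf_eq_prime ?_ hg1
    rw [pow_succ', pow_two, ← map_mul, ← map_mul, hg, map_one]
  refine ⟨π A, π B, ho A hA3 ?_, ho B hB3 ?_, ?_, ?_⟩
  · intro e
    rw [e, map_one, Equiv.Perm.one_apply, Projectivization.mk_eq_mk_iff'] at hA2
    obtain ⟨c, hc⟩ := hA2
    have h1 : c = 1 := by simpa using congrFun hc 0
    exact hw1 (by simpa [h1] using congrFun hc 1)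
  · intro e
    rw [e, map_one, Equiv.Perm.one_apply] at hB0
    exact hne hB0
  · rw [← map_mul, ← map_mul]
    apply hφ
    refine Equiv.ext fun p => ?_
    induction p with | h v hv =>
    refine (hact _ v hv ((B * A).1 *ᵥ v) ?_ w ?_).trans (hact _ v hv _ _ 1 (one_smul _ _)).symm
    · intro e
      have h0 : ((B * A)⁻¹).1 *ᵥ ((B * A).1 *ᵥ v) = v := by
        rw [Matrix.mulVec_mulVec, show ((B * A)⁻¹).1 * (B * A).1 = 1 from
          congrArg Subtype.val (inv_mul_cancel (B * A)), Matrix.one_mulVec]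
      rw [e, Matrix.mulVec_zero] at h0
      exact hv h0.symm
    · show w • ((B.1 * A.1) *ᵥ v) = (A.1 * B.1) *ᵥ v
      ext i
      fin_cases i <;>
        simp [A, B, Matrix.mul_apply, Fin.sum_univ_three, Matrix.mulVec, dotProduct]
      · linear_combination v 2 * hw3
      · ring
  · intro hmem
    have h1 : Subgroup.zpowers (φ (π A)) ≤
        MulAction.stabilizer (Equiv.Perm (ℙ F (Fin 3 → F))) (Projectivization.mk F _ he0) :=
      Subgroup.zpowers_le.2 hA0
    obtain ⟨k, hk⟩ := hmem
    have h2 := h1 ⟨k, rfl⟩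
    have h3 : φ (π B) (Projectivization.mk F _ he0) = Projectivization.mk F _ he0 := by
      rw [← show π A ^ k = π B from hk, map_zpow]
      exact h2
    exact hne (h3.symm.trans hB0)

end CfsgLib.CIT
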