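import Cfsg.Agent.Lib.CIT.Incidence
import Cfsg.Agent.Lib.ExtraspecialLarge.Hyperoval

/-!
Two natural 2-locals give a group of order 20160 acting on a projective plane of order four.
-/

set_option autoImplicit false

open Cfsg CfsgLib.ExtraspecialLarge
open scoped Pointwise

namespace CfsgLib.CIT

universe u

variable {G : Type u} [Group G] [Finite G] {M M' T : Subgroup G}

theorem E2Pair.card_points (hC : Ctx G) (P : E2Pair M M' T) : Nat.card (G ⧸ M) = 21 := by
  classical
  let e : G ⧸ M := QuotientGroup.mk 1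
  letI : Fintype (G ⧸ M) := Fintype.ofFinite _
  letI : Fintype (G ⧸ M') := Fintype.ofFinite _
  let L : Finset (G ⧸ M') := Finset.univ.filter fun l => Inc M M' e l
  let pts : G ⧸ M' → Finset (G ⧸ M) := fun l => Finset.univ.filter fun p => Inc M M' p l
  have hL : L.card = 5 := by
    rw [← P.card_pencil hC e, Nat.card_eq_fintype_card, Fintype.card_subtype]
  have hpts : ∀ l, (pts l).card = 5 := fun l => by
    rw [← P.symm.card_pencil hC l, Nat.card_eq_fintype_card, Fintype.card_subtype]
    exact congrArg Finset.card (Finset.filter_congr fun p _ => ⟨Inc.swap, Inc.swap⟩)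
  have hU : (Finset.univ : Finset (G ⧸ M)).erase e = L.biUnion fun l => (pts l).erase e := by
    ext q
    simp only [Finset.mem_erase, Finset.mem_univ, and_true, Finset.mem_biUnion]
    refine ⟨fun hq => ?_, fun ⟨l, _, hq, _⟩ => hq⟩
    obtain ⟨l, h1, h2⟩ := P.exists_line hC hq
    exact ⟨l, by simp [L, h2], hq, by simp [pts, h1]⟩
  have hdisj : (L : Set (G ⧸ M')).PairwiseDisjoint fun l => (pts l).erase e := by
    intro a ha b hb hab
    rw [Function.onFun, Finset.disjoint_left]
    intro q hqa hqb
    simp only [L, Finset.mem_coe, Finset.mem_filter, Finset.mem_univ, true_and] at ha hb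
    simp only [pts, Finset.mem_erase, Finset.mem_filter, Finset.mem_univ, true_and] at hqa hqb
    exact hab (P.line_unique hC hqa.1 hqa.2 ha hqb.2 hb)
  have h4 : ∀ l ∈ L, ((pts l).erase e).card = 4 := by
    intro l hl
    rw [Finset.card_erase_of_mem, hpts]
    simpa [L, pts] using hl
  have h := congrArg Finset.card hU
  rw [Finset.card_biUnion hdisj, Finset.card_erase_of_mem (Finset.mem_univ e), Finset.sum_congr rfl h4,
    Finset.sum_const, hL, Finset.card_univ, ← Nat.card_eq_fintype_card, smul_eq_mul] at h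
  omega

theorem E2Pair.card_group (hC : Ctx G) (P : E2Pair M M' T) : Nat.card G = 20160 := by
  rw [Subgroup.card_eq_card_quotient_mul_card_subgroup M, P.card_points hC, P.left.card_M, P.card_core]

/-- The group embeds in the automorphism group of a projective plane of order four. -/
theorem E2Pair.exists_plane (hC : Ctx G) (P : E2Pair M M' T) :
    ∃ (α : Type u) (_ : Fintype α) (_ : DecidableEq α) (L : Set (Finset α)),
      IsPlaneFour L ∧ ∃ φ : G →* Equiv.Perm α, Function.Injective φ ∧ φ.range ≤ setSystemAut L := by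
  classical
  letI : Fintype (G ⧸ M) := Fintype.ofFinite _
  let line : G ⧸ M' → Finset (G ⧸ M) := fun l => Finset.univ.filter fun p => Inc M M' p l
  have hmem : ∀ p l, p ∈ line l ↔ Inc M M' p l := fun p l => by simp [line]
  refine ⟨G ⧸ M, inferInstance, inferInstance, Set.range line,
    ⟨by rw [← Nat.card_eq_fintype_card, P.card_points hC], ?_, ?_⟩, MulAction.toPermHom G (G ⧸ M), ?_, ?_⟩
  · rintro _ ⟨l, rfl⟩
    rw [← P.symm.card_pencil hC l, Nat.card_eq_fintype_card, Fintype.card_subtype]
    exact congrArg Finset.card (Finset.filter_congr fun p _ => ⟨Inc.swap, Inc.swap⟩)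
  · intro s hs
    obtain ⟨p, q, hpq, rfl⟩ := Finset.card_eq_two.1 hs
    obtain ⟨l, h1, h2⟩ := P.exists_line hC hpq
    refine ⟨line l, ⟨⟨l, rfl⟩, by simp [Finset.insert_subset_iff, hmem, h1, h2]⟩, ?_⟩
    rintro _ ⟨⟨m, rfl⟩, hm⟩
    simp only [Finset.insert_subset_iff, Finset.singleton_subset_iff, hmem] at hm
    rw [P.line_unique hC hpq hm.1 hm.2 h1 h2]
  · have := hC.simple
    rw [← MonoidHom.ker_eq_bot_iff]
    refine ((MulAction.toPermHom G (G ⧸ M)).normal_ker.eq_bot_or_eq_top).resolve_right fun e => ?_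
    have hM : M = ⊤ := eq_top_iff.2 <| e ▸ (Subgroup.normalCore_eq_ker M ▸ Subgroup.normalCore_le M)
    have h1 := P.card_points hC
    rw [← Subgroup.index, hM, Subgroup.index_top] at h1
    omega
  · rintro _ ⟨g, rfl⟩
    rw [MulAction.mem_stabilizer_iff]
    have hg : ∀ (g : G) (l : G ⧸ M'), MulAction.toPermHom G (G ⧸ M) g • line l = line (g • l) := by
      intro g l
      ext p
      rw [Finset.mem_smul_finset, hmem]
      constructor
      · rintro ⟨q, hq, rfl⟩
        exact inc_smul g ((hmem _ _).1 hq)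
      · intro hp
        refine ⟨g⁻¹ • p, (hmem _ _).2 ?_, smul_inv_smul g p⟩
        simpa using inc_smul g⁻¹ hp
    ext b
    simp only [Set.mem_smul_set, Set.mem_range]
    constructor
    · rintro ⟨_, ⟨l, rfl⟩, rfl⟩
      exact ⟨g • l, (hg g l).symm⟩
    · rintro ⟨l, rfl⟩
      exact ⟨line (g⁻¹ • l), ⟨g⁻¹ • l, rfl⟩, by rw [hg, smul_inv_smul]⟩

end CfsgLib.CIT
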