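import Cfsg.Agent.Lib.ExtraspecialLarge.Hyperoval
import Cfsg.Agent.Lib.Golay.M21

/-!
A group of order 20160 of automorphisms of a projective plane of order four is `PSL₃(4)`.
-/

set_option autoImplicit false

open Cfsg CfsgLib.ExtraspecialLarge
open scoped Pointwise LinearAlgebra.Projectivization Matrix

namespace CfsgLib.CIT

theorem image_image_lines {α : Type*} [DecidableEq α] {L : Set (Finset α)} {g : Equiv.Perm α}
    (hg : g ∈ setSystemAut L) : (fun l : Finset α => l.image g) '' L = L := by
  have h : g • L = L := hg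
  conv_rhs => rw [← h]
  rfl

theorem card_setSystemAut_le {α : Type*} [Fintype α] [DecidableEq α] {L : Set (Finset α)}
    (h : IsPlaneFour L) : Nat.card (setSystemAut L) ≤ 120960 := by
  classical
  obtain ⟨H, hH6, hH⟩ := h.exists_hyperoval
  let Hyp := {H : Finset α // H.card = 6 ∧ Indep L H}
  have himg : ∀ g : setSystemAut L, (H.image (g : Equiv.Perm α)).card = 6 ∧
      Indep L (H.image (g : Equiv.Perm α)) := by
    intro g
    refine ⟨by rw [Finset.card_image_of_injective _ (g : Equiv.Perm α).injective, hH6], fun l hl => ?_⟩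
    rw [← image_image_lines g.2] at hl
    obtain ⟨m, hm, rfl⟩ := hl
    rw [← Finset.image_inter _ _ (g : Equiv.Perm α).injective,
      Finset.card_image_of_injective _ (g : Equiv.Perm α).injective]
    exact hH m hm
  let i : setSystemAut L → Σ H' : Hyp, (↥H ≃ ↥H'.1) := fun g =>
    ⟨⟨H.image (g : Equiv.Perm α), himg g⟩,
      (g : Equiv.Perm α).subtypeEquiv fun a => by simp⟩
  let r : (Σ H' : Hyp, (↥H ≃ ↥H'.1)) → (↥H → α) := fun x p => (x.2 p : α)
  have hi : Function.Injective i := by
    refine Function.Injective.of_comp (f := r) fun g₁ g₂ e => Subtype.ext ?_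
    have he : ∀ p : ↥H, (g₁ : Equiv.Perm α) p = (g₂ : Equiv.Perm α) p := fun p => congrFun e p
    obtain ⟨hc, hI⟩ := himg g₁
    exact (existsUnique_extension h h hH6 hH hc hI
      ((g₁ : Equiv.Perm α).subtypeEquiv fun a => by simp)).unique
      ⟨image_image_lines g₁.2, fun p => rfl⟩ ⟨image_image_lines g₂.2, fun p => (he p).symm⟩
  have h1 := Nat.card_le_card_of_injective i hi
  have hfib : ∀ H' : Hyp, Nat.card (↥H ≃ ↥H'.1) = 720 := by
    intro H'
    obtain ⟨e⟩ : Nonempty (↥H ≃ ↥H'.1) := ⟨Finset.equivOfCardEq (hH6.trans H'.2.1.symm)⟩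
    rw [Nat.card_eq_fintype_card, Fintype.card_equiv e, Fintype.card_coe, hH6]
    rfl
  have hHyp : Nat.card Hyp = 168 := by
    rw [← h.card_counts.2, ← Nat.card_coe_set_eq]
    rfl
  rw [Nat.card_sigma, Finset.sum_congr rfl fun x _ => hfib x, Finset.sum_const, Finset.card_univ,
    ← Nat.card_eq_fintype_card, hHyp, smul_eq_mul] at h1
  exact h1

theorem smul_setSystem_transport {α β : Type*} [DecidableEq α] [DecidableEq β] {L : Set (Finset α)}
    {L' : Set (Finset β)} (e : α ≃ β) (he : (fun b => b.image e) '' L = L') {g : Equiv.Perm α}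
    (hg : g ∈ setSystemAut L) : e.permCongrHom g ∈ setSystemAut L' := by
  rw [MulAction.mem_stabilizer_iff, ← he]
  ext b
  simp only [Set.mem_smul_set, Set.mem_image]
  have key : ∀ l : Finset α, e.permCongrHom g • l.image e = (l.image g).image e := by
    intro l
    ext x
    simp [Finset.mem_smul_finset, Equiv.permCongrHom]
  constructor
  · rintro ⟨_, ⟨l, hl, rfl⟩, rfl⟩
    refine ⟨l.image g, ?_, (key l).symm⟩
    rw [← image_image_lines hg]
    exact ⟨l, hl, rfl⟩
  · rintro ⟨l, hl, rfl⟩
    rw [← image_image_lines hg] at hl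
    obtain ⟨m, hm, rfl⟩ := hl
    exact ⟨m.image e, ⟨m, hm, rfl⟩, key m⟩

section Std

variable {F : Type} [Field F] [Fintype F]

open Classical in
/-- The lines of the coordinate plane. -/
noncomputable def stdLines (F : Type) [Field F] [Fintype (ℙ F (Fin 3 → F))] :
    Set (Finset (ℙ F (Fin 3 → F))) :=
  Set.range fun q => Finset.univ.filter fun p => Projectivization.orthogonal p q

theorem stdLines_plane [DecidableEq F] [Fintype (ℙ F (Fin 3 → F))] [DecidableEq (ℙ F (Fin 3 → F))]
    (hF : Fintype.card F = 4) : IsPlaneFour (stdLines F) := by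
  classical
  have hcard : Fintype.card (ℙ F (Fin 3 → F)) = 21 := by
    have h := Projectivization.card F (Fin 3 → F)
    rw [Nat.card_fun, Nat.card_fin, Nat.card_eq_fintype_card (α := F), hF] at h
    norm_num at h
    omega
  have hord : Configuration.ProjectivePlane.order (ℙ F (Fin 3 → F)) (ℙ F (Fin 3 → F)) = 4 := by
    have h := Configuration.ProjectivePlane.card_points (ℙ F (Fin 3 → F)) (ℙ F (Fin 3 → F))
    rw [hcard] at h
    nlinarith
  refine ⟨hcard, ?_, ?_⟩
  · rintro _ ⟨q, rfl⟩
    have h := Configuration.ProjectivePlane.pointCount_eq (ℙ F (Fin 3 → F)) q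
    rw [hord, Configuration.pointCount, Nat.card_eq_fintype_card, Fintype.card_subtype] at h
    exact (congrArg Finset.card (Finset.filter_congr fun p _ => Iff.rfl)).trans h
  · intro s hs
    obtain ⟨p, r, hpr, rfl⟩ := Finset.card_eq_two.1 hs
    obtain ⟨h1, h2⟩ := Configuration.HasLines.mkLine_ax
      (P := ℙ F (Fin 3 → F)) (L := ℙ F (Fin 3 → F)) hpr
    refine ⟨_, ⟨⟨Configuration.HasLines.mkLine (L := ℙ F (Fin 3 → F)) hpr, rfl⟩, ?_⟩, ?_⟩
    · simp only [Finset.insert_subset_iff, Finset.singleton_subset_iff, Finset.mem_filter,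
        Finset.mem_univ, true_and]
      exact ⟨h1, h2⟩
    · rintro _ ⟨⟨q, rfl⟩, hq⟩
      simp only [Finset.insert_subset_iff, Finset.singleton_subset_iff, Finset.mem_filter,
        Finset.mem_univ, true_and] at hq
      rw [((Configuration.ofField.eq_or_eq_of_orthogonal hq.1 hq.2 h1 h2).resolve_left hpr)]

omit [Fintype F] in
theorem orthogonal_smul_smul (A : Matrix.SpecialLinearGroup (Fin 3) F) (p q : ℙ F (Fin 3 → F)) :
    Projectivization.orthogonal (A • p) ((A.transpose)⁻¹ • q) ↔ Projectivization.orthogonal p q := by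
  induction p with | h v hv =>
  induction q with | h w hw =>
  rw [Projectivization.matrixSpecialLinearGroup_smul_def, Projectivization.smul_mk,
    Projectivization.matrixSpecialLinearGroup_smul_def, Projectivization.smul_mk,
    Projectivization.orthogonal_mk, Projectivization.orthogonal_mk]
  have hinv : (A.transpose)⁻¹ = (A⁻¹).transpose := by
    apply inv_eq_of_mul_eq_one_right
    apply Subtype.ext
    show (A.1)ᵀ * ((A⁻¹).1)ᵀ = 1
    rw [← Matrix.transpose_mul, ← Matrix.SpecialLinearGroup.coe_mul, inv_mul_cancel]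
    simp
  rw [hinv]
  show ((A.1) *ᵥ v) ⬝ᵥ (((A⁻¹).1)ᵀ *ᵥ w) = 0 ↔ _
  rw [Matrix.dotProduct_mulVec, ← Matrix.mulVec_transpose, Matrix.transpose_transpose, Matrix.mulVec_mulVec]
  have h : (A⁻¹).1 * A.1 = 1 := by
    rw [← Matrix.SpecialLinearGroup.coe_mul, inv_mul_cancel]; simp
  rw [h, Matrix.one_mulVec]

omit [Fintype F] in
theorem psl_le_setSystemAut [DecidableEq F] [Fintype (ℙ F (Fin 3 → F))]
    [DecidableEq (ℙ F (Fin 3 → F))] :
    (Projectivization.PSLAction.toPermHom (K := F) (ι := Fin 3)).range ≤ setSystemAut (stdLines F) := by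
  classical
  rintro _ ⟨g, rfl⟩
  induction g using QuotientGroup.induction_on with
  | H A =>
    rw [MulAction.mem_stabilizer_iff]
    have key : ∀ (A : Matrix.SpecialLinearGroup (Fin 3) F) (q : ℙ F (Fin 3 → F)),
        (Projectivization.PSLAction.toPermHom (K := F) (ι := Fin 3)) (QuotientGroup.mk A) •
          (Finset.univ.filter fun p => Projectivization.orthogonal p q) =
          Finset.univ.filter fun p => Projectivization.orthogonal p ((A.transpose)⁻¹ • q) := by
      intro A q
      ext p
      simp only [Finset.mem_smul_finset, Finset.mem_filter, Finset.mem_univ, true_and]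
      constructor
      · rintro ⟨r, hr, rfl⟩
        exact (orthogonal_smul_smul A r q).2 hr
      · intro hp
        refine ⟨A⁻¹ • p, ?_, smul_inv_smul A p⟩
        rw [← orthogonal_smul_smul A (A⁻¹ • p) q, smul_inv_smul]
        exact hp
    ext b
    simp only [Set.mem_smul_set, stdLines, Set.mem_range]
    constructor
    · rintro ⟨_, ⟨q, rfl⟩, rfl⟩
      exact ⟨(A.transpose)⁻¹ • q, (key A q).symm⟩
    · rintro ⟨q, rfl⟩
      refine ⟨_, ⟨A.transpose • q, rfl⟩, ?_⟩
      rw [key A, inv_smul_smul]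

end Std

/-- A group of order 20160 of automorphisms of a plane of order four is `PSL₃(4)`. -/
theorem iso_psl_of_plane {G : Type*} [Group G] [Finite G] [IsSimpleGroup G]
    (hG : Nat.card G = 20160) {α : Type*} [Fintype α] [DecidableEq α] {L : Set (Finset α)}
    (hL : IsPlaneFour L) (φ : G →* Equiv.Perm α) (hφ : Function.Injective φ)
    (hle : φ.range ≤ setSystemAut L) (F : Type) [Field F] [Fintype F] (hF : Fintype.card F = 4) :
    Nonempty (G ≃* Matrix.ProjectiveSpecialLinearGroup (Fin 3) F) := by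
  classical
  letI : Fintype (ℙ F (Fin 3 → F)) := Fintype.ofFinite _
  have hS := stdLines_plane hF
  obtain ⟨H, hH6, hH⟩ := hS.exists_hyperoval
  obtain ⟨H', hH6', hH'⟩ := hL.exists_hyperoval
  obtain ⟨e, ⟨he, -⟩, -⟩ := existsUnique_extension hS hL hH6 hH hH6' hH'
    (Finset.equivOfCardEq (hH6.trans hH6'.symm))
  set ψ : Matrix.ProjectiveSpecialLinearGroup (Fin 3) F →* Equiv.Perm α :=
    e.permCongrHom.toMonoidHom.comp (Projectivization.PSLAction.toPermHom (K := F) (ι := Fin 3))
  have hψ : Function.Injective ψ :=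
    e.permCongrHom.injective.comp Matrix.ProjectiveSpecialLinearGroup.toPermHom_injective
  have hψle : ψ.range ≤ setSystemAut L := by
    rintro _ ⟨g, rfl⟩
    exact smul_setSystem_transport e he (psl_le_setSystemAut ⟨g, rfl⟩)
  have hB : Nat.card ψ.range = 20160 := by
    rw [← Nat.card_congr (MonoidHom.ofInjective hψ).toEquiv, Golay.natCard_PSL3_four hF]
  set B : Subgroup (setSystemAut L) := ψ.range.subgroupOf (setSystemAut L)
  have hBc : Nat.card B = 20160 := by
    rw [Nat.card_congr (Subgroup.subgroupOfEquivOfLe hψle).toEquiv, hB]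
  have hidx : B.index ≤ 6 := by
    have h1 := B.index_mul_card
    rw [hBc] at h1
    have h2 := card_setSystemAut_le hL
    omega
  let φ' : G →* setSystemAut L := φ.codRestrict _ fun g => hle ⟨g, rfl⟩
  let ρ : G →* Equiv.Perm (setSystemAut L ⧸ B) := (MulAction.toPermHom _ _).comp φ'
  have hker : ρ.ker = ⊤ := by
    refine (ρ.normal_ker.eq_bot_or_eq_top).resolve_left fun h => ?_
    have h1 := Nat.card_le_card_of_injective ρ ((MonoidHom.ker_eq_bot_iff ρ).1 h)
    rw [hG, Nat.card_perm, ← Subgroup.index] at h1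
    exact absurd (h1.trans (Nat.factorial_le hidx)) (by decide)
  have hsub : φ.range ≤ ψ.range := by
    rintro _ ⟨g, rfl⟩
    have h1 : ρ g = 1 := (hker ▸ Subgroup.mem_top g : g ∈ ρ.ker)
    have h2 : φ' g • (QuotientGroup.mk 1 : setSystemAut L ⧸ B) = QuotientGroup.mk 1 :=
      Equiv.ext_iff.1 h1 (QuotientGroup.mk 1)
    have h3 : (QuotientGroup.mk (φ' g * 1) : setSystemAut L ⧸ B) = QuotientGroup.mk 1 := h2
    rw [mul_one, QuotientGroup.eq, mul_one, inv_mem_iff] at h3
    exact Subgroup.mem_subgroupOf.1 h3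
  have heq : φ.range = ψ.range := Subgroup.eq_of_le_of_card_ge hsub (by
    rw [hB, ← Nat.card_congr (MonoidHom.ofInjective hφ).toEquiv, hG])
  exact ⟨((MonoidHom.ofInjective hφ).trans (MulEquiv.subgroupCongr heq)).trans
    (MonoidHom.ofInjective hψ).symm⟩

end CfsgLib.CIT
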