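import Cfsg.Agent.Lib.CIT.Dichotomy
import Cfsg.Agent.Lib.CIT.FourGroup
import Cfsg.Agent.Lib.CIT.Plane
import Cfsg.Agent.Lib.CIT.PlaneAut
import Cfsg.Agent.Lib.CIT.PSLThree

/-!
The trichotomy for simple CIT groups of even order.
-/

set_option autoImplicit false

open Cfsg

namespace CfsgLib.CIT

universe u

/-- The three cases, with the groups identified in the last two. -/
def Refined (G : Type u) [Group G] : Prop :=
  TISylow G ∨
    (HasDihedralSylow G ∧ ∃ (F : Type) (_ : Field F) (_ : Fintype F), Odd (Fintype.card F) ∧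
      Nonempty (G ≃* Matrix.ProjectiveSpecialLinearGroup (Fin 2) F)) ∨
    (HasNoncyclicThree G ∧ ∃ (F : Type) (_ : Field F) (_ : Fintype F), Fintype.card F = 4 ∧
      Nonempty (G ≃* Matrix.ProjectiveSpecialLinearGroup (Fin 3) F))

theorem Refined.outcome {G : Type u} [Group G] (h : Refined G) : Outcome G := by
  rcases h with h | ⟨h, -⟩ | ⟨h, -⟩
  · exact Or.inl h
  · exact Or.inr (Or.inl h)
  · exact Or.inr (Or.inr h)

theorem HasNoncyclicThree.of_equiv {G H : Type*} [Group G] [Group H] (h : HasNoncyclicThree H)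
    (e : H ≃* G) : HasNoncyclicThree G := by
  obtain ⟨a, b, ha, hb, hab, hn⟩ := h
  refine ⟨e a, e b, by rw [MulEquiv.orderOf_eq, ha], by rw [MulEquiv.orderOf_eq, hb],
    by rw [← map_mul, hab, map_mul], fun hmem => hn ?_⟩
  obtain ⟨k, hk⟩ := hmem
  exact ⟨k, e.injective (by rw [map_zpow]; exact hk)⟩

theorem Ctx.refined {G : Type u} [Group G] [Finite G] (hC : Ctx G) : Refined G := by
  rcases hC.dichotomy with ⟨M, T, x, s, h, h4⟩ | ⟨M, M', T, P⟩ | h
  · exact Or.inr (Or.inl (hC.psl_of_four h h4))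
  · obtain ⟨α, hf, hd, L, hL, φ, hφ, hle⟩ := P.exists_plane hC
    have := hC.simple
    letI : Fintype (GaloisField 2 2) := Fintype.ofFinite _
    have hF : Fintype.card (GaloisField 2 2) = 4 := by
      rw [← Nat.card_eq_fintype_card, GaloisField.card 2 2 (by norm_num)]
      rfl
    obtain ⟨e⟩ := iso_psl_of_plane (P.card_group hC) hL φ hφ hle (GaloisField 2 2) hF
    exact Or.inr (Or.inr ⟨(hasNoncyclicThree_psl hF).of_equiv e.symm,
      GaloisField 2 2, inferInstance, inferInstance, hF, ⟨e⟩⟩)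
  · exact Or.inl h

theorem refined_aux : ∀ (n : ℕ) (G : Type u) [Group G] [Finite G], Nat.card G = n → IsCIT G →
    IsSimpleGroup G → (∃ a b : G, a * b ≠ b * a) → 2 ∣ Nat.card G → Refined G := by
  intro n
  induction n using Nat.strong_induction_on with
  | _ n ih =>
    intro G _ _ hn hcit hs hna h2
    exact Ctx.refined ⟨hcit, hs, hna, h2,
      fun H _ _ hlt h1 h3 h4 h5 => (ih _ (hn ▸ hlt) H rfl h1 h3 h4 h5).outcome⟩

theorem refined (G : Type u) [Group G] [Finite G] [hs : IsSimpleGroup G] (hcit : IsCIT G)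
    (hna : ∃ a b : G, a * b ≠ b * a) (h2 : 2 ∣ Nat.card G) : Refined G :=
  refined_aux _ G rfl hcit hs hna h2

theorem pCore_eq_bot_of_simple {G : Type*} [Group G] [Finite G] [IsSimpleGroup G]
    (hna : ∃ a b : G, a * b ≠ b * a) : pCore 2 G = ⊥ := by
  have : Fact (Nat.Prime 2) := ⟨Nat.prime_two⟩
  refine (inferInstance : (pCore 2 G).Normal).eq_bot_or_eq_top.resolve_right fun e => ?_
  obtain ⟨a, b, hab⟩ := hna
  have hp : IsPGroup 2 G := by
    have h := Cores.isPGroup_pCore 2 G
    rw [e] at h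
    exact h.of_equiv Subgroup.topEquiv
  have := hp.center_nontrivial
  have hne : Subgroup.center G ≠ ⊥ := (Subgroup.nontrivial_iff_ne_bot _).1 this
  have ht := (inferInstance : (Subgroup.center G).Normal).eq_bot_or_eq_top.resolve_left hne
  exact hab (Subgroup.mem_center_iff.1 (ht ▸ Subgroup.mem_top b) a)

/-- A simple CIT group with Sylow 2-subgroups meeting trivially. -/
theorem psl_or_suzuki_of_tiSylow {G : Type u} [Group G] [Finite G] [IsSimpleGroup G] (hcit : IsCIT G)
    (hna : ∃ a b : G, a * b ≠ b * a) (h2 : 2 ∣ Nat.card G) (hTI : TISylow G) :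
    (∃ (F : Type) (_ : Field F) (_ : Fintype F),
        Nonempty (G ≃* Matrix.ProjectiveSpecialLinearGroup (Fin 2) F)) ∨ IsSuzuki G := by
  have : Fact (Nat.Prime 2) := ⟨Nat.prime_two⟩
  have hO := pCore_eq_bot_of_simple hna
  obtain ⟨S⟩ : Nonempty (Sylow 2 G) := inferInstance
  obtain ⟨z, -, -, hcfg⟩ := hTI.tiConfig hcit hO h2 S
  refine hcfg.psl_or_suzuki ?_
  by_contra hm
  have hm1 := TIConfig.m_pos (M := Subgroup.normalizer ((S : Subgroup G) : Set G)) (H := (S : Subgroup G))
  obtain ⟨N, hN, hodd, hne⟩ := hTI.exists_complement hcit hO h2 S (by omega)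
  have hT := hN.eq_bot_or_eq_top.resolve_left hne
  rw [hT, Subgroup.card_top] at hodd
  exact absurd h2 (by obtain ⟨k, hk⟩ := hodd; omega)

end CfsgLib.CIT
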