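import Mathlib.GroupTheory.SemidirectProduct
import Cfsg.Agent.Lib.CIT.Basic
import Cfsg.Agent.Lib.Cores.FPF

/-!
Elementary abelian 2-groups on which all non-trivial elements of odd order act fixed-point-freely.
-/

set_option autoImplicit false

namespace CfsgLib.CIT

variable {L V : Type*} [Group L] [CommGroup V] [MulDistribMulAction L V]

/-- `V` has exponent two and elements of odd order fix only the identity. -/
structure FPFAct (L V : Type*) [Group L] [CommGroup V] [MulDistribMulAction L V] : Prop where
  sq : ∀ v : V, v * v = 1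
  fpf : ∀ x : L, Odd (orderOf x) → x ≠ 1 → ∀ v : V, x • v = v → v = 1

/-- The fixed points of one element. -/
def fixSub (V : Type*) [CommGroup V] [MulDistribMulAction L V] (a : L) : Subgroup V where
  carrier := {v | a • v = v}
  one_mem' := smul_one a
  mul_mem' := fun {x y} hx hy => by
    show a • (x * y) = x * y
    rw [smul_mul', show a • x = x from hx, show a • y = y from hy]
  inv_mem' := fun {x} hx => by
    show a • x⁻¹ = x⁻¹
    rw [smul_inv', show a • x = x from hx]

theorem mem_fixSub {a : L} {v : V} : v ∈ fixSub V a ↔ a • v = v := Iff.rfl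

theorem FPFAct.inv_eq (h : FPFAct L V) (v : V) : v⁻¹ = v := inv_eq_of_mul_eq_one_right (h.sq v)

theorem FPFAct.comp {Q : Type*} [Group Q] (h : FPFAct L V) (f : Q →* L) (hf : Function.Injective f) :
    letI := MulDistribMulAction.compHom V f
    FPFAct Q V := by
  letI := MulDistribMulAction.compHom V f
  exact ⟨h.sq, fun x hx h1 v hv =>
    h.fpf (f x) ((orderOf_injective f hf x).symm ▸ hx) ((map_ne_one_iff f hf).2 h1) v hv⟩

/-- `v ↦ (a • v) v` as an endomorphism. -/
def delta (V : Type*) [CommGroup V] [MulDistribMulAction L V] (a : L) : V →* V where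
  toFun v := (a • v) * v
  map_one' := by rw [smul_one, one_mul]
  map_mul' x y := by rw [smul_mul', mul_mul_mul_comm]

theorem FPFAct.delta_eq_one_iff (h : FPFAct L V) {a : L} {v : V} :
    delta V a v = 1 ↔ a • v = v := by
  show (a • v) * v = 1 ↔ _
  rw [mul_eq_one_iff_eq_inv, h.inv_eq]

variable [Finite L] [Finite V]

/-- An involution inverting a non-trivial element of odd order fixes exactly `√|V|` points. -/
theorem FPFAct.card_fixSub_sq (h : FPFAct L V) {t x : L} (ht : orderOf t = 2) (hx : Odd (orderOf x))
    (hx1 : x ≠ 1) (hinv : t * x * t⁻¹ = x⁻¹) :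
    Nat.card (fixSub V t) ^ 2 = Nat.card V ∧ (delta V t).range = fixSub V t := by
  have htt : ∀ v : V, t • t • v = v := fun v => by
    rw [smul_smul, Involutions.mul_self_eq_one ht, one_smul]
  have hker : (delta V t).ker = fixSub V t := by
    ext v
    rw [MonoidHom.mem_ker, h.delta_eq_one_iff, mem_fixSub]
  have hle : (delta V t).range ≤ fixSub V t := by
    rintro _ ⟨v, rfl⟩
    show t • ((t • v) * v) = (t • v) * v
    rw [smul_mul', htt, mul_comm]
  have hle' : Nat.card (fixSub V t) * Nat.card (fixSub V t) ≤ Nat.card V := by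
    rw [← Nat.card_prod]
    refine Nat.card_le_card_of_injective (fun p : fixSub V t × fixSub V t => (p.1 : V) * x • (p.2 : V)) ?_
    rintro ⟨a, b⟩ ⟨a', b'⟩ e
    have e' : (a'⁻¹ * a : fixSub V t) = (x • ((b' : V) * (b : V)⁻¹) : V) := by
      rw [smul_mul', smul_inv']
      push_cast
      calc (a' : V)⁻¹ * (a : V) = (a' : V)⁻¹ * ((a : V) * x • (b : V)) * (x • (b : V))⁻¹ := by
            rw [mul_assoc, mul_inv_cancel_right]
        _ = (a' : V)⁻¹ * ((a' : V) * x • (b' : V)) * (x • (b : V))⁻¹ := by
            rw [show (a : V) * x • (b : V) = (a' : V) * x • (b' : V) from e]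
        _ = _ := by rw [inv_mul_cancel_left]
    set c : V := (b' : V) * (b : V)⁻¹
    have hc : t • c = c := ((fixSub V t).mul_mem b'.2 ((fixSub V t).inv_mem b.2))
    have hxc : t • x • c = x • c := e' ▸ (a'⁻¹ * a).2
    have hxx : (x * x) • c = c := by
      have h1 : t * x = x⁻¹ * t := by
        rw [← hinv]; group
      rw [smul_smul, h1, mul_smul, hc, inv_smul_eq_iff, smul_smul] at hxc
      exact hxc.symm
    have hc1 : c = 1 := by
      refine h.fpf (x * x) ?_ ?_ c hxx
      · rw [← pow_two, (Nat.coprime_two_right.2 hx).orderOf_pow]; exact hx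
      · intro e2
        rw [← pow_two] at e2
        have h2 := Nat.le_of_dvd two_pos (orderOf_dvd_of_pow_eq_one e2)
        obtain ⟨k, hk⟩ := hx
        exact hx1 (orderOf_eq_one_iff.1 (by omega))
    have hb : (b' : V) = b := mul_inv_eq_one.1 hc1
    refine Prod.ext (Subtype.ext ?_) (Subtype.ext hb.symm)
    simp only at e
    rw [hb] at e
    exact mul_right_cancel e
  have hcard : Nat.card (delta V t).ker * Nat.card (delta V t).range = Nat.card V := by
    rw [← Subgroup.index_ker, Subgroup.card_mul_index]
  rw [hker] at hcard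
  have hr := Subgroup.card_le_of_le hle
  have hpos := Nat.card_pos (α := fixSub V t)
  have heq : Nat.card (delta V t).range = Nat.card (fixSub V t) := by nlinarith
  refine ⟨by rw [pow_two]; rw [heq] at hcard; exact hcard, Subgroup.eq_of_le_of_card_ge hle heq.ge⟩

/-- Two commuting involutions permuted by an element of order three have the same fixed points. -/
theorem FPFAct.fixSub_le_of_three (h : FPFAct L V) {r s x : L} (hr : orderOf r = 2) (hs : orderOf s = 2)
    (hrs : r * s = s * r) (hx : orderOf x = 3) (hxr : x * r * x⁻¹ = s) (hxs : x * s * x⁻¹ = r * s) :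
    fixSub V r ≤ fixSub V s := by
  have hx3 : x * (x * x) = 1 := by rw [← pow_orderOf_eq_one x, hx]; simp [pow_succ, mul_assoc]
  have hodd : Odd (orderOf x) := hx ▸ by decide
  have hx1 : x ≠ 1 := fun e => by rw [e, orderOf_one] at hx; omega
  -- the orbit of a vector has trivial product
  have hsum : ∀ v : V, v * x • v * (x * x) • v = 1 := by
    intro v
    refine h.fpf x hodd hx1 _ ?_
    rw [smul_mul', smul_mul', smul_smul, smul_smul, hx3, one_smul, mul_comm ((x • v) * (x * x) • v) v,
      ← mul_assoc]
  intro v hv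
  rw [mem_fixSub] at hv ⊢
  have hv2 : s • x • v = x • v := by
    rw [← hxr, smul_smul, show x * r * x⁻¹ * x = x * r by group, mul_smul, hv]
  have hv3 : (r * s) • (x * x) • v = (x * x) • v := by
    rw [← hxs, ← hxr, smul_smul, show x * (x * r * x⁻¹) * x⁻¹ * (x * x) = x * x * r by group,
      mul_smul, hv]
  have hr3 : r • (x * x) • v = s • (x * x) • v := by
    conv_lhs => rw [← hv3]
    rw [smul_smul, ← mul_assoc, Involutions.mul_self_eq_one hr, one_mul]
  -- `v = (x • v) (x² • v)`
  have e1 : v = x • v * (x * x) • v := by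
    have := hsum v
    rw [mul_assoc, mul_eq_one_iff_eq_inv, h.inv_eq] at this
    exact this
  set a := x • v
  set b := (x * x) • v
  have e2 : v = r • a * s • b := by
    conv_lhs => rw [← hv, e1, smul_mul', hr3]
  have e3 : s • v = a * s • b := by rw [e1, smul_mul', hv2]
  -- `(s • v) v` is fixed by `x`
  set θ := (s • v) * v with hθ
  have e4 : θ = (r • a) * a := by
    rw [hθ, e3, e2]
    calc a * s • b * (r • a * s • b) = (r • a * a) * (s • b * s • b) := by ac_rfl
      _ = r • a * a := by rw [h.sq, mul_one]
  have e5 : x • θ = θ := by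
    conv_rhs => rw [e4]
    rw [hθ, smul_mul', smul_smul, show x * s = (x * s * x⁻¹) * x by group, hxs, mul_smul, mul_smul]
    rw [show s • a = a from hv2]
  have e6 := h.fpf x hodd hx1 θ e5
  rw [hθ, mul_eq_one_iff_eq_inv, h.inv_eq] at e6
  exact e6

omit [Finite L] [Finite V] in
/-- The action inside the semidirect product. -/
theorem conj_inl (a : L) (v : V) :
    (SemidirectProduct.inr a : V ⋊[MulDistribMulAction.toMulAut L V] L) * SemidirectProduct.inl v *
      (SemidirectProduct.inr a)⁻¹ = SemidirectProduct.inl (a • v) :=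
  ((SemidirectProduct.inl_aut (φ := MulDistribMulAction.toMulAut L V) a v).trans (by rw [map_inv])).symm

/-- An abelian group of odd order acting fixed-point-freely is cyclic. -/
theorem FPFAct.isCyclic (h : FPFAct L V) [Nontrivial V] (A : Subgroup L) [IsMulCommutative A]
    (hA : Odd (Nat.card A)) : IsCyclic A := by
  let P := V ⋊[MulDistribMulAction.toMulAut L V] L
  haveI : Finite P := Finite.of_equiv _ SemidirectProduct.equivProd.symm
  let ι : L →* P := SemidirectProduct.inr
  let W : Subgroup P := (SemidirectProduct.inl : V →* P).range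
  have hinj : Function.Injective ι := SemidirectProduct.inr_injective
  have : IsMulCommutative (A.map ι) := Subgroup.map_isMulCommutative A ι
  have hc : IsCyclic (A.map ι) := by
    refine Cores.isCyclic_of_fpf (V := W) ?_ ?_ ?_
    · obtain ⟨v, hv⟩ := exists_ne (1 : V)
      intro e
      refine hv (SemidirectProduct.inl_injective (N := V) (G := L) (φ := MulDistribMulAction.toMulAut L V) ?_)
      have h1 : SemidirectProduct.inl v ∈ W := ⟨v, rfl⟩
      rw [e, Subgroup.mem_bot] at h1
      rw [h1, map_one]
    · rintro _ ⟨a, _, rfl⟩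
      rw [Subgroup.mem_normalizer_iff]
      intro w
      constructor
      · rintro ⟨v, rfl⟩; exact ⟨a • v, (conj_inl a v).symm⟩
      · rintro ⟨v, hv⟩
        refine ⟨a⁻¹ • v, ?_⟩
        rw [← conj_inl a⁻¹ v, map_inv, hv]
        show (ι a)⁻¹ * (ι a * w * (ι a)⁻¹) * ((ι a)⁻¹)⁻¹ = w
        simp [mul_assoc]
    · rintro _ ⟨a, ha, rfl⟩ ha1
      rw [Subgroup.eq_bot_iff_forall]
      rintro _ ⟨⟨v, rfl⟩, hv⟩
      have hv : SemidirectProduct.inl v * ι a = ι a * SemidirectProduct.inl v :=
        Subgroup.mem_centralizer_singleton_iff.1 hv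
      have hodd : Odd (orderOf a) := hA.of_dvd_nat (Subgroup.orderOf_dvd_natCard A ha)
      have h1 : a • v = v := by
        refine SemidirectProduct.inl_injective (φ := MulDistribMulAction.toMulAut L V) ?_
        rw [← conj_inl a v]
        exact mul_inv_eq_iff_eq_mul.2 hv.symm
      rw [h.fpf a hodd (fun e => ha1 (by rw [e, map_one])) v h1, map_one]
  exact ((A.equivMapOfInjective ι hinj).isCyclic).2 hc

end CfsgLib.CIT
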