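import Cfsg.Agent.Lib.CIT.Faith

/-!
Simple CIT groups with Sylow 2-subgroups meeting trivially, acting fixed-point-freely: offenders,
and the natural decomposition of modules when the Sylow subgroups are elementary abelian.
-/

set_option autoImplicit false

open Cfsg
open scoped Pointwise

namespace CfsgLib.CIT

variable {L : Type*} [Group L]

/-- The vectors fixed by a subgroup. -/
def fixedBy (V : Type*) [CommGroup V] [MulDistribMulAction L V] (H : Subgroup L) : Subgroup V where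
  carrier := {v | ∀ a ∈ H, a • v = v}
  one_mem' := fun a _ => smul_one a
  mul_mem' := fun {x y} hx hy a ha => by rw [smul_mul', hx a ha, hy a ha]
  inv_mem' := fun {x} hx a ha => by rw [smul_inv', hx a ha]

theorem mem_fixedBy {V : Type*} [CommGroup V] [MulDistribMulAction L V] {H : Subgroup L} {v : V} :
    v ∈ fixedBy V H ↔ ∀ a ∈ H, a • v = v := Iff.rfl

theorem smul_mem_fixedBy {V : Type*} [CommGroup V] [MulDistribMulAction L V] {H : Subgroup L} {g : L}
    (hg : g ∈ Subgroup.normalizer (H : Set L)) {v : V} (hv : v ∈ fixedBy V H) :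
    g • v ∈ fixedBy V H := by
  intro a ha
  have h1 : g⁻¹ * a * g ∈ H := (Subgroup.mem_normalizer_iff''.1 hg a).1 ha
  calc a • g • v = g • (g⁻¹ * a * g) • v := by rw [smul_smul, smul_smul]; congr 1; group
    _ = g • v := by rw [hv _ h1]

/-- A group moving every point off `W` semiregularly: the count is divisible by its order. -/
theorem card_dvd_of_free {G X : Type*} [Group G] [Finite G] [MulAction G X] [Finite X]
    (hfree : ∀ g : G, ∀ x : X, g • x = x → g = 1) : Nat.card G ∣ Nat.card X := by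
  classical
  letI : Fintype (MulAction.orbitRel.Quotient G X) := Fintype.ofFinite _
  have h1 : Nat.card X = ∑ ω : MulAction.orbitRel.Quotient G X, Nat.card G := by
    rw [Nat.card_congr (MulAction.selfEquivSigmaOrbits G X), Nat.card_sigma]
    refine Finset.sum_congr (Finset.ext fun _ => by simp) fun ω _ => ?_
    refine (Nat.card_eq_of_bijective (fun g : G => (⟨g • ω.out, MulAction.mem_orbit _ g⟩ :
      MulAction.orbit G ω.out)) ⟨fun a b e => ?_, fun ⟨x, g, hg⟩ => ⟨g, Subtype.ext hg⟩⟩).symm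
    have e' : a • ω.out = b • ω.out := congrArg Subtype.val e
    exact (inv_mul_eq_one.1 (hfree (b⁻¹ * a) ω.out (by rw [mul_smul, e', inv_smul_smul]))).symm
  rw [h1, Finset.sum_const, smul_eq_mul]
  exact dvd_mul_left _ _

variable [Finite L]

/-- The setting of a simple CIT group with trivially intersecting Sylow `2`-subgroups. -/
structure ESetup (S : Sylow 2 L) (z : L) : Prop where
  cit : IsCIT L
  conf : TIConfig (Subgroup.normalizer ((S : Subgroup L) : Set L)) (S : Subgroup L) z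
  one_lt : 1 < TIConfig.m (Subgroup.normalizer ((S : Subgroup L) : Set L)) (S : Subgroup L)
  simple : IsSimpleGroup L

variable {S : Sylow 2 L} {z : L}

theorem ESetup.invol_facts (E : ESetup S z) {v : L} (hv : orderOf v = 2) (hvS : v ∈ (S : Subgroup L))
    {a : L} (ha : a ∈ (S : Subgroup L)) : a * v = v * a := by
  rw [← Subgroup.mem_centralizer_singleton_iff, (E.conf.invol_mem hv (E.conf.le hvS)).1]
  exact ha

/-- A two-point stabiliser. -/
theorem ESetup.exists_torus (E : ESetup S z) {ω : L ⧸ Subgroup.normalizer ((S : Subgroup L) : Set L)}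
    (hω : ω ≠ TIConfig.pt _) :
    ∃ D : Subgroup L, D ≤ Subgroup.normalizer ((S : Subgroup L) : Set L) ∧
      (∀ a, a ∈ D ↔ a ∈ Subgroup.normalizer ((S : Subgroup L) : Set L) ∧ a • ω = ω) ∧
      Nat.card D = TIConfig.m (Subgroup.normalizer ((S : Subgroup L) : Set L)) (S : Subgroup L) ∧
      Odd (Nat.card D) ∧ D ⊓ (S : Subgroup L) = ⊥ := by
  obtain ⟨t, -, htM, htω, hK, -⟩ := E.conf.exists_swap hω
  refine ⟨_, inf_le_left, fun a => ?_, hK, E.conf.se.2.2 t htM, ?_⟩
  · rw [Subgroup.mem_inf, ← TIConfig.smul_smul_pt_eq, htω]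
  · rw [inf_comm, ← inf_assoc, inf_eq_left.2 E.conf.le]
    exact E.conf.disj t htM

variable {V : Type*} [CommGroup V] [MulDistribMulAction L V] [Finite V] [Nontrivial V]

omit [Finite L] [Nontrivial V] in
theorem exists_fixedBy_ne_one [Nontrivial V] (h : FPFAct L V) (P : Subgroup L) (hP : IsPGroup 2 P) :
    ∃ v ∈ fixedBy V P, v ≠ 1 := by
  have : Fact (Nat.Prime 2) := ⟨Nat.prime_two⟩
  have h2V : 2 ∣ Nat.card V := by
    obtain ⟨v, hv⟩ := exists_ne (1 : V)
    have : orderOf v = 2 := orderOf_eq_prime (by rw [pow_two]; exact h.sq v) hv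
    exact this ▸ orderOf_dvd_natCard v
  obtain ⟨v, hv, hv1⟩ := hP.exists_fixed_point_of_prime_dvd_card_of_fixed_point V h2V
    (a := (1 : V)) (fun a => smul_one (a : L))
  exact ⟨v, fun a ha => hv ⟨a, ha⟩, fun e => hv1 e.symm⟩

/-- The conclusion of the offender argument. -/
structure NatV (V : Type*) [CommGroup V] [MulDistribMulAction L V] (S : Sylow 2 L) : Prop where
  sq : ∀ a ∈ (S : Subgroup L), a * a = 1
  card_S : Nat.card (S : Subgroup L) =
    TIConfig.m (Subgroup.normalizer ((S : Subgroup L) : Set L)) (S : Subgroup L) + 1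
  card_V : Nat.card V = Nat.card (S : Subgroup L) ^ 2
  fix_eq : ∀ a ∈ (S : Subgroup L), a ≠ 1 → fixSub V a = fixedBy V (S : Subgroup L)
  card_fix : Nat.card (fixedBy V (S : Subgroup L)) = Nat.card (S : Subgroup L)
  delta_mem : ∀ a ∈ (S : Subgroup L), ∀ v : V, (a • v) * v ∈ fixedBy V (S : Subgroup L)

/-- Offenders exist only on natural modules. -/
theorem ESetup.offender (E : ESetup S z) (h : FPFAct L V) (hO : pCore 2 L = ⊥) (A : Subgroup L)
    (hAS : A ≤ (S : Subgroup L)) (hA2 : ∀ a ∈ A, a * a = 1) (hA : A ≠ ⊥)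
    (hbig : Nat.card V ≤ Nat.card A * Nat.card (fixedBy V A)) : NatV V S := by
  classical
  have : Fact (Nat.Prime 2) := ⟨Nat.prime_two⟩
  set M := Subgroup.normalizer ((S : Subgroup L) : Set L) with hM
  set m := TIConfig.m M (S : Subgroup L)
  -- the involutions of `S`
  let Ω : Subgroup L :=
    { carrier := {a | a ∈ (S : Subgroup L) ∧ a * a = 1}
      one_mem' := ⟨one_mem _, one_mul 1⟩
      mul_mem' := fun {a b} ha hb => ⟨mul_mem ha.1 hb.1, by
        by_cases hb1 : b = 1
        · rw [hb1, mul_one, ha.2]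
        · have hc := E.invol_facts (Involutions.orderOf_eq_two_iff.2 ⟨hb.2, hb1⟩) hb.1 ha.1
          calc a * b * (a * b) = a * (b * a) * b := by group
            _ = (a * a) * (b * b) := by rw [← hc]; group
            _ = 1 := by rw [ha.2, hb.2, mul_one]⟩
      inv_mem' := fun {a} ha => ⟨inv_mem ha.1, by rw [← mul_inv_rev, ha.2, inv_one]⟩ }
  have hΩcard : Nat.card Ω = m + 1 := by
    have e1 : Nat.card {v : L // orderOf v = 2 ∧ v ∈ M} = m := E.conf.card_involutions.2
    have e2 : Nat.card Ω = Nat.card (Option {v : L // orderOf v = 2 ∧ v ∈ M}) := by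
      refine (Nat.card_eq_of_bijective (fun o => match o with
        | none => (⟨1, Ω.one_mem⟩ : Ω)
        | some v => ⟨v.1, (E.conf.invol_mem v.2.1 v.2.2).2, Involutions.mul_self_eq_one v.2.1⟩) ⟨?_, ?_⟩).symm
      · rintro (_ | a) (_ | b) e
        · rfl
        · exact absurd (congrArg Subtype.val e).symm (Involutions.ne_one b.2.1)
        · exact absurd (congrArg Subtype.val e) (Involutions.ne_one a.2.1)
        · exact congrArg some (Subtype.ext (congrArg Subtype.val e :))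
      · rintro ⟨a, ha⟩
        by_cases h1 : a = 1
        · exact ⟨none, Subtype.ext h1.symm⟩
        · exact ⟨some ⟨a, Involutions.orderOf_eq_two_iff.2 ⟨ha.2, h1⟩, E.conf.le ha.1⟩, rfl⟩
    rw [e2, Finite.card_option, e1]
  obtain ⟨ω, hω⟩ := E.conf.exists_ne_pt
  obtain ⟨D, hDM, -, hDcard, hDodd, -⟩ := E.exists_torus hω
  have hDfree : ∀ d ∈ D, ∀ v : V, d • v = v → v ≠ 1 → d = 1 := fun d hd v hv hv1 => by
    by_contra hd1
    exact hv1 (h.fpf d (hDodd.of_dvd_nat (Subgroup.orderOf_dvd_natCard D hd)) hd1 v hv)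
  -- the fixed space of `S`
  set W := fixedBy V (S : Subgroup L)
  have hDW : ∀ d ∈ D, ∀ v ∈ W, d • v ∈ W := fun d hd v hv => smul_mem_fixedBy (hDM hd) hv
  have hWm : m ∣ Nat.card W - 1 := by
    let X := {v : V // v ∈ W ∧ v ≠ 1}
    letI : MulAction D X :=
      { smul := fun d v => ⟨(d : L) • (v : V), hDW d d.2 v v.2.1, fun e => v.2.2 ((smul_eq_iff_eq_inv_smul _).1 e |>.trans (smul_one _))⟩
        one_smul := fun v => Subtype.ext (one_smul L (v : V))
        mul_smul := fun a b v => Subtype.ext (mul_smul (a : L) (b : L) (v : V)) }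
    have hX : Nat.card X = Nat.card W - 1 := by
      have : Nat.card W = Nat.card (Option X) := by
        refine (Nat.card_eq_of_bijective (fun o => match o with
          | none => (⟨1, W.one_mem⟩ : W)
          | some v => ⟨v.1, v.2.1⟩) ⟨?_, ?_⟩).symm
        · rintro (_ | a) (_ | b) e
          · rfl
          · exact absurd (congrArg Subtype.val e).symm b.2.2
          · exact absurd (congrArg Subtype.val e) a.2.2
          · exact congrArg some (Subtype.ext (congrArg Subtype.val e :))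
        · rintro ⟨a, ha⟩
          by_cases h1 : a = 1
          · exact ⟨none, Subtype.ext h1.symm⟩
          · exact ⟨some ⟨a, ha, h1⟩, rfl⟩
      rw [this, Finite.card_option, Nat.add_sub_cancel]
    rw [← hX]
    refine (show m = Nat.card D from hDcard.symm) ▸ card_dvd_of_free fun d v e => Subtype.ext ?_
    exact hDfree d d.2 v (congrArg Subtype.val e) v.2.2
  have hWge : m + 1 ≤ Nat.card W := by
    obtain ⟨v, hv, hv1⟩ := exists_fixedBy_ne_one h (S : Subgroup L) S.2
    have h1 : 1 < Nat.card W :=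
      Subgroup.one_lt_card_iff_ne_bot W |>.2 fun e => hv1 (Subgroup.mem_bot.1 (e ▸ (show v ∈ W from hv)))
    have := Nat.le_of_dvd (by omega) hWm
    omega
  -- involutions fix square roots
  have hsq : ∀ a ∈ (S : Subgroup L), a ≠ 1 → a * a = 1 → Nat.card (fixSub V a) ^ 2 = Nat.card V := by
    intro a ha h1 h2
    have ho := Involutions.orderOf_eq_two_iff.2 ⟨h2, h1⟩
    obtain ⟨x, hx, hx1, hxi⟩ := exists_inverted ho (by rw [hO, Subgroup.mem_bot]; exact h1)
    exact (h.card_fixSub_sq ho hx hx1 hxi).1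
  have hAΩ : A ≤ Ω := fun a ha => ⟨hAS ha, hA2 a ha⟩
  have hAcard := Subgroup.card_le_of_le hAΩ
  have hWle : ∀ a ∈ (S : Subgroup L), W ≤ fixSub V a := fun a ha v hv => hv a ha
  obtain ⟨⟨a₀, ha₀⟩, ha₀1⟩ := Subgroup.ne_bot_iff_exists_ne_one.1 hA
  have ha₀1' : a₀ ≠ 1 := fun e => ha₀1 (Subtype.ext e)
  have hfixA : fixedBy V A ≤ fixSub V a₀ := fun v hv => hv a₀ ha₀
  have hc1 := hsq a₀ (hAS ha₀) ha₀1' (hA2 _ ha₀)
  have hc2 := Subgroup.card_le_of_le hfixA
  have hc3 := Subgroup.card_le_of_le (hWle a₀ (hAS ha₀))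
  have hpos := Nat.card_pos (α := fixSub V a₀)
  have hq : Nat.card (fixSub V a₀) = m + 1 := by
    rw [hΩcard] at hAcard
    have h5 : Nat.card A * Nat.card (fixedBy V A) ≤ (m + 1) * Nat.card (fixSub V a₀) :=
      Nat.mul_le_mul hAcard hc2
    nlinarith
  have hVcard : Nat.card V = (m + 1) ^ 2 := by rw [← hc1, hq]
  have hWcard : Nat.card W = m + 1 := le_antisymm (hq ▸ hc3) hWge
  have hfixeq : ∀ a ∈ (S : Subgroup L), a ≠ 1 → a * a = 1 → fixSub V a = W := by
    intro a ha h1 h2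
    have h3 : Nat.card (fixSub V a) = m + 1 := by
      have := hsq a ha h1 h2
      rw [hVcard] at this
      exact Nat.pow_left_injective two_ne_zero this
    exact (Subgroup.eq_of_le_of_card_ge (hWle a ha) (by rw [hWcard, h3])).symm
  -- `S` centralises `V / W`
  let Z : Subgroup V :=
    { carrier := {v | ∀ a ∈ (S : Subgroup L), (a • v) * v ∈ W}
      one_mem' := fun a _ => by rw [smul_one, one_mul]; exact W.one_mem
      mul_mem' := fun {x y} hx hy a ha => by
        rw [smul_mul', mul_mul_mul_comm]; exact W.mul_mem (hx a ha) (hy a ha)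
      inv_mem' := fun {x} hx a ha => by
        rw [h.inv_eq]; exact hx a ha }
  have hWZ : W ≤ Z := fun v hv a ha => by rw [hv a ha, h.sq]; exact W.one_mem
  have hDZ : ∀ d ∈ D, ∀ v ∈ Z, d • v ∈ Z := by
    intro d hd v hv a ha
    have h1 : d⁻¹ * a * d ∈ (S : Subgroup L) := (Subgroup.mem_normalizer_iff''.1 (hDM hd) a).1 ha
    have e : (a • d • v) * d • v = d • (((d⁻¹ * a * d) • v) * v) := by
      rw [smul_mul', smul_smul, smul_smul]; congr 2; group
    rw [e]
    exact hDW d hd _ (hv _ h1)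
  obtain ⟨v₀, hv₀Z, hv₀W⟩ : ∃ v, v ∈ Z ∧ v ∉ W := by
    have hstab : ∀ a : (S : Subgroup L), ∀ v v' : V, (QuotientGroup.leftRel W) v v' →
        (QuotientGroup.leftRel W) ((a : L) • v) ((a : L) • v') := by
      intro a v v' e
      rw [QuotientGroup.leftRel_apply] at e ⊢
      rw [← smul_inv', ← smul_mul', e (a : L) a.2]
      exact e
    letI : MulAction (S : Subgroup L) (V ⧸ W) :=
      { smul := fun a => Quotient.map' ((a : L) • ·) (hstab a)
        one_smul := fun q => Quotient.inductionOn' q fun v =>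
          congrArg QuotientGroup.mk (one_smul L v)
        mul_smul := fun a b q => Quotient.inductionOn' q fun v =>
          congrArg QuotientGroup.mk (mul_smul (a : L) (b : L) v) }
    have h2 : 2 ∣ Nat.card (V ⧸ W) := by
      have e := W.index_mul_card
      rw [hWcard, hVcard, pow_two] at e
      have e' : Nat.card (V ⧸ W) = m + 1 := Nat.eq_of_mul_eq_mul_right (Nat.succ_pos m) e
      rw [e', ← hΩcard]
      obtain ⟨n, hn⟩ := IsPGroup.iff_card.1 (S.2.to_le (show Ω ≤ (S : Subgroup L) from fun a ha => ha.1))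
      rw [hn]
      refine dvd_pow_self 2 fun e0 => ?_
      rw [hΩcard, e0, pow_zero] at hn
      have : 1 < m := E.one_lt
      omega
    obtain ⟨q, hq, hq1⟩ := S.2.exists_fixed_point_of_prime_dvd_card_of_fixed_point (V ⧸ W) h2
      (a := (QuotientGroup.mk 1 : V ⧸ W)) (fun a => congrArg QuotientGroup.mk (smul_one (a : L)))
    obtain ⟨v, rfl⟩ := QuotientGroup.mk_surjective q
    refine ⟨v, fun a ha => ?_, fun hvW => hq1 (QuotientGroup.eq.2 (by simpa using hvW))⟩
    have h3 : (QuotientGroup.mk (a • v) : V ⧸ W) = QuotientGroup.mk v := hq ⟨a, ha⟩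
    rw [QuotientGroup.eq, h.inv_eq] at h3
    exact h3
  have hZtop : Z = ⊤ := by
    set r := W.relIndex Z
    have hr : r * (m + 1) = Nat.card Z := by
      rw [← hWcard]
      have e := (W.subgroupOf Z).index_mul_card
      rwa [Nat.card_congr (Subgroup.subgroupOfEquivOfLe hWZ).toEquiv] at e
    have hr1 : 2 ≤ r := by
      have h1 := W.relIndex_eq_one (K := Z)
      have h2 : r ≠ 1 := fun e => hv₀W (h1.1 e hv₀Z)
      have h3 : r ≠ 0 := Subgroup.index_ne_zero_of_finite
      omega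
    let X := {v : V // v ∈ Z ∧ v ∉ W}
    letI : MulAction D X :=
      { smul := fun d v => ⟨(d : L) • (v : V), hDZ d d.2 v v.2.1, fun e => v.2.2 (by
          have := hDW _ (D.inv_mem d.2) _ e
          rwa [inv_smul_smul] at this)⟩
        one_smul := fun v => Subtype.ext (one_smul L (v : V))
        mul_smul := fun a b v => Subtype.ext (mul_smul (a : L) (b : L) (v : V)) }
    have hX : Nat.card X + Nat.card W = Nat.card Z := by
      rw [← Nat.card_sum]
      refine Nat.card_congr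
        { toFun := fun s => s.elim (fun v => (⟨v.1, v.2.1⟩ : Z)) (fun v => ⟨v.1, hWZ v.2⟩)
          invFun := fun v => if hv : (v : V) ∈ W then Sum.inr ⟨v, hv⟩ else Sum.inl ⟨v, v.2, hv⟩
          left_inv := fun s => by rcases s with ⟨v, h1, h2⟩ | ⟨v, h1⟩ <;> simp_all
          right_inv := fun v => by by_cases hv : (v : V) ∈ W <;> simp [hv] }
    have hdvd : m ∣ Nat.card X := by
      refine (show m = Nat.card D from hDcard.symm) ▸ card_dvd_of_free fun d v e => Subtype.ext ?_
      exact hDfree d d.2 v (congrArg Subtype.val e) fun e1 => v.2.2 (e1 ▸ W.one_mem)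
    have h4 : Nat.card X = (r - 1) * (m + 1) := by
      rw [Nat.sub_one_mul]; omega
    rw [h4] at hdvd
    have h5 : m ∣ r - 1 := (Nat.coprime_self_add_right.2 (Nat.coprime_one_right m)).dvd_of_dvd_mul_right hdvd
    have h6 := Nat.le_of_dvd (by omega) h5
    exact Subgroup.eq_top_of_le_card Z (by rw [hVcard, ← hr, pow_two]; exact Nat.mul_le_mul_right _ (by omega))
  have hdelta : ∀ a ∈ (S : Subgroup L), ∀ v : V, (a • v) * v ∈ W := fun a ha v =>
    (hZtop.symm ▸ Subgroup.mem_top v : v ∈ Z) a ha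
  have hall : ∀ a ∈ (S : Subgroup L), a * a = 1 := by
    intro a ha
    refine h.eq_one_of_trivial hO fun v => ?_
    set w := (a • v) * v
    have e : a • v = w * v := by rw [show w * v = a • v * (v * v) from mul_assoc _ _ _, h.sq, mul_one]
    rw [mul_smul, e, smul_mul', e, (hdelta a ha v) a ha, ← mul_assoc, h.sq, one_mul]
  have hSΩ : Ω = (S : Subgroup L) := le_antisymm (fun a ha => ha.1) fun a ha => ⟨ha, hall a ha⟩
  have hScard : Nat.card (S : Subgroup L) = m + 1 := hSΩ ▸ hΩcard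
  exact ⟨hall, hScard, by rw [hVcard, hScard], fun a ha h1 => hfixeq a ha h1 (hall a ha),
    by rw [hWcard, hScard], hdelta⟩

/-! ### elementary abelian Sylow subgroups -/

/-- The generators used to decompose modules. -/
structure NatGen (S : Sylow 2 L) (s t w h : L) : Prop where
  s_mem : s ∈ (S : Subgroup L)
  s_sq : s * s = 1
  t_mem : w * t * w⁻¹ ∈ (S : Subgroup L)
  w_sq : w * w = 1
  w_eq : w = s * t * s
  order : orderOf (s * t) = 3
  h_eq : ∃ d, d ∈ Subgroup.normalizer ((S : Subgroup L) : Set L) ∧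
    w * d * w⁻¹ ∈ Subgroup.normalizer ((S : Subgroup L) : Set L) ∧ h = d * w * d⁻¹ * w
  h_odd : Odd (orderOf h)
  h_ne : h ≠ 1
  trans : ∀ a ∈ (S : Subgroup L), a ≠ 1 → ∃ d, d ∈ Subgroup.normalizer ((S : Subgroup L) : Set L) ∧
    w * d * w⁻¹ ∈ Subgroup.normalizer ((S : Subgroup L) : Set L) ∧ a = d * s * d⁻¹
  gen : ∀ X : Subgroup L, (S : Subgroup L) ≤ X → w ∈ X →
    (∀ d, d ∈ Subgroup.normalizer ((S : Subgroup L) : Set L) →
      w * d * w⁻¹ ∈ Subgroup.normalizer ((S : Subgroup L) : Set L) → d ∈ X) → X = ⊤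

omit [Finite V] [Nontrivial V] in
/-- Transitivity on triples of points. -/
theorem ESetup.exists_triple (E : ESetup S z)
    (hS : Nat.card (S : Subgroup L) =
      TIConfig.m (Subgroup.normalizer ((S : Subgroup L) : Set L)) (S : Subgroup L) + 1)
    {a b c a' b' c' : L ⧸ Subgroup.normalizer ((S : Subgroup L) : Set L)}
    (hab : a ≠ b) (hac : a ≠ c) (hbc : b ≠ c) (hab' : a' ≠ b') (hac' : a' ≠ c') (hbc' : b' ≠ c') :
    ∃ g : L, g • a = a' ∧ g • b = b' ∧ g • c = c' := by
  classical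
  have := E.simple
  have hZ := E.conf.zassenhaus E.one_lt
  obtain ⟨g₁, ha1, hb1⟩ := MulAction.is_two_pretransitive_iff.1 hZ.2.1 hab hab'
  -- the two-point stabiliser is transitive on the other points
  obtain ⟨g₂, hg₂⟩ : ∃ g₂ : L, g₂ • a' = a' ∧ g₂ • b' = b' ∧ g₂ • (g₁ • c) = c' := by
    let D : Subgroup L := MulAction.stabilizer L a' ⊓ MulAction.stabilizer L b'
    have hD : Nat.card D = TIConfig.m (Subgroup.normalizer ((S : Subgroup L) : Set L)) (S : Subgroup L) := by
      obtain ⟨ω, hω⟩ := E.conf.exists_ne_pt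
      obtain ⟨D₀, -, hD₀, hcard, -, -⟩ := E.exists_torus hω
      obtain ⟨g, hga, hgb⟩ := MulAction.is_two_pretransitive_iff.1 hZ.2.1 (Ne.symm hω) hab'
      have e : D = D₀.map (MulAut.conj g).toMonoidHom := by
        ext x
        rw [Involutions.mem_map_conj, hD₀, ← TIConfig.smul_pt_eq (M := Subgroup.normalizer ((S : Subgroup L) : Set L)), Subgroup.mem_inf,
          MulAction.mem_stabilizer_iff, MulAction.mem_stabilizer_iff, mul_smul, mul_smul, mul_smul,
          mul_smul, hga, hgb, inv_smul_eq_iff, inv_smul_eq_iff, hga, hgb]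
      rw [e, Subgroup.card_map_of_injective (f := (MulAut.conj g).toMonoidHom) (MulAut.conj g).injective,
        hcard]
    let Y := {y : L ⧸ (Subgroup.normalizer ((S : Subgroup L) : Set L)) // y ≠ a' ∧ y ≠ b'}
    have hY : Nat.card Y = TIConfig.m (Subgroup.normalizer ((S : Subgroup L) : Set L)) (S : Subgroup L) := by
      letI : Fintype (L ⧸ (Subgroup.normalizer ((S : Subgroup L) : Set L))) := Fintype.ofFinite _
      have h1 := E.conf.index_eq E.one_lt
      rw [hS, Subgroup.index, Nat.card_eq_fintype_card] at h1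
      rw [Nat.card_eq_fintype_card, Fintype.card_subtype]
      have e : (Finset.univ.filter fun y : L ⧸ (Subgroup.normalizer ((S : Subgroup L) : Set L)) => y ≠ a' ∧ y ≠ b') = ((Finset.univ.erase a').erase b') := by
        ext y; simp [and_comm]
      rw [e, Finset.card_erase_of_mem (by simp [hab'.symm]), Finset.card_erase_of_mem (Finset.mem_univ _),
        Finset.card_univ, h1]
      omega
    have hc1 : g₁ • c ≠ a' ∧ g₁ • c ≠ b' :=
      ⟨fun e => hac (smul_left_cancel g₁ (e.trans ha1.symm)).symm,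
        fun e => hbc (smul_left_cancel g₁ (e.trans hb1.symm)).symm⟩
    let f : D → Y := fun d => ⟨(d : L) • (g₁ • c),
      fun e => hc1.1 (smul_left_cancel (d : L) (e.trans d.2.1.symm)),
      fun e => hc1.2 (smul_left_cancel (d : L) (e.trans d.2.2.symm))⟩
    have hf : Function.Injective f := by
      intro d e hde
      have hde' : (d : L) • g₁ • c = (e : L) • g₁ • c := congrArg Subtype.val hde
      have h3 := hZ.2.2.1 ((e : L)⁻¹ * d) a' b' (g₁ • c) hab' hc1.2.symm (fun e' => hc1.1 e'.symm)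
        ((e : D)⁻¹ * d).2.1 ((e : D)⁻¹ * d).2.2 (by rw [mul_smul, hde', inv_smul_smul])
      exact (Subtype.ext (inv_mul_eq_one.1 h3)).symm
    obtain ⟨d, hd⟩ := (hf.bijective_of_nat_card_le (by rw [hD, hY])).2 ⟨c', Ne.symm hac', Ne.symm hbc'⟩
    exact ⟨d, d.2.1, d.2.2, congrArg Subtype.val hd⟩
  exact ⟨g₂ * g₁, by rw [mul_smul, ha1, hg₂.1], by rw [mul_smul, hb1, hg₂.2.1],
    by rw [mul_smul, hg₂.2.2]⟩

omit [Finite V] [Nontrivial V] in
theorem ESetup.exists_natGen (E : ESetup S z) (hsq : ∀ a ∈ (S : Subgroup L), a * a = 1)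
    (hS : Nat.card (S : Subgroup L) =
      TIConfig.m (Subgroup.normalizer ((S : Subgroup L) : Set L)) (S : Subgroup L) + 1) :
    ∃ s t w h, NatGen S s t w h := by
  have := E.simple
  set M := Subgroup.normalizer ((S : Subgroup L) : Set L)
  have hc := E.conf
  have hZ := hc.zassenhaus E.one_lt
  obtain ⟨b, hb⟩ := hc.exists_ne_pt
  set a : L ⧸ M := TIConfig.pt M
  obtain ⟨D, hDM, hDmem, hDcard, hDodd, -⟩ := E.exists_torus hb
  -- a third point
  obtain ⟨c, hca, hcb⟩ : ∃ c : L ⧸ M, c ≠ a ∧ c ≠ b := by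
    by_contra hcon
    push Not at hcon
    have hle : Nat.card (L ⧸ M) ≤ 2 := by
      have : Function.Surjective (fun i : Fin 2 => if i = 0 then a else b) := fun y => by
        by_cases hy : y = a
        · exact ⟨0, by simp [hy]⟩
        · exact ⟨1, by simp [hcon y hy]⟩
      simpa using Nat.card_le_card_of_surjective _ this
    have h1 := hc.index_eq E.one_lt
    rw [hS, Subgroup.index] at h1
    have := E.one_lt
    change Nat.card (L ⧸ M) = _ at h1
    change 1 < TIConfig.m M (S : Subgroup L) at this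
    omega
  have three : ∀ g : L, g • a = a → g • b = b → g • c = c → g = 1 := fun g h1 h2 h3 =>
    hZ.2.2.1 g a b c (Ne.symm hb) (Ne.symm hcb) (Ne.symm hca) h1 h2 h3
  obtain ⟨s, hsa, hsb, hsc⟩ := E.exists_triple hS (Ne.symm hb) (Ne.symm hca) (Ne.symm hcb) (Ne.symm hca) (Ne.symm hb) hcb
  obtain ⟨t, hta, htb, htc⟩ := E.exists_triple hS (Ne.symm hb) (Ne.symm hca) (Ne.symm hcb) hcb hca hb
  have hs2 : orderOf s = 2 := Involutions.orderOf_eq_two_iff.2
    ⟨three _ (by rw [mul_smul, hsa, hsa]) (by rw [mul_smul, hsb, hsc]) (by rw [mul_smul, hsc, hsb]),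
      fun e => hcb (by rw [← hsb, e, one_smul])⟩
  have ht2 : orderOf t = 2 := Involutions.orderOf_eq_two_iff.2
    ⟨three _ (by rw [mul_smul, hta, htc]) (by rw [mul_smul, htb, htb]) (by rw [mul_smul, htc, hta]),
      fun e => hca (by rw [← hta, e, one_smul])⟩
  have hsM : s ∈ M := (TIConfig.smul_pt_eq s).1 hsa
  have hsS : s ∈ (S : Subgroup L) := (hc.invol_mem hs2 hsM).2
  set w := s * t * s
  have hw2' : w * w = 1 := by
    rw [show w * w = s * t * (s * s) * t * s by simp [w, mul_assoc], Involutions.mul_self_eq_one hs2,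
      mul_one, mul_assoc s t t, Involutions.mul_self_eq_one ht2, mul_one, Involutions.mul_self_eq_one hs2]
  have hwa : w • a = b := by rw [mul_smul, mul_smul, hsa, hta, hsc]
  have hwb : w • b = a := by rw [← hwa, smul_smul, hw2', one_smul]
  have hwinv : w⁻¹ = w := inv_eq_of_mul_eq_one_right hw2'
  have hwt : w * t * w⁻¹ ∈ (S : Subgroup L) := by
    refine (hc.invol_mem (by rw [Involutions.orderOf_conj, ht2]) ((TIConfig.smul_pt_eq _).1 ?_)).2
    rw [hwinv, mul_smul, mul_smul, show w • TIConfig.pt M = b from hwa, htb, hwb]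
  -- `w` maps the torus to itself
  have hwD : ∀ d ∈ D, w * d * w⁻¹ ∈ D := by
    intro d hd
    rw [hDmem] at hd ⊢
    have hd1 : d • a = a := (TIConfig.smul_pt_eq d).2 hd.1
    refine ⟨(TIConfig.smul_pt_eq _).1 ?_, ?_⟩
    · rw [hwinv, mul_smul, mul_smul, show w • TIConfig.pt M = b from hwa, hd.2, hwb]
    · rw [hwinv, mul_smul, mul_smul, hwb, hd1, hwa]
  have hwinvD : ∀ d ∈ D, w * d * w⁻¹ = d⁻¹ := by
    intro d hd
    have hcomm : d * (w * d * w⁻¹) = w * d * w⁻¹ * d :=
      hc.commute_of_fix hb ((hDmem d).1 hd).1 ((hDmem _).1 (hwD d hd)).1 ((hDmem d).1 hd).2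
        ((hDmem _).1 (hwD d hd)).2
    have h1 : w * (d * (w * d * w⁻¹)) * w⁻¹ = d * (w * d * w⁻¹) := by
      rw [show w * (d * (w * d * w⁻¹)) * w⁻¹ = (w * d * w⁻¹) * ((w * w) * d * (w * w)⁻¹) by group, hw2',
        inv_one, one_mul, mul_one, hcomm]
    have h2 := E.cit.eq_one_of_commute (a := w)
      (by rw [Involutions.orderOf_eq_two_iff.2 ⟨hw2', fun e => hb (by rw [← hwa, e, one_smul])⟩])
      (hDodd.of_dvd_nat (Subgroup.orderOf_dvd_natCard D (D.mul_mem hd (hwD d hd))))
      (mul_inv_eq_iff_eq_mul.1 h1)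
    exact (inv_eq_of_mul_eq_one_right h2).symm
  -- the torus is transitive on the involutions of `S`
  have htransD : ∀ x ∈ (S : Subgroup L), x ≠ 1 → ∃ d ∈ D, x = d * s * d⁻¹ := by
    intro x hx hx1
    have hxo := Involutions.orderOf_eq_two_iff.2 ⟨hsq x hx, hx1⟩
    obtain ⟨g, hg⟩ := isConj_iff.1 ((hc.isConj_z hs2).symm.trans (hc.isConj_z hxo))
    have hgM : g ∈ M := Involutions.mem_of_conj_mem_of_stronglyEmbedded hc.se hsM hs2 (hg ▸ hc.le hx)
    obtain ⟨p, hp, d, hd, hdb, rfl⟩ := hc.exists_eq_mul hb hgM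
    refine ⟨d, (hDmem d).2 ⟨hd, hdb⟩, ?_⟩
    have hy : d * s * d⁻¹ ∈ (S : Subgroup L) := (Subgroup.mem_normalizer_iff.1 hd s).1 hsS
    rw [← hg, show p * d * s * (p * d)⁻¹ = p * (d * s * d⁻¹) * p⁻¹ by group,
      E.invol_facts (by rw [Involutions.orderOf_conj, hs2]) hy hp, mul_inv_cancel_right]
  obtain ⟨⟨d₀, hd₀⟩, hd₀1⟩ : ∃ d : D, d ≠ 1 := by
    refine Subgroup.ne_bot_iff_exists_ne_one.1 fun e => ?_
    rw [e, Subgroup.card_bot] at hDcard
    have := E.one_lt
    change 1 < TIConfig.m M (S : Subgroup L) at this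
    change 1 = TIConfig.m M (S : Subgroup L) at hDcard
    omega
  have hh : d₀ * w * d₀⁻¹ * w = d₀ * d₀ := by
    have := hwinvD _ (D.inv_mem hd₀)
    rw [inv_inv, hwinv] at this
    calc d₀ * w * d₀⁻¹ * w = d₀ * (w * d₀⁻¹ * w) := by group
      _ = _ := by rw [this]
  have hodd0 : Odd (orderOf d₀) := hDodd.of_dvd_nat (Subgroup.orderOf_dvd_natCard D hd₀)
  refine ⟨s, t, w, d₀ * w * d₀⁻¹ * w, ⟨hsS, hsq s hsS, hwt, hw2', rfl, ?_,
    ⟨d₀, hDM hd₀, hDM (hwD _ hd₀), rfl⟩, ?_, ?_, fun x hx hx1 => ?_, fun X hX hwX hXD => ?_⟩⟩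
  · have : Fact (Nat.Prime 3) := ⟨Nat.prime_three⟩
    have ea : (s * t) • a = b := by rw [mul_smul, hta, hsc]
    have eb : (s * t) • b = c := by rw [mul_smul, htb, hsb]
    have ec : (s * t) • c = a := by rw [mul_smul, htc, hsa]
    refine orderOf_eq_prime (three _ ?_ ?_ ?_) fun e => hb (by rw [← ea, e, one_smul])
    · rw [pow_succ, pow_two, mul_smul, mul_smul, ea, eb, ec]
    · rw [pow_succ, pow_two, mul_smul, mul_smul, eb, ec, ea]
    · rw [pow_succ, pow_two, mul_smul, mul_smul, ec, ea, eb]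
  · rw [hh, ← pow_two, (Nat.coprime_two_right.2 hodd0).orderOf_pow]; exact hodd0
  · rw [hh]
    intro e
    refine hd₀1 (Subtype.ext ?_)
    have h1 := Nat.le_of_dvd two_pos (orderOf_dvd_of_pow_eq_one (show d₀ ^ 2 = 1 by rw [pow_two, e]))
    obtain ⟨k, hk⟩ := hodd0
    show d₀ = 1
    exact orderOf_eq_one_iff.1 (by omega)
  · obtain ⟨d, hd, e⟩ := htransD x hx hx1
    exact ⟨d, hDM hd, hDM (hwD d hd), e⟩
  · have hMX : M ≤ X := by
      intro g hg
      obtain ⟨p, hp, d, hd, hdb, rfl⟩ := hc.exists_eq_mul hb hg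
      have hdD := (hDmem d).2 ⟨hd, hdb⟩
      exact X.mul_mem (hX hp) (hXD d (hDM hdD) (hDM (hwD d hdD)))
    rw [Subgroup.eq_top_iff']
    intro g
    by_cases hga : g • a = a
    · exact hMX ((TIConfig.smul_pt_eq g).1 hga)
    · obtain ⟨k, hk, hkb⟩ := hc.exists_smul_eq E.one_lt hb hga
      have h1 : (k * w)⁻¹ * g ∈ M := by
        rw [← TIConfig.smul_pt_eq, mul_smul, inv_smul_eq_iff, mul_smul]
        rw [show w • TIConfig.pt M = b from hwa, hkb]
      have := X.mul_mem (X.mul_mem (hMX hk) hwX) (hMX h1)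
      rwa [mul_inv_cancel_left] at this

variable {s t w h : L}

/-- The two halves of a module. -/
def halfSub (V : Type*) [CommGroup V] [MulDistribMulAction L V] (S : Sylow 2 L) (w : L) : Subgroup V :=
  fixedBy V (S : Subgroup L) ⊔
    (fixedBy V (S : Subgroup L)).map (MulDistribMulAction.toMonoidHom V w)

/-- A module generated by the fixed spaces of `S` and `wSw⁻¹`. -/
def IsNatural (V : Type*) [CommGroup V] [MulDistribMulAction L V] (S : Sylow 2 L) (w : L) : Prop :=
  halfSub V S w = ⊤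

variable {U : Type*} [CommGroup U] [MulDistribMulAction L U]

omit [Finite L] in
theorem NatGen.fix_t (G : NatGen S s t w h) {v : U} (hv : v ∈ fixedBy U (S : Subgroup L)) :
    t • w • v = w • v := by
  have h1 := hv _ G.t_mem
  have hwinv : w⁻¹ = w := inv_eq_of_mul_eq_one_right G.w_sq
  rw [hwinv, mul_smul, mul_smul] at h1
  conv_rhs => rw [← h1]
  rw [smul_smul w w, G.w_sq, one_smul]

omit [Finite L] in
/-- The key relation. -/
theorem NatGen.smul_s (G : NatGen S s t w h) (hU : FPFAct L U) {v : U}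
    (hv : v ∈ fixedBy U (S : Subgroup L)) : s • w • v = w • v * v := by
  set u := w • v
  have htu : t • u = u := G.fix_t hv
  have hwu : w • u = v := by rw [smul_smul, G.w_sq, one_smul]
  set x := s * t
  have hx3 : x * (x * x) = 1 := by rw [← pow_orderOf_eq_one x, G.order]; simp [pow_succ, mul_assoc]
  have e : u * x • u * (x * x) • u = 1 := by
    refine hU.fpf x (G.order ▸ by decide) (fun e => by have := G.order; rw [show s * t = 1 from e, orderOf_one] at this; omega) _ ?_
    rw [smul_mul', smul_mul', smul_smul x x, smul_smul x (x * x), hx3, one_smul, mul_comm ((x • u) * (x * x) • u) u,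
      ← mul_assoc]
  have e1 : x • u = s • u := by rw [mul_smul, htu]
  have e2 : (x * x) • u = v := by
    rw [show x * x = s * t * s * t by simp [x, mul_assoc], mul_smul, htu, ← G.w_eq, hwu]
  rw [e1, e2, mul_assoc, mul_eq_one_iff_eq_inv, hU.inv_eq] at e
  -- `u = (s • u) v`
  calc s • u = s • u * (v * v) := by rw [hU.sq, mul_one]
    _ = (s • u * v) * v := (mul_assoc _ _ _).symm
    _ = u * v := by rw [← e]

omit [Finite L] in
theorem NatGen.smul_mem_half (G : NatGen S s t w h) (hU : FPFAct L U) :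
    ∀ g : L, ∀ v ∈ halfSub U S w, g • v ∈ halfSub U S w := by
  set M := Subgroup.normalizer ((S : Subgroup L) : Set L)
  set U₁ := fixedBy U (S : Subgroup L)
  have hwinv : w⁻¹ = w := inv_eq_of_mul_eq_one_right G.w_sq
  have hgenmem : ∀ g : L, (∀ v ∈ U₁, g • v ∈ halfSub U S w) → (∀ v ∈ U₁, g • w • v ∈ halfSub U S w) →
      ∀ v ∈ halfSub U S w, g • v ∈ halfSub U S w := by
    intro g h1 h2 v hv
    rw [halfSub, Subgroup.mem_sup] at hv
    obtain ⟨y, hy, _, ⟨u, hu, rfl⟩, rfl⟩ := hv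
    rw [smul_mul']
    exact Subgroup.mul_mem _ (h1 y hy) (h2 u hu)
  have hw : ∀ v ∈ halfSub U S w, w • v ∈ halfSub U S w := hgenmem w
    (fun v hv => Subgroup.mem_sup_right ⟨v, hv, rfl⟩)
    (fun v hv => by rw [smul_smul, G.w_sq, one_smul]; exact Subgroup.mem_sup_left hv)
  have hd : ∀ d, d ∈ M → w * d * w⁻¹ ∈ M → ∀ v ∈ halfSub U S w, d • v ∈ halfSub U S w := by
    intro d hd hd'
    refine hgenmem d (fun v hv => Subgroup.mem_sup_left (smul_mem_fixedBy hd hv)) fun v hv => ?_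
    refine Subgroup.mem_sup_right ⟨(w * d * w⁻¹) • v, smul_mem_fixedBy hd' hv, ?_⟩
    show w • (w * d * w⁻¹) • v = d • w • v
    rw [smul_smul, smul_smul, hwinv]
    congr 1
    rw [← mul_assoc, ← mul_assoc, G.w_sq, one_mul]
  have hs : ∀ v ∈ halfSub U S w, s • v ∈ halfSub U S w :=
    hgenmem s (fun v hv => by rw [hv s G.s_mem]; exact Subgroup.mem_sup_left hv) fun v hv => by
      rw [G.smul_s hU hv]
      exact Subgroup.mul_mem _ (Subgroup.mem_sup_right ⟨v, hv, rfl⟩) (Subgroup.mem_sup_left hv)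
  let X : Subgroup L :=
    { carrier := {g | (∀ v ∈ halfSub U S w, g • v ∈ halfSub U S w) ∧
        ∀ v ∈ halfSub U S w, g⁻¹ • v ∈ halfSub U S w}
      one_mem' := by constructor <;> intro v hv <;> simpa using hv
      mul_mem' := fun {a b} ha hb => ⟨fun v hv => by rw [mul_smul]; exact ha.1 _ (hb.1 v hv),
        fun v hv => by rw [mul_inv_rev, mul_smul]; exact hb.2 _ (ha.2 v hv)⟩
      inv_mem' := fun {a} ha => ⟨ha.2, by simpa using ha.1⟩ }
  have hdX : ∀ d, d ∈ M → w * d * w⁻¹ ∈ M → d ∈ X := fun d h1 h2 =>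
    ⟨hd d h1 h2, hd d⁻¹ (M.inv_mem h1) (by rw [show w * d⁻¹ * w⁻¹ = (w * d * w⁻¹)⁻¹ by group]; exact M.inv_mem h2)⟩
  have hwX : w ∈ X := ⟨hw, hwinv.symm ▸ hw⟩
  have hsX : s ∈ X := by
    have hsinv : s⁻¹ = s := by
      exact inv_eq_of_mul_eq_one_right G.s_sq
    exact ⟨hs, hsinv.symm ▸ hs⟩
  have hSX : (S : Subgroup L) ≤ X := by
    intro a ha
    by_cases ha1 : a = 1
    · exact ha1 ▸ X.one_mem
    · obtain ⟨d, h1, h2, rfl⟩ := G.trans a ha ha1
      exact X.mul_mem (X.mul_mem (hdX d h1 h2) hsX) (X.inv_mem (hdX d h1 h2))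
  have htop := G.gen X hSX hwX hdX
  intro g
  exact (htop.symm ▸ Subgroup.mem_top g : g ∈ X).1

omit [Finite L] in
/-- An irreducible module is natural. -/
theorem NatGen.natural_of_irreducible (G : NatGen S s t w h) (hU : FPFAct L U) [Finite U]
    [Nontrivial U] (hirr : ∀ Y : Subgroup U, (∀ g : L, ∀ v ∈ Y, g • v ∈ Y) → Y = ⊥ ∨ Y = ⊤) :
    IsNatural U S w := by
  refine (hirr _ (G.smul_mem_half hU)).resolve_left fun e => ?_
  obtain ⟨v, hv, hv1⟩ := exists_fixedBy_ne_one hU (S : Subgroup L) S.2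
  exact hv1 (Subgroup.mem_bot.1 (e ▸ Subgroup.mem_sup_left hv))

variable {A B C : Type*} [CommGroup A] [CommGroup B] [CommGroup C]
  [MulDistribMulAction L A] [MulDistribMulAction L B] [MulDistribMulAction L C]

omit [Finite L] in
theorem IsNatural.exists_eq (hU : IsNatural U S w) (v : U) :
    ∃ v₁ ∈ fixedBy U (S : Subgroup L), ∃ v₂ ∈ fixedBy U (S : Subgroup L), v = v₁ * w • v₂ := by
  have hv : v ∈ halfSub U S w := hU.symm ▸ Subgroup.mem_top v
  rw [halfSub, Subgroup.mem_sup] at hv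
  obtain ⟨y, hy, _, ⟨u, hu, rfl⟩, rfl⟩ := hv
  exact ⟨y, hy, u, hu, rfl⟩

omit [Finite L] in
/-- The key relation for a conjugate of the pair `(s, w)`. -/
theorem NatGen.rel (G : NatGen S s t w h) (hU : FPFAct L U) {d : L}
    (_hd : d ∈ Subgroup.normalizer ((S : Subgroup L) : Set L))
    (hd' : w * d * w⁻¹ ∈ Subgroup.normalizer ((S : Subgroup L) : Set L))
    {u : U} (hu : u ∈ fixedBy U (S : Subgroup L)) :
    (s • w • u) * w • u = u ∧
      ((d * s * d⁻¹) • w • u) * w • u = (d * w * d⁻¹) • w • u := by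
  have hwinv : w⁻¹ = w := inv_eq_of_mul_eq_one_right G.w_sq
  refine ⟨by rw [G.smul_s hU hu, mul_comm (w • u) u, mul_assoc, hU.sq, mul_one], ?_⟩
  obtain ⟨u', hu', e⟩ : ∃ u' ∈ fixedBy U (S : Subgroup L), d⁻¹ • w • u = w • u' := by
    refine ⟨(w * d⁻¹ * w⁻¹) • u, smul_mem_fixedBy ?_ hu, ?_⟩
    · rw [show w * d⁻¹ * w⁻¹ = (w * d * w⁻¹)⁻¹ by group]; exact Subgroup.inv_mem _ hd'
    · rw [smul_smul, smul_smul, hwinv]
      congr 1
      rw [← mul_assoc, ← mul_assoc, G.w_sq, one_mul]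
  have e' : w • u = d • w • u' := by rw [← e, smul_inv_smul]
  calc ((d * s * d⁻¹) • w • u) * w • u = d • ((s • w • u') * w • u') := by
        rw [e', smul_mul', smul_smul (d * s * d⁻¹) d, show d * s * d⁻¹ * d = d * s by group, mul_smul]
    _ = d • u' := by rw [G.smul_s hU hu', mul_comm (w • u') u', mul_assoc, hU.sq, mul_one]
    _ = (d * w * d⁻¹) • w • u := by
        rw [e', smul_smul (d * w * d⁻¹) d, show d * w * d⁻¹ * d = d * w by group, mul_smul,
          smul_smul w w, G.w_sq, one_smul]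

omit [Finite L] in
/-- Bilinear equivariant maps of natural modules vanish. -/
theorem NatGen.bilinear_eq_one (G : NatGen S s t w h) (hCf : FPFAct L C)
    (hAf : FPFAct L A) (hBf : FPFAct L B)
    (hA : IsNatural A S w) (hB : IsNatural B S w) (hC : IsNatural C S w)
    (φ : A →* B →* C) (heq : ∀ (g : L) (a : A) (b : B), φ (g • a) (g • b) = g • φ a b) :
    ∀ a b, φ a b = 1 := by
  set A₁ := fixedBy A (S : Subgroup L)
  set B₁ := fixedBy B (S : Subgroup L)
  set C₁ := fixedBy C (S : Subgroup L)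
  obtain ⟨d, hd, hd', hh⟩ := G.h_eq
  have hwinv : w⁻¹ = w := inv_eq_of_mul_eq_one_right G.w_sq
  set s' := d * s * d⁻¹
  set w' := d * w * d⁻¹
  have hs' : s' ∈ (S : Subgroup L) := (Subgroup.mem_normalizer_iff.1 hd s).1 G.s_mem
  have hrel : ∀ u ∈ fixedBy B (S : Subgroup L), _ := fun u hu => G.rel hBf hd hd' hu
  have hrelA : ∀ u ∈ fixedBy A (S : Subgroup L), _ := fun u hu => G.rel hAf hd hd' hu
  have hrelC : ∀ u ∈ fixedBy C (S : Subgroup L), _ := fun u hu => G.rel hCf hd hd' hu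
  -- `φ` on fixed points
  have h11 : ∀ a ∈ A₁, ∀ b ∈ B₁, φ a b ∈ C₁ := fun a ha b hb g hg => by
    rw [← heq, ha g hg, hb g hg]
  have key : ∀ a ∈ A₁, ∀ b ∈ B₁, ∃ f ∈ C₁, φ a b = f ∧
      (∃ c₁ ∈ C₁, φ a (w • b) = c₁ * w • f) ∧ φ a (h • b) = h • φ a b := by
    intro a ha b hb
    obtain ⟨c₁, hc₁, c₂, hc₂, hc⟩ := hC.exists_eq (φ a (w • b))
    have hmove : ∀ g ∈ (S : Subgroup L), φ a ((g • w • b) * w • b) = (g • w • c₂) * w • c₂ := by
      intro g hg
      calc φ a ((g • w • b) * w • b) = φ (g • a) (g • w • b) * φ a (w • b) := by rw [map_mul, ha g hg]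
        _ = g • (c₁ * w • c₂) * (c₁ * w • c₂) := by rw [heq, hc]
        _ = (c₁ * c₁) * ((g • w • c₂) * w • c₂) := by rw [smul_mul', hc₁ g hg]; ac_rfl
        _ = _ := by rw [hCf.sq, one_mul]
    have e1 : φ a b = c₂ := by
      have := hmove s G.s_mem
      rwa [(hrel b hb).1, (hrelC c₂ hc₂).1] at this
    refine ⟨c₂, hc₂, e1, ⟨c₁, hc₁, hc⟩, ?_⟩
    have e2 := hmove s' hs'
    rw [(hrel b hb).2, (hrelC c₂ hc₂).2, smul_smul, smul_smul] at e2
    rwa [show w' * w = h by rw [hh], ← e1] at e2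
  -- the other order
  have key' : ∀ a ∈ A₁, ∀ b ∈ B₁, (∃ c₁ ∈ C₁, φ (w • a) b = c₁ * w • φ a b) ∧
      φ (h • a) b = h • φ a b := by
    intro a ha b hb
    obtain ⟨c₁, hc₁, c₂, hc₂, hc⟩ := hC.exists_eq (φ (w • a) b)
    have hmove : ∀ g ∈ (S : Subgroup L), φ ((g • w • a) * w • a) b = (g • w • c₂) * w • c₂ := by
      intro g hg
      calc φ ((g • w • a) * w • a) b = φ (g • w • a) (g • b) * φ (w • a) b := by
            rw [map_mul, MonoidHom.mul_apply, hb g hg]
        _ = g • (c₁ * w • c₂) * (c₁ * w • c₂) := by rw [heq, hc]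
        _ = (c₁ * c₁) * ((g • w • c₂) * w • c₂) := by rw [smul_mul', hc₁ g hg]; ac_rfl
        _ = _ := by rw [hCf.sq, one_mul]
    have e1 : φ a b = c₂ := by
      have := hmove s G.s_mem
      rwa [(hrelA a ha).1, (hrelC c₂ hc₂).1] at this
    refine ⟨⟨c₁, hc₁, by rw [e1]; exact hc⟩, ?_⟩
    have e2 := hmove s' hs'
    rw [(hrelA a ha).2, (hrelC c₂ hc₂).2, smul_smul, smul_smul] at e2
    rwa [show w' * w = h by rw [hh], ← e1] at e2
  have hzero : ∀ a ∈ A₁, ∀ b ∈ B₁, φ a b = 1 := by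
    intro a ha b hb
    have hhM : h ∈ Subgroup.normalizer ((S : Subgroup L) : Set L) := by
      rw [hh, show d * w * d⁻¹ * w = d * (w * d * w⁻¹)⁻¹ * (w * w) by simp [mul_assoc, hwinv, G.w_sq], G.w_sq, mul_one]
      exact Subgroup.mul_mem _ hd (Subgroup.inv_mem _ hd')
    have hb' : h • b ∈ B₁ := smul_mem_fixedBy hhM hb
    have e := heq h a b
    rw [(key' a ha _ hb').2, (key a ha b hb).choose_spec.2.2.2] at e
    exact hCf.fpf h G.h_odd G.h_ne _ (smul_left_cancel h e)
  have h12 : ∀ a ∈ A₁, ∀ b ∈ B₁, φ a (w • b) = 1 := by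
    intro a ha b hb
    obtain ⟨f, -, e1, ⟨c₁, hc₁, hc⟩, -⟩ := key a ha b hb
    have hf : f = 1 := e1.symm.trans (hzero a ha b hb)
    rw [hf, smul_one, mul_one] at hc
    obtain ⟨⟨c', hc', hc2⟩, -⟩ := key' a ha b hb
    rw [hzero a ha b hb, smul_one, mul_one] at hc2
    have e3 : φ a (w • b) = w • c' := by
      rw [← hc2, ← heq, smul_smul w w, G.w_sq, one_smul]
    rw [hc] at e3 ⊢
    have hs1 := hc₁ s G.s_mem
    have ht1 : t • c₁ = c₁ := e3 ▸ G.fix_t hc'
    refine hCf.fpf (s * t) (G.order ▸ by decide) (fun e => by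
      have := G.order; rw [e, orderOf_one] at this; omega) _ ?_
    rw [mul_smul, ht1, hs1]
  intro a b
  obtain ⟨a₁, ha₁, a₂, ha₂, rfl⟩ := hA.exists_eq a
  obtain ⟨b₁, hb₁, b₂, hb₂, rfl⟩ := hB.exists_eq b
  have e21 : φ (w • a₂) b₁ = 1 := by
    have := heq w a₂ (w • b₁)
    rw [h12 a₂ ha₂ b₁ hb₁, smul_one, smul_smul w w, G.w_sq, one_smul] at this
    exact this
  have e22 : φ (w • a₂) (w • b₂) = 1 := by rw [heq, hzero a₂ ha₂ b₂ hb₂, smul_one]
  rw [map_mul φ, MonoidHom.mul_apply, map_mul, map_mul, hzero a₁ ha₁ b₁ hb₁, h12 a₁ ha₁ b₂ hb₂, e21, e22,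
    one_mul, one_mul]

end CfsgLib.CIT
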