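import Cfsg.Agent.Lib.CIT.Natural

/-!
The weights of the torus on natural modules.
-/

set_option autoImplicit false

open Cfsg
open scoped Pointwise

namespace CfsgLib.CIT

variable {L : Type*} [Group L] [Finite L] {S : Sylow 2 L} {z : L} {s t w h : L}

local notation "NS" => Subgroup.normalizer ((S : Subgroup L) : Set L)

omit [Finite L] in
theorem ESetup.w_notMem (E : ESetup S z) (G : NatGen S s t w h) : w ∉ NS := fun hw =>
  E.conf.se.1 (G.gen NS E.conf.le hw fun _ hd _ => hd)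

theorem ESetup.commute_torus (E : ESetup S z) (G : NatGen S s t w h) {d e : L}
    (hd : d ∈ NS) (hd' : w * d * w⁻¹ ∈ NS) (he : e ∈ NS) (he' : w * e * w⁻¹ ∈ NS) :
    d * e = e * d := by
  have hwinv : w⁻¹ = w := inv_eq_of_mul_eq_one_right G.w_sq
  have hb : w • TIConfig.pt NS ≠ TIConfig.pt NS := fun e => E.w_notMem G ((TIConfig.smul_pt_eq w).1 e)
  refine E.conf.commute_of_fix hb hd he ?_ ?_
  · rw [TIConfig.smul_smul_pt_eq, Involutions.mem_map_conj]
    rwa [hwinv] at hd' ⊢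
  · rw [TIConfig.smul_smul_pt_eq, Involutions.mem_map_conj]
    rwa [hwinv] at he' ⊢

omit [Finite L] in
theorem ESetup.odd_torus (E : ESetup S z) (G : NatGen S s t w h) {d : L}
    (hd : d ∈ NS) (hd' : w * d * w⁻¹ ∈ NS) : Odd (orderOf d) := by
  refine (E.conf.se.2.2 w (E.w_notMem G)).of_dvd_nat (Subgroup.orderOf_dvd_natCard _ ⟨hd, Involutions.mem_map_conj.2 ?_⟩)
  rwa [inv_eq_of_mul_eq_one_right G.w_sq] at hd' ⊢

theorem ESetup.inv_torus (E : ESetup S z) (G : NatGen S s t w h) {d : L}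
    (hd : d ∈ NS) (hd' : w * d * w⁻¹ ∈ NS) : w * d * w⁻¹ = d⁻¹ := by
  have hwinv : w⁻¹ = w := inv_eq_of_mul_eq_one_right G.w_sq
  have hd'' : w * (w * d * w⁻¹) * w⁻¹ ∈ NS := by
    rw [show w * (w * d * w⁻¹) * w⁻¹ = (w * w) * d * (w * w)⁻¹ by group, G.w_sq]
    simpa using hd
  have hcomm := E.commute_torus G hd hd' hd' hd''
  have h1 : w * (d * (w * d * w⁻¹)) * w⁻¹ = d * (w * d * w⁻¹) := by
    rw [show w * (d * (w * d * w⁻¹)) * w⁻¹ = (w * d * w⁻¹) * ((w * w) * d * (w * w)⁻¹) by group, G.w_sq,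
      inv_one, one_mul, mul_one, hcomm]
  have h2 := E.cit.eq_one_of_commute (a := w)
    (by rw [Involutions.orderOf_eq_two_iff.2 ⟨G.w_sq, fun e => E.w_notMem G (e ▸ one_mem _)⟩])
    (E.odd_torus G (Subgroup.mul_mem _ hd hd') (by
      rw [show w * (d * (w * d * w⁻¹)) * w⁻¹ = (w * d * w⁻¹) * (w * (w * d * w⁻¹) * w⁻¹) by group]
      exact Subgroup.mul_mem _ hd' hd''))
    (mul_inv_eq_iff_eq_mul.1 h1)
  exact (inv_eq_of_mul_eq_one_right h2).symm

theorem ESetup.exists_eq_mul_torus (E : ESetup S z) (G : NatGen S s t w h) {g : L} (hg : g ∈ NS) :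
    ∃ p ∈ (S : Subgroup L), ∃ d ∈ NS, w * d * w⁻¹ ∈ NS ∧ g = p * d := by
  have hwinv : w⁻¹ = w := inv_eq_of_mul_eq_one_right G.w_sq
  have hb : w • TIConfig.pt NS ≠ TIConfig.pt NS := fun e => E.w_notMem G ((TIConfig.smul_pt_eq w).1 e)
  obtain ⟨p, hp, d, hd, hdb, rfl⟩ := E.conf.exists_eq_mul hb hg
  rw [TIConfig.smul_smul_pt_eq, Involutions.mem_map_conj, hwinv] at hdb
  exact ⟨p, hp, d, hd, by rwa [hwinv], rfl⟩

theorem ESetup.four_le_succ_m (E : ESetup S z) :
    4 ≤ TIConfig.m NS (S : Subgroup L) + 1 := by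
  obtain ⟨ω, hω⟩ := E.conf.exists_ne_pt
  obtain ⟨D, -, -, hcard, hodd, -⟩ := E.exists_torus hω
  have := E.one_lt
  obtain ⟨k, hk⟩ := hodd
  omega

variable {V : Type*} [CommGroup V] [MulDistribMulAction L V]

omit [Finite L] in
theorem NatGen.eq_one_of_fix (G : NatGen S s t w h) (hV : FPFAct L V) {v : V}
    (hv : v ∈ fixedBy V (S : Subgroup L)) (hwv : w • v ∈ fixedBy V (S : Subgroup L)) : v = 1 := by
  have hwv' : w • w • v = v := by rw [smul_smul, G.w_sq, one_smul]
  have ht : t • v = v := by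
    have := G.fix_t hwv
    rwa [hwv'] at this
  refine hV.fpf (s * t) (G.order ▸ by decide) (fun e => ?_) v (by rw [mul_smul, ht, hv s G.s_mem])
  have := G.order
  rw [e, orderOf_one] at this
  omega

variable [Finite V]

omit [Finite L] in
theorem NatV.isNatural (N : NatV V S) (G : NatGen S s t w h) (hV : FPFAct L V) :
    IsNatural V S w := by
  set W := fixedBy V (S : Subgroup L)
  let f : W × W → halfSub V S w := fun p =>
    ⟨(p.1 : V) * w • (p.2 : V), Subgroup.mul_mem _ (Subgroup.mem_sup_left p.1.2)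
      (Subgroup.mem_sup_right ⟨p.2, p.2.2, rfl⟩)⟩
  have hf : Function.Injective f := by
    rintro ⟨a, b⟩ ⟨a', b'⟩ e
    have e' : (a : V) * w • (b : V) = (a' : V) * w • (b' : V) := congrArg Subtype.val e
    have h1 : (a' : V)⁻¹ * a = w • ((b' : V) * (b : V)⁻¹) := by
      rw [smul_mul', smul_inv']
      calc (a' : V)⁻¹ * a = (a' : V)⁻¹ * ((a : V) * w • (b : V)) * (w • (b : V))⁻¹ := by
            rw [mul_assoc, mul_inv_cancel_right]
        _ = (a' : V)⁻¹ * ((a' : V) * w • (b' : V)) * (w • (b : V))⁻¹ := by rw [e']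
        _ = _ := by rw [inv_mul_cancel_left]
    have h2 := G.eq_one_of_fix hV (v := (b' : V) * (b : V)⁻¹) (W.mul_mem b'.2 (W.inv_mem b.2))
      (h1 ▸ W.mul_mem (W.inv_mem a'.2) a.2)
    rw [h2, smul_one, inv_mul_eq_one] at h1
    exact Prod.ext (Subtype.ext h1.symm) (Subtype.ext (mul_inv_eq_one.1 h2).symm)
  refine Subgroup.eq_top_of_le_card _ ?_
  have := Nat.card_le_card_of_injective f hf
  rw [Nat.card_prod, N.card_fix, ← pow_two, ← N.card_V] at this
  exact this

/-- The weight of the normaliser of `S` on commutators. -/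
theorem ESetup.delta_conj (E : ESetup S z) (hV : FPFAct L V) (N : NatV V S)
    (G : NatGen S s t w h) {g : L} (hg : g ∈ NS) {a : L} (ha : a ∈ (S : Subgroup L)) (v : V) :
    delta V (g * a * g⁻¹) v = g • g • delta V a v := by
  set W := fixedBy V (S : Subgroup L)
  have hwinv : w⁻¹ = w := inv_eq_of_mul_eq_one_right G.w_sq
  have hnat := N.isNatural G hV
  -- the commutators on the second half
  have hbase : ∀ e, e ∈ NS → w * e * w⁻¹ ∈ NS → ∀ u ∈ W,
      delta V (e * s * e⁻¹) (w • u) = e • e • u := by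
    intro e he he' u hu
    have hinv := E.inv_torus G he he'
    have h1 : e⁻¹ • w • u = w • e • u := by
      rw [smul_smul, smul_smul]; congr 1
      rw [← hinv, hwinv]
      calc w * e * w * w = w * e * (w * w) := by group
        _ = w * e := by rw [G.w_sq, mul_one]
    show ((e * s * e⁻¹) • w • u) * w • u = e • e • u
    have h2 : w • u = e • w • e • u := by rw [← h1, smul_inv_smul]
    rw [h2, smul_smul (e * s * e⁻¹) e, show e * s * e⁻¹ * e = e * s by group, mul_smul, ← smul_mul']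
    congr 1
    rw [G.smul_s hV (smul_mem_fixedBy he hu), mul_comm (w • e • u) (e • u), mul_assoc, hV.sq, mul_one]
  have hS1 : ∀ x ∈ (S : Subgroup L), ∀ u ∈ W, delta V x u = 1 := fun x hx u hu =>
    hV.delta_eq_one_iff.2 (hu x hx)
  obtain ⟨p, hp, d, hd, hd', rfl⟩ := E.exists_eq_mul_torus G hg
  have hda : d * a * d⁻¹ ∈ (S : Subgroup L) := (Subgroup.mem_normalizer_iff.1 hd a).1 ha
  have hconj : p * d * a * (p * d)⁻¹ = d * a * d⁻¹ := by
    by_cases h1 : d * a * d⁻¹ = 1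
    · rw [show p * d * a * (p * d)⁻¹ = p * (d * a * d⁻¹) * p⁻¹ by group, h1, mul_one, mul_inv_cancel]
    · rw [show p * d * a * (p * d)⁻¹ = p * (d * a * d⁻¹) * p⁻¹ by group,
        E.invol_facts (Involutions.orderOf_eq_two_iff.2 ⟨N.sq _ hda, h1⟩) hda hp, mul_inv_cancel_right]
  have hpW : ∀ x ∈ W, (p * d) • (p * d) • x = d • d • x := by
    intro x hx
    have hdx : d • x ∈ W := smul_mem_fixedBy hd hx
    rw [mul_smul, mul_smul, hdx p hp, (smul_mem_fixedBy hd hdx : d • d • x ∈ W) p hp]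
  have hδ : delta V a v ∈ W := N.delta_mem a ha v
  rw [hconj, hpW _ hδ]
  obtain ⟨u₁, hu₁, u₂, hu₂, rfl⟩ := hnat.exists_eq v
  rw [map_mul, map_mul, hS1 _ ha _ hu₁, hS1 _ hda _ hu₁, one_mul, one_mul]
  by_cases ha1 : a = 1
  · subst ha1
    have h1 : ∀ x : V, delta V (1 : L) x = 1 := fun x => hV.delta_eq_one_iff.2 (one_smul L x)
    rw [mul_one, mul_inv_cancel, h1, smul_one, smul_one]
  obtain ⟨e, he, he', rfl⟩ := G.trans a ha ha1
  have hde : d * e = e * d := E.commute_torus G hd hd' he he'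
  rw [show d * (e * s * e⁻¹) * d⁻¹ = (d * e) * s * (d * e)⁻¹ by group,
    hbase (d * e) (Subgroup.mul_mem _ hd he) (by
      rw [show w * (d * e) * w⁻¹ = (w * d * w⁻¹) * (w * e * w⁻¹) by group]
      exact Subgroup.mul_mem _ hd' he') u₂ hu₂,
    hbase e he he' u₂ hu₂, smul_smul, smul_smul, smul_smul, smul_smul]
  congr 1
  calc d * e * (d * e) = d * (e * d) * e := by group
    _ = d * d * e * e := by rw [← hde]; group

omit [Finite L] in
/-- Every vector is moved into the fixed space. -/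
theorem NatGen.exists_smul_mem_fix (G : NatGen S s t w h) (hV : FPFAct L V) (N : NatV V S) (v : V) : ∃ g : L, g • v ∈ fixedBy V (S : Subgroup L) := by
  set W := fixedBy V (S : Subgroup L)
  obtain ⟨u₁, hu₁, u₂, hu₂, rfl⟩ := (N.isNatural G hV).exists_eq v
  by_cases h2 : u₂ = 1
  · exact ⟨1, by rw [one_smul, h2, smul_one, mul_one]; exact hu₁⟩
  let f : ↥(S : Subgroup L) → W := fun a => ⟨delta V (a : L) (w • u₂), N.delta_mem a a.2 _⟩
  have hf : Function.Injective f := by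
    intro a b e
    have e' : ((a : L) • w • u₂) * w • u₂ = ((b : L) • w • u₂) * w • u₂ := congrArg Subtype.val e
    have e1 : ((a : L)⁻¹ * b) • w • u₂ = w • u₂ := by
      rw [mul_smul, inv_smul_eq_iff, mul_right_cancel e']
    by_contra hne
    have h1 : w • u₂ ∈ W := by
      show w • u₂ ∈ fixedBy V (S : Subgroup L)
      rw [← N.fix_eq _ ((S : Subgroup L).mul_mem (Subgroup.inv_mem _ a.2) b.2)
        (fun h1 => hne (Subtype.ext (inv_mul_eq_one.1 h1)))]
      exact e1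
    exact h2 (G.eq_one_of_fix hV hu₂ h1)
  obtain ⟨a, ha⟩ := (hf.bijective_of_nat_card_le (by rw [N.card_fix])).2 ⟨u₁, hu₁⟩
  have ha' : ((a : L) • w • u₂) * w • u₂ = u₁ := congrArg Subtype.val ha
  refine ⟨w * a, ?_⟩
  rw [mul_smul, smul_mul', hu₁ _ a.2]
  conv => arg 2; rw [← ha', mul_comm ((a : L) • w • u₂), mul_assoc, hV.sq, mul_one]
  rw [smul_smul, G.w_sq, one_smul]
  exact hu₂

/-- The normaliser of `S` is transitive on the non-trivial elements of `S`. -/
theorem ESetup.trans_sylow (E : ESetup S z) {a b : L} (ha : a ∈ (S : Subgroup L)) (ha2 : orderOf a = 2)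
    (hb : b ∈ (S : Subgroup L)) (hb2 : orderOf b = 2) : ∃ g ∈ NS, g * a * g⁻¹ = b := by
  obtain ⟨g, hg⟩ := isConj_iff.1 ((E.conf.isConj_z ha2).symm.trans (E.conf.isConj_z hb2))
  exact ⟨g, Involutions.mem_of_conj_mem_of_stronglyEmbedded E.conf.se (E.conf.le ha) ha2
    (hg ▸ E.conf.le hb), hg⟩

end CfsgLib.CIT
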