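import Cfsg.Agent.Lib.CIT.TISylow
import Cfsg.Agent.Lib.CIT.Module
import Cfsg.Agent.Lib.TwoFusion.DihedralClasses

/-!
The three kinds of simple CIT groups, and why only the first can act fixed-point-freely.
-/

set_option autoImplicit false

open Cfsg

namespace CfsgLib.CIT

/-- Dihedral Sylow `2`-subgroups of order at least eight and one class of involutions. -/
def HasDihedralSylow (G : Type*) [Group G] : Prop :=
  ∃ (S : Sylow 2 G) (k : ℕ), 2 ≤ k ∧ Nonempty ((S : Subgroup G) ≃* DihedralGroup (2 ^ k)) ∧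
    ∀ u v : G, orderOf u = 2 → orderOf v = 2 → IsConj u v

/-- An elementary abelian subgroup of order nine. -/
def HasNoncyclicThree (G : Type*) [Group G] : Prop :=
  ∃ a b : G, orderOf a = 3 ∧ orderOf b = 3 ∧ a * b = b * a ∧ b ∉ Subgroup.zpowers a

/-- The possible kinds of simple CIT groups. -/
def Outcome (G : Type*) [Group G] : Prop :=
  TISylow G ∨ HasDihedralSylow G ∨ HasNoncyclicThree G

variable {L V : Type*} [Group L] [Finite L] [CommGroup V] [MulDistribMulAction L V] [Finite V]
  [Nontrivial V]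

omit [Finite L] in
theorem FPFAct.not_three (h : FPFAct L V) [Finite L] : ¬ HasNoncyclicThree L := by
  rintro ⟨a, b, ha, hb, hab, hnot⟩
  set A := Subgroup.closure ({a, b} : Set L) with hA
  have : IsMulCommutative A := Subgroup.isMulCommutative_closure (by
    rintro x (rfl | rfl) y (rfl | rfl)
    · rfl
    · exact hab
    · exact hab.symm
    · rfl)
  have hpow : ∀ x ∈ A, x ^ 3 = 1 := by
    intro x hx
    induction hx using Subgroup.closure_induction with
    | mem x hx =>
      rcases hx with rfl | hx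
      · rw [← ha, pow_orderOf_eq_one]
      · rw [Set.mem_singleton_iff.1 hx, ← hb, pow_orderOf_eq_one]
    | one => exact one_pow _
    | mul x y hx hy ex ey =>
      have hc : Commute x y := congrArg Subtype.val
        (mul_comm' (⟨x, hx⟩ : A) ⟨y, hy⟩)
      rw [hc.mul_pow, ex, ey, one_mul]
    | inv x _ ex => rw [inv_pow, ex, inv_one]
  have : Fact (Nat.Prime 3) := ⟨Nat.prime_three⟩
  have h3 : IsPGroup 3 A := fun g => ⟨1, Subtype.ext (by simpa using hpow g g.2)⟩
  have hodd : Odd (Nat.card A) := by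
    obtain ⟨n, hn⟩ := IsPGroup.iff_card.1 h3
    rw [hn]; exact (by decide : Odd 3).pow
  have := h.isCyclic A hodd
  obtain ⟨g, hg⟩ := IsCyclic.exists_generator (α := A)
  have hg3 : orderOf g = 3 := by
    refine orderOf_eq_prime (Subtype.ext (by simpa using hpow g g.2)) fun e => ?_
    have h2 := hg ⟨a, Subgroup.subset_closure (by simp)⟩
    rw [e, Subgroup.zpowers_one_eq_bot, Subgroup.mem_bot] at h2
    have h4 : a = 1 := congrArg Subtype.val h2
    rw [h4, orderOf_one] at ha
    omega
  have hcard : Nat.card A = 3 := by rw [← orderOf_eq_card_of_forall_mem_zpowers hg, hg3]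
  have hle : Subgroup.zpowers a ≤ A := Subgroup.zpowers_le.2 (Subgroup.subset_closure (by simp))
  have heq := Subgroup.eq_of_le_of_card_ge hle (by rw [Nat.card_zpowers, ha, hcard])
  exact hnot (heq ▸ Subgroup.subset_closure (by simp))

open DihedralGroup in
theorem FPFAct.not_dihedral (h : FPFAct L V) (hL : IsCIT L)
    (hfaith : ∀ a : L, (∀ v : V, a • v = v) → a = 1) : ¬ HasDihedralSylow L := by
  classical
  rintro ⟨S, k, hk, ⟨e⟩, hconj⟩
  have : Fact (Nat.Prime 2) := ⟨Nat.prime_two⟩
  have : Fact (Nat.Prime 3) := ⟨Nat.prime_three⟩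
  obtain ⟨k', hk', ⟨δ⟩⟩ := TwoFusion.exists_dihedralSylow S
    (by exact le_trans (by norm_num) (Nat.pow_le_pow_right two_pos (show 1 ≤ k by omega))) e
  obtain rfl : k = k' := Nat.pow_right_injective le_rfl hk'
  set z := δ.centre
  have hz : orderOf z = 2 := δ.orderOf_centre
  -- each reflection has the fixed points of the centre
  have key : ∀ i : ZMod (2 ^ k), fixSub V z = fixSub V (δ.φ (sr i)) := by
    intro i
    set r₀ := δ.φ (sr i)
    have hr₀ : orderOf r₀ = 2 := δ.orderOf_reflection i
    obtain ⟨g, hg⟩ := isConj_iff.1 (hconj r₀ z hr₀ hz)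
    obtain ⟨n, hn, hnr⟩ := δ.exists_normalizer_conj hg
    set U := δ.shape (k - 1) i
    have hU : IsKleinFour U := δ.shape_isKleinFour i
    have hzU : z ∈ U := δ.centre_mem i
    have hrU : r₀ ∈ U := δ.sr_mem _ _
    have hrz : r₀ ≠ z := δ.sr_ne_centre i
    have hUcomm : ∀ a ∈ U, ∀ b ∈ U, a * b = b * a := fun a ha b hb => δ.shape_commute ha hb
    have hz2 := Involutions.mul_self_eq_one hz
    have hr2 := Involutions.mul_self_eq_one hr₀
    have hrz2 : orderOf (r₀ * z) = 2 :=
      Involutions.orderOf_eq_two_iff.2 ⟨by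
        rw [mul_assoc, ← mul_assoc z, hUcomm z hzU r₀ hrU, mul_assoc r₀ z z, hz2, mul_one, hr2],
        fun e => hrz (mul_eq_one_iff_eq_inv.1 e |>.trans (Involutions.inv_eq_self hz))⟩
    have hmem : ∀ a ∈ U, a = 1 ∨ a = z ∨ a = r₀ ∨ a = r₀ * z := by
      intro a ha
      by_contra hcon
      push Not at hcon
      have hfour := hU.card_four
      classical
      have := Fintype.ofFinite U
      have h5 : ({⟨1, U.one_mem⟩, ⟨z, hzU⟩, ⟨r₀, hrU⟩, ⟨r₀ * z, U.mul_mem hrU hzU⟩, ⟨a, ha⟩} :
          Finset U).card = 5 := by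
        rw [Finset.card_insert_of_notMem, Finset.card_insert_of_notMem, Finset.card_insert_of_notMem,
          Finset.card_insert_of_notMem, Finset.card_singleton] <;>
        simp [Subtype.ext_iff, Ne.symm (Involutions.ne_one hz), Ne.symm (Involutions.ne_one hr₀),
          Ne.symm (Involutions.ne_one hrz2), Ne.symm hcon.1, Ne.symm hcon.2.1, Ne.symm hcon.2.2.1,
          Ne.symm hcon.2.2.2, Ne.symm hrz, Involutions.ne_one hz, Involutions.ne_one hr₀]
      have := Finset.card_le_univ ({⟨1, U.one_mem⟩, ⟨z, hzU⟩, ⟨r₀, hrU⟩,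
        ⟨r₀ * z, U.mul_mem hrU hzU⟩, ⟨a, ha⟩} : Finset U)
      rw [h5, ← Nat.card_eq_fintype_card, hfour] at this
      omega
    -- the rotation moving `r₀` to `r₀ z`
    obtain ⟨c, hc⟩ : ∃ c : ZMod (2 ^ k), 2 * c = TwoFusion.halfTurn k :=
      ⟨2 ^ (k - 2), by unfold TwoFusion.halfTurn; rw [← pow_succ', show k - 2 + 1 = k - 1 by omega]⟩
    set s := δ.φ (r c)
    have hsz : s * z * s⁻¹ = z := by
      rw [← δ.centre_commute (δ.mem _), mul_inv_cancel_right]
    have hsr : s * r₀ * s⁻¹ = r₀ * z := by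
      show δ.φ (r c) * δ.φ (sr i) * (δ.φ (r c))⁻¹ = δ.φ (sr i) * δ.φ (r (TwoFusion.halfTurn k))
      rw [← map_inv, ← map_mul, ← map_mul, ← map_mul, inv_r, r_mul_sr, sr_mul_r, sr_mul_r, ← hc]
      congr 2
      have := TwoFusion.two_mul_halfTurn (k := k) (by omega)
      linear_combination -this - (2 : ZMod (2 ^ k)) * hc
    have hsN : s ∈ Subgroup.normalizer (U : Set L) := by
      have h1 : ∀ a ∈ U, s * a * s⁻¹ ∈ U := by
        intro a ha
        rcases hmem a ha with rfl | rfl | rfl | rfl
        · simp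
        · rwa [hsz]
        · rw [hsr]; exact U.mul_mem hrU hzU
        · rw [show s * (r₀ * z) * s⁻¹ = (s * r₀ * s⁻¹) * (s * z * s⁻¹) by group, hsr, hsz]
          exact U.mul_mem (U.mul_mem hrU hzU) hzU
      rw [Subgroup.mem_normalizer_iff]
      refine fun a => ⟨h1 a, fun ha => ?_⟩
      obtain ⟨⟨b, hb⟩, e⟩ := (show Function.Injective (fun b : U => (⟨s * b * s⁻¹, h1 b b.2⟩ : U)) from
        fun x y e => Subtype.ext (by simpa using congrArg Subtype.val e)).bijective_of_nat_card_le le_rfl
        |>.2 ⟨_, ha⟩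
      have e' : s * b * s⁻¹ = s * a * s⁻¹ := congrArg Subtype.val e
      rw [mul_left_inj, mul_right_inj] at e'
      exact e' ▸ hb
      
    -- an element of order three normalising `U`
    set N := Subgroup.normalizer (U : Set L)
    have h3 : 3 ∣ Nat.card N := by
      let O : Set L := {a | ∃ g ∈ N, g * z * g⁻¹ = a}
      have hO : ∀ a ∈ ({z, r₀, r₀ * z} : Finset L), a ∈ O := by
        have hnr' : n * r₀ * n⁻¹ = z := hnr
        have hn' : n⁻¹ * z * (n⁻¹)⁻¹ = r₀ := by rw [← hnr']; group
        intro a ha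
        simp only [Finset.mem_insert, Finset.mem_singleton] at ha
        rcases ha with rfl | rfl | rfl
        · exact ⟨1, N.one_mem, by group⟩
        · exact ⟨n⁻¹, N.inv_mem hn, hn'⟩
        · refine ⟨s * n⁻¹, N.mul_mem hsN (N.inv_mem hn), ?_⟩
          rw [show s * n⁻¹ * z * (s * n⁻¹)⁻¹ = s * (n⁻¹ * z * (n⁻¹)⁻¹) * s⁻¹ by group, hn', hsr]
      have hOe : O = (↑({z, r₀, r₀ * z} : Finset L) : Set L) := by
        refine Set.Subset.antisymm ?_ hO
        rintro a ⟨g, hg, rfl⟩
        rcases hmem _ ((Subgroup.mem_normalizer_iff.1 hg z).1 hzU) with e | e | e | e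
        · exact absurd (conj_eq_one_iff.1 e) (Involutions.ne_one hz)
        all_goals simp [e]
      let f : N → L := fun g => (g : L) * z * (g : L)⁻¹
      let C := (Subgroup.centralizer ({z} : Set L)).subgroupOf N
      have hcard : Nat.card (N ⧸ C) = O.ncard := by
        rw [← Nat.card_coe_set_eq]
        have feq : ∀ a b : N, f a = f b ↔ a⁻¹ * b ∈ C := by
          intro a b
          rw [Subgroup.mem_subgroupOf, Subgroup.mem_centralizer_singleton_iff]
          simp only [f, Subgroup.coe_mul, Subgroup.coe_inv]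
          constructor
          · intro e
            calc (a : L)⁻¹ * b * z = (a : L)⁻¹ * ((b : L) * z * (b : L)⁻¹) * b := by group
              _ = z * ((a : L)⁻¹ * b) := by rw [← e]; group
          · intro e
            calc (a : L) * z * (a : L)⁻¹ = a * (z * ((a : L)⁻¹ * b)) * (b : L)⁻¹ := by group
              _ = a * ((a : L)⁻¹ * b * z) * (b : L)⁻¹ := by rw [e]
              _ = b * z * (b : L)⁻¹ := by group
        refine Nat.card_eq_of_bijective (Quotient.lift (fun g => (⟨f g, g, g.2, rfl⟩ : O))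
          fun a b hab => Subtype.ext ((feq a b).2 ((QuotientGroup.leftRel_apply).1 hab))) ⟨?_, ?_⟩
        · intro a b
          refine Quotient.inductionOn₂ a b fun a b e => Quotient.sound ((QuotientGroup.leftRel_apply).2 ?_)
          exact (feq a b).1 (congrArg Subtype.val e)
        · rintro ⟨_, g, hg, rfl⟩
          exact ⟨QuotientGroup.mk ⟨g, hg⟩, rfl⟩
      rw [hOe, Set.ncard_coe_finset, Finset.card_insert_of_notMem, Finset.card_insert_of_notMem,
        Finset.card_singleton] at hcard
      · have h5 : Nat.card (N ⧸ C) = 3 := hcard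
        exact h5 ▸ C.index_dvd_card
      · simp [Involutions.ne_one hz]
      · simp [Ne.symm hrz, Involutions.ne_one hr₀]
    obtain ⟨⟨x, hxN⟩, hx⟩ := exists_prime_orderOf_dvd_card' 3 h3
    rw [Subgroup.orderOf_mk] at hx
    have hxconj : ∀ a ∈ U, x * a * x⁻¹ ∈ U := fun a ha => (Subgroup.mem_normalizer_iff.1 hxN a).1 ha
    have hnofix : ∀ a ∈ U, a ≠ 1 → x * a * x⁻¹ ≠ a := by
      intro a ha h1 e
      have := hL.eq_one_of_commute (two_dvd_orderOf_of_mem (δ.isPGroup_shape _ _) ha h1)
        (hx ▸ by decide) (mul_inv_eq_iff_eq_mul.1 e).symm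
      rw [this, orderOf_one] at hx
      omega
    set b := x * z * x⁻¹ with hb
    have hb2 : orderOf b = 2 := by rw [hb, Involutions.orderOf_conj, hz]
    have hbU : b ∈ U := hxconj z hzU
    have hbz : b ≠ z := hnofix z hzU (Involutions.ne_one hz)
    have hxb : x * b * x⁻¹ = z * b := by
      have h1 : x * b * x⁻¹ ≠ b := hnofix b hbU (Involutions.ne_one hb2)
      have h2 : x * b * x⁻¹ ≠ z := by
        intro e
        have h3 := hnofix (z * b) (U.mul_mem hzU hbU)
          (fun e' => hbz (mul_eq_one_iff_inv_eq.1 e' ▸ Involutions.inv_eq_self hz))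
        refine h3 ?_
        rw [show x * (z * b) * x⁻¹ = (x * z * x⁻¹) * (x * b * x⁻¹) by group, ← hb, e, hUcomm _ hbU _ hzU]
      have h3 : x * b * x⁻¹ ≠ 1 := fun e => Involutions.ne_one hb2 (conj_eq_one_iff.1 e)
      have hb_cases := hmem b hbU
      have hxb_cases := hmem _ (hxconj b hbU)
      have hzz : z * (r₀ * z) = r₀ := by
        rw [← mul_assoc, hUcomm z hzU r₀ hrU, mul_assoc, hz2, mul_one]
      rcases hb_cases with e | e | e | e
      · exact absurd e (Involutions.ne_one hb2)
      · exact absurd e hbz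
      all_goals rw [e] at h1 ⊢
      all_goals rcases hxb_cases with e' | e' | e' | e'
      all_goals first
        | exact absurd e' h3
        | exact absurd e' h2
        | (rw [e] at e'; exact absurd e' h1)
        | (rw [e] at e'; rw [e', hUcomm z hzU r₀ hrU])
        | (rw [e] at e'; rw [e', hzz])
    have hxzb : x * (z * b) * x⁻¹ = z := by
      rw [show x * (z * b) * x⁻¹ = (x * z * x⁻¹) * (x * b * x⁻¹) by group, ← hb, hxb, ← mul_assoc,
        hUcomm b hbU z hzU, mul_assoc, Involutions.mul_self_eq_one hb2, mul_one]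
    have hzb2 : orderOf (z * b) = 2 := by rw [← hxb, Involutions.orderOf_conj, hb2]
    have l1 := h.fixSub_le_of_three hz hb2 (hUcomm z hzU b hbU) hx hb.symm hxb
    have l2 := h.fixSub_le_of_three hb2 hzb2 (hUcomm b hbU _ (U.mul_mem hzU hbU)) hx hxb (by
      rw [hxzb, ← mul_assoc, hUcomm b hbU z hzU, mul_assoc, Involutions.mul_self_eq_one hb2, mul_one])
    have l3 := h.fixSub_le_of_three hzb2 hz (hUcomm _ (U.mul_mem hzU hbU) z hzU) hx hxzb (by
      rw [← hb, hUcomm z hzU b hbU, mul_assoc, hz2, mul_one])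
    rcases hmem b hbU with e | e | e | e
    · exact absurd e (Involutions.ne_one hb2)
    · exact absurd e hbz
    · rw [← show b = r₀ from e]; exact le_antisymm l1 (l2.trans l3)
    · have hbb : z * b = r₀ := by rw [e, ← mul_assoc, hUcomm z hzU r₀ hrU, mul_assoc, hz2, mul_one]
      rw [← hbb]; exact le_antisymm (l1.trans l2) l3
  -- the generating rotation has order at most two
  have hrot : ∀ v : V, δ.φ (r (2 : ZMod (2 ^ k))) • v = v := by
    intro v
    set a := δ.φ (sr (0 : ZMod (2 ^ k)))
    set b := δ.φ (sr (1 : ZMod (2 ^ k)))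
    have hk2 : ∀ (c : L), orderOf c = 2 → ∀ v : V, c • ((c • v) * v) = (c • v) * v := by
      intro c hc v
      rw [smul_mul', smul_smul, Involutions.mul_self_eq_one hc, one_smul, mul_comm]
    have hfixeq : fixSub V a = fixSub V b := (key 0).symm.trans (key 1)
    have step : ∀ v : V, ∃ w : V, a • w = w ∧ b • w = w ∧ (a * b) • v = v * w := by
      intro v
      have ha : (a • v) * v ∈ fixSub V a := hk2 a (δ.orderOf_reflection 0) v
      have hb : (b • v) * v ∈ fixSub V b := hk2 b (δ.orderOf_reflection 1) v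
      refine ⟨((a • v) * v) * ((b • v) * v), ?_, ?_, ?_⟩
      · exact (fixSub V a).mul_mem ha (hfixeq ▸ hb)
      · exact (fixSub V b).mul_mem (hfixeq ▸ ha) hb
      · have hb' : a • ((b • v) * v) = (b • v) * v := (hfixeq.symm ▸ hb : _ ∈ fixSub V a)
        rw [mul_smul]
        calc a • b • v = a • (((b • v) * v) * v) := by rw [mul_assoc, h.sq, mul_one]
          _ = ((b • v) * v) * a • v := by rw [smul_mul', hb']
          _ = _ := by
            rw [show v * ((a • v) * v * ((b • v) * v)) = (v * v) * ((b • v) * v * (a • v)) by ac_rfl,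
              h.sq, one_mul]
    have e2 : δ.φ (r (2 : ZMod (2 ^ k))) = (a * b) * (a * b) := by
      rw [← map_mul, ← map_mul, sr_mul_sr, r_mul_r]; norm_num
    obtain ⟨w, hwa, hwb, hw⟩ := step v
    rw [e2, mul_smul, hw, smul_mul', hw, mul_smul a b w, hwb, hwa, mul_assoc, h.sq, mul_one]
  have h1 := hfaith _ hrot
  rw [← map_one δ.φ] at h1
  have h2 := δ.injective h1
  rw [DihedralGroup.one_def, r.injEq] at h2
  have h3 : ((2 : ℕ) : ZMod (2 ^ k)) = 0 := by simpa using h2
  rw [ZMod.natCast_eq_zero_iff] at h3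
  have h4 := Nat.le_of_dvd two_pos h3
  have := Nat.pow_le_pow_right two_pos hk
  omega

end CfsgLib.CIT
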