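import Cfsg.Agent.Lib.CIT.Basic
import Cfsg.Agent.Lib.SL2.Torus
import Cfsg.Agent.Lib.SL2.Card
import Cfsg.Agent.Lib.Spectrum.PowerArith

/-!
The fields over which `PSL₂` has all involution centralisers 2-groups.
-/

set_option autoImplicit false

open Cfsg Matrix

namespace CfsgLib.CIT

/-- For odd `q`, either `q - 1` or `q + 1` is a power of two. -/
theorem torus_two_power {F : Type*} [Field F] [Fintype F] (hodd : Odd (Fintype.card F))
    (h5 : 5 ≤ Fintype.card F) (hcit : IsCIT (ProjectiveSpecialLinearGroup (Fin 2) F)) :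
    ∃ j, Fintype.card F - 1 = 2 ^ j ∨ Fintype.card F + 1 = 2 ^ j := by
  classical
  set q := Fintype.card F with hq
  obtain ⟨e, he, c, hc⟩ : ∃ e, (e = q - 1 ∨ e = q + 1) ∧ ∃ c, e = 4 * c := by
    rcases hodd with ⟨a, ha⟩
    rcases Nat.even_or_odd a with ⟨b, hb⟩ | ⟨b, hb⟩
    · exact ⟨q - 1, Or.inl rfl, b, by omega⟩
    · exact ⟨q + 1, Or.inr rfl, b + 1, by omega⟩
  obtain ⟨g, -, hg, -⟩ := CfsgLib.SL2.exists_torus_generator (F := F) (e := e)
    (by rwa [Nat.card_eq_fintype_card, ← hq]) (by omega)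
  have h2 : (2 : F) ≠ 0 := Ring.two_ne_zero fun h => by
    have := FiniteField.even_card_iff_char_two.1 h
    obtain ⟨a, ha⟩ := hodd
    omega
  let π : SpecialLinearGroup (Fin 2) F →* ProjectiveSpecialLinearGroup (Fin 2) F := QuotientGroup.mk' _
  have hker : ∀ x : SpecialLinearGroup (Fin 2) F, π x = 1 → x ^ 2 = 1 := by
    intro x hx
    have h := pow_card_eq_one' (x := (⟨x, (QuotientGroup.eq_one_iff x).1 hx⟩ :
      Subgroup.center (SpecialLinearGroup (Fin 2) F)))
    rw [CfsgLib.SL2.center_card_of_odd h2] at h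
    exact congrArg Subtype.val h
  have hc0 : 0 < c := by omega
  have hne : (g ^ c) ^ 2 ≠ 1 := by
    rw [← pow_mul]
    exact pow_ne_one_of_lt_orderOf (by omega) (by omega)
  have hneg : (g ^ c) ^ 2 = -1 := by
    refine CfsgLib.SL2.eq_neg_one_of_sq_eq_one h2 ?_ hne
    rw [← pow_mul, ← pow_mul, show c * (2 * 2) = orderOf g by omega, pow_orderOf_eq_one]
  have hy : orderOf (π (g ^ c)) = 2 := by
    have : Fact (Nat.Prime 2) := ⟨Nat.prime_two⟩
    refine orderOf_eq_prime ?_ fun h => hne (hker _ h)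
    rw [← map_pow, hneg]
    refine (QuotientGroup.eq_one_iff _).2 (Subgroup.mem_center_iff.2 fun x => ?_)
    apply Subtype.ext
    simp
  have hmem : π g ∈ Subgroup.centralizer ({π (g ^ c)} : Set (ProjectiveSpecialLinearGroup (Fin 2) F)) := by
    rw [Subgroup.mem_centralizer_singleton_iff, ← map_mul, ← map_mul, ← pow_succ, ← pow_succ']
  obtain ⟨k, hk⟩ := IsPGroup.iff_orderOf.1 (hcit _ hy) ⟨π g, hmem⟩
  rw [Subgroup.orderOf_mk] at hk
  have hd : e ∣ 2 ^ (k + 1) := by
    rw [← hg]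
    refine orderOf_dvd_of_pow_eq_one ?_
    rw [pow_succ, pow_mul]
    exact hker _ (by rw [map_pow, ← hk, pow_orderOf_eq_one])
  obtain ⟨j, -, hj⟩ := (Nat.dvd_prime_pow Nat.prime_two).1 hd
  refine ⟨j, ?_⟩
  omega

/-- The field is of order nine, or even, or a prime next to a power of two. -/
theorem card_of_isCIT_psl {F : Type*} [Field F] [Fintype F]
    (hcit : IsCIT (ProjectiveSpecialLinearGroup (Fin 2) F)) :
    Fintype.card F = 9 ∨ (∃ n : ℕ, Fintype.card F = 2 ^ n) ∨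
      ((Fintype.card F).Prime ∧ ∃ k : ℕ, Fintype.card F = 2 ^ k + 1 ∨ Fintype.card F + 1 = 2 ^ k) := by
  obtain ⟨p, hchar⟩ := CharP.exists F
  obtain ⟨f, hp, hqf⟩ := FiniteField.card F p
  rcases hp.eq_two_or_odd' with rfl | hodd
  · exact Or.inr (Or.inl ⟨f, hqf⟩)
  have hq : Odd (Fintype.card F) := hqf ▸ hodd.pow
  by_cases h5 : 5 ≤ Fintype.card F
  · obtain ⟨j, hj⟩ := torus_two_power hq h5 hcit
    rcases hj with hj | hj
    · rcases Nat.lt_or_ge (f : ℕ) 2 with hf | hf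
      · have hf1 : (f : ℕ) = 1 := by have := f.pos; omega
        exact Or.inr (Or.inr ⟨by rw [hqf, hf1, pow_one]; exact hp, j, Or.inl (by omega)⟩)
      · obtain ⟨h3, h2, -⟩ := Spectrum.eq_nine_of_two_pow_add_one hp.two_le hf
          (show 2 ^ j + 1 = p ^ (f : ℕ) by omega)
        exact Or.inl (by rw [hqf, h3, h2]; norm_num)
    · have hf1 := Spectrum.eq_one_of_pow_add_one_eq_two_pow hp.two_le f.pos (hqf ▸ hj)
      exact Or.inr (Or.inr ⟨by rw [hqf, hf1, pow_one]; exact hp, j, Or.inr hj⟩)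
  · obtain ⟨a, ha⟩ := hq
    have h1 : 1 < Fintype.card F := Fintype.one_lt_card
    exact Or.inr (Or.inr ⟨by rw [show Fintype.card F = 3 by omega]; exact Nat.prime_three,
      1, Or.inl (by omega)⟩)

end CfsgLib.CIT
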