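import Cfsg.Agent.Lib.CIT.Pairs
import Cfsg.Agent.Lib.Involutions.ThompsonTransfer

/-!
Two natural 2-locals sharing a Sylow 2-subgroup: `q = 4`, and nothing interchanges them.
-/

set_option autoImplicit false

open Cfsg CfsgLib.PrimeElementOrders

namespace CfsgLib.CIT

universe u

variable {G : Type u} [Group G] [Finite G]

/-- Two natural 2-locals with `q = 4` and a common Sylow 2-subgroup. -/
structure E2Pair (M M' T : Subgroup G) : Prop where
  left : E2Data M T 4
  right : E2Data M' T 4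
  ne : pCoreOf 2 M ≠ pCoreOf 2 M'
  core : omegaZ (pCoreOf 2 M) = pCoreOf 2 M
  core' : omegaZ (pCoreOf 2 M') = pCoreOf 2 M'
  inf : pCoreOf 2 M ⊓ pCoreOf 2 M' = omegaZ T
  invol : ∀ a ∈ T, a * a = 1 → a ∈ pCoreOf 2 M ∨ a ∈ pCoreOf 2 M'
  elem : ∀ E : Subgroup G, E ≤ T → IsElementaryAbelian 2 E → 16 ≤ Nat.card E →
    E = pCoreOf 2 M ∨ E = pCoreOf 2 M'
  sup : pCoreOf 2 M ⊔ pCoreOf 2 M' = T
  nt_eq : ∀ g : G, g ∈ Subgroup.normalizer (T : Set G) → (g ∈ M ↔ g ∈ M')

omit [Finite G] in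
theorem mem_normalizer_omegaZ_conj {P : Subgroup G} {g : G} (hg : g ∈ Subgroup.normalizer (P : Set G))
    {a : G} (ha : a ∈ P) : g * a * g⁻¹ ∈ P := (Subgroup.mem_normalizer_iff.1 hg a).1 ha

theorem two_pow_sub_one_eq_three_pow {n j : ℕ} (hn : 2 ≤ n) (h : 2 ^ n = 3 ^ j + 1) : n = 2 := by
  by_contra hne
  have h8 : 8 ∣ 2 ^ n := by
    rw [show (8 : ℕ) = 2 ^ 3 from rfl]
    exact pow_dvd_pow 2 (by omega)
  rw [h] at h8
  have h9 : ∀ i : ℕ, 9 ^ i % 8 = 1 := fun i => by rw [Nat.pow_mod]; simp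
  rcases Nat.even_or_odd' j with ⟨i, rfl | rfl⟩
  · rw [pow_mul] at h8
    have := h9 i
    norm_num at h8
    omega
  · rw [pow_succ, pow_mul] at h8
    have := h9 i
    norm_num at h8
    omega

variable {M M' T : Subgroup G}

/-- Two different natural 2-locals with the same Sylow subgroup. -/
theorem E2Data.pair (hC : Ctx G) {q q' : ℕ} (h : E2Data M T q) (h' : E2Data M' T q') (hne : M ≠ M') :
    E2Pair M M' T := by
  have : Fact (Nat.Prime 2) := ⟨Nat.prime_two⟩
  set D := pCoreOf 2 M with hD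
  set D' := pCoreOf 2 M' with hD'
  set V := omegaZ D with hV
  set V' := omegaZ D' with hV'
  have hqq : q = q' := by
    have h1 := h.isMaxEA.card_le _ h'.isMaxEA.le h'.isMaxEA.elem
    have h2 := h'.isMaxEA.card_le _ h.isMaxEA.le h.isMaxEA.elem
    rw [h.card_V, h'.card_V] at h1 h2
    exact Nat.pow_left_injective two_ne_zero (le_antisymm h2 h1)
  subst hqq
  have hVne : V ≠ V' := by
    intro e
    refine hne ((h.loc.maxLoc.normalizer_eq ((isPGroup_pCoreOf M).to_le (omegaZ_le _))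
      (omegaZ_ne_bot (isPGroup_pCoreOf M) h.loc.maxLoc.core_ne_bot) (le_normalizer_omegaZ M)).symm.trans ?_)
    rw [← hV, e, hV']
    exact h'.loc.maxLoc.normalizer_eq ((isPGroup_pCoreOf M').to_le (omegaZ_le _))
      (omegaZ_ne_bot (isPGroup_pCoreOf M') h'.loc.maxLoc.core_ne_bot) (le_normalizer_omegaZ M')
  have hDT := h.loc.core_le
  have hD'T := h'.loc.core_le
  have hout : ∀ {N N' : Subgroup G}, E2Data N T q → E2Data N' T q →
      omegaZ (pCoreOf 2 N) ≠ omegaZ (pCoreOf 2 N') →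
      ∃ v ∈ omegaZ (pCoreOf 2 N'), v ∉ pCoreOf 2 N := by
    intro N N' hN hN' hne'
    by_contra! hall
    refine hne' (Subgroup.eq_of_le_of_card_ge (fun v hv => hN.mem_omega (hall v hv) hv.2.1) ?_).symm
    rw [hN.card_V, hN'.card_V]
  have hcore : ∀ {N N' : Subgroup G}, E2Data N T q → E2Data N' T q →
      omegaZ (pCoreOf 2 N) ≠ omegaZ (pCoreOf 2 N') →
      Nat.card (pCoreOf 2 N) ≤ q * Nat.card ↥(pCoreOf 2 N ⊓ pCoreOf 2 N') ∧
        omegaZ (pCoreOf 2 N) = pCoreOf 2 N := by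
    intro N N' hN hN' hne'
    obtain ⟨v, hv, hvN⟩ := hout hN hN' hne'
    have hc : Nat.card (pCoreOf 2 N) = Nat.card (pCoreOf 2 N') := by
      have h1 := hN.card_T
      rw [hN'.card_T] at h1
      exact (Nat.eq_of_mul_eq_mul_right (by linarith [hN.four_le]) h1).symm
    have h1 := hN.loc.sq_le hC (hN'.loc.core_le hv.1) hvN le_rfl
      (fun m hm a ha => (Subgroup.mem_normalizer_iff.1 (le_normalizer_pCoreOf N hm) a).1 ha)
      (inf_le_left : pCoreOf 2 N ⊓ pCoreOf 2 N' ≤ _) fun a ha => hN'.comm a ha.2 v hv.1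
    have h2 := (card_mul_card_le (pCoreOf 2 N) (pCoreOf 2 N')).trans
      (Nat.mul_le_mul_right _ (Subgroup.card_le_of_le (sup_le hN.loc.core_le hN'.loc.core_le)))
    rw [hN.card_T, ← hc, mul_assoc] at h2
    have h3 := Nat.le_of_mul_le_mul_left h2 (Nat.card_pos (α := pCoreOf 2 N))
    refine ⟨h3, Subgroup.eq_of_le_of_card_ge (omegaZ_le _) ?_⟩
    rw [hN.card_V]
    have h4 : Nat.card (pCoreOf 2 N) * Nat.card (pCoreOf 2 N) ≤ q ^ 2 * Nat.card (pCoreOf 2 N) := by
      calc _ ≤ (q * Nat.card ↥(pCoreOf 2 N ⊓ pCoreOf 2 N')) *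
            (q * Nat.card ↥(pCoreOf 2 N ⊓ pCoreOf 2 N')) := Nat.mul_le_mul h3 h3
        _ = q ^ 2 * Nat.card ↥(pCoreOf 2 N ⊓ pCoreOf 2 N') ^ 2 := by ring
        _ ≤ _ := Nat.mul_le_mul_left _ h1
    exact Nat.le_of_mul_le_mul_right h4 Nat.card_pos
  obtain ⟨hle, hcV⟩ := hcore h h' hVne
  obtain ⟨-, hcV'⟩ := hcore h' h (Ne.symm hVne)
  have hDne : D ≠ D' := fun e => hVne (by rw [hV, hV', e])
  have hDcard : Nat.card D = q ^ 2 := by rw [← h.card_V, hcV]
  have hD'card : Nat.card D' = q ^ 2 := by rw [← h'.card_V, hcV']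
  have hsqD : ∀ a ∈ D, a * a = 1 := fun a ha => (hcV.symm.le ha).2.1
  have hsqD' : ∀ a ∈ D', a * a = 1 := fun a ha => (hcV'.symm.le ha).2.1
  have hinf : D ⊓ D' = omegaZ T := by
    refine le_antisymm (fun a ha => ?_)
      (le_inf ((h.omegaT_le hC).trans (omegaZ_le _)) ((h'.omegaT_le hC).trans (omegaZ_le _)))
    obtain ⟨v, hv, hvD⟩ := hout h h' hVne
    exact h.fix v (hD'T hv.1) hvD a (hcV.symm.le ha.1) (hv.2.2 a ha.2)
  have hsup : D ⊔ D' = T := by
    refine Subgroup.eq_of_le_of_card_ge (sup_le hDT hD'T) ?_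
    have h1 := card_mul_card_le D D'
    rw [hinf, h.card_W, hDcard, hD'card] at h1
    rw [h.card_T, ← hD, hDcard]
    refine Nat.le_of_mul_le_mul_right ?_ (show 0 < q by linarith [h.four_le])
    calc q ^ 2 * q * q = q ^ 2 * q ^ 2 := by ring
      _ ≤ _ := h1
  have hinvol : ∀ a ∈ T, a * a = 1 → a ∈ D ∨ a ∈ D' := by
    intro a ha ha2
    rw [← hsup] at ha
    have hn : D' ≤ Subgroup.normalizer (D : Set G) :=
      (pCoreOf_le M |> fun _ => hD'T.trans (h.loc.T_le.trans (le_normalizer_pCoreOf M)))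
    rw [← SetLike.mem_coe, Subgroup.coe_mul_of_right_le_normalizer_left D D' hn] at ha
    obtain ⟨d, hd, d', hd', rfl⟩ := ha
    have h1 : Commute d' d := by
      show d' * d = d * d'
      calc d' * d = (d * d) * (d' * d) * (d' * d') := by rw [hsqD d hd, hsqD' d' hd', one_mul, mul_one]
        _ = d * (d * d' * (d * d')) * d' := by group
        _ = d * d' := by rw [ha2, mul_one]
    by_cases hd'D : d' ∈ D
    · exact Or.inl (D.mul_mem hd hd'D)
    · have h2 := h.fix d' (hD'T hd') hd'D d (hcV.symm.le hd) h1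
      rw [← hinf] at h2
      exact Or.inr (D'.mul_mem h2.2 hd')
  have helem : ∀ E : Subgroup G, E ≤ T → IsElementaryAbelian 2 E → q ^ 2 ≤ Nat.card E → E = D ∨ E = D' := by
    intro E hET hE hcard
    have hmem : ∀ e ∈ E, e ∈ D ∨ e ∈ D' := fun e he => hinvol e (hET he) (by
      rw [← _root_.pow_two]; exact (ThompsonJ.isElementaryAbelian_iff.1 hE).2 e he)
    have h1 : E ≤ D ∨ E ≤ D' := by
      by_contra! hh
      obtain ⟨a, haE, haD⟩ := SetLike.not_le_iff_exists.1 hh.1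
      obtain ⟨b, hbE, hbD'⟩ := SetLike.not_le_iff_exists.1 hh.2
      have haD' := (hmem a haE).resolve_left haD
      have hbD := (hmem b hbE).resolve_right hbD'
      rcases hmem _ (E.mul_mem haE hbE) with h2 | h2
      · exact haD (by simpa using D.mul_mem h2 (D.inv_mem hbD))
      · exact hbD' (by simpa using D'.mul_mem (D'.inv_mem haD') h2)
    rcases h1 with h1 | h1
    · exact Or.inl (Subgroup.eq_of_le_of_card_ge h1 (hDcard.le.trans hcard))
    · exact Or.inr (Subgroup.eq_of_le_of_card_ge h1 (hD'card.le.trans hcard))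
  have hswapN : ∀ {N N' : Subgroup G}, E2Data N T q → E2Data N' T q →
      omegaZ (pCoreOf 2 N) = pCoreOf 2 N → omegaZ (pCoreOf 2 N') = pCoreOf 2 N' →
      pCoreOf 2 N ≠ pCoreOf 2 N' →
      (∀ E : Subgroup G, E ≤ T → IsElementaryAbelian 2 E → q ^ 2 ≤ Nat.card E →
        E = pCoreOf 2 N ∨ E = pCoreOf 2 N') →
      ∀ g : G, g ∈ Subgroup.normalizer (T : Set G) → g ∈ N → g ∈ N' := by
    intro N N' hN hN' e1 e2 hne' hel g hg hgN
    have hc : (pCoreOf 2 N').map (MulAut.conj g).toMonoidHom = pCoreOf 2 N' := by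
      refine (hel _ ?_ (ThompsonJ.isElementaryAbelian_map (e2 ▸ E2Data.isElem_omega N') _) ?_).resolve_left ?_
      · rintro _ ⟨a, ha, rfl⟩
        exact mem_normalizer_omegaZ_conj hg (hN'.loc.core_le ha)
      · rw [Subgroup.card_map_of_injective (MulAut.conj g).injective, ← e2, hN'.card_V]
      · intro e
        refine hne' (Subgroup.eq_of_le_of_card_ge (fun a ha => ?_) ?_).symm
        · have h5 : g * a * g⁻¹ ∈ pCoreOf 2 N := e ▸ ⟨a, ha, rfl⟩
          exact (Subgroup.mem_normalizer_iff.1 (le_normalizer_pCoreOf N hgN) a).2 h5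
        · rw [← e1, ← e2, hN.card_V, hN'.card_V]
    exact hN'.loc.maxLoc.normalizer_core ▸ mem_normalizer_of_map_conj hc
  have hnt : ∀ g : G, g ∈ Subgroup.normalizer (T : Set G) → (g ∈ M ↔ g ∈ M') := fun g hg =>
    ⟨hswapN h h' hcV hcV' hDne helem g hg,
      hswapN h' h hcV' hcV hDne.symm (fun E h1 h2 h3 => (helem E h1 h2 h3).symm) g hg⟩
  -- the cube of every element of the torus is trivial
  obtain ⟨v', hv', hv'D⟩ := hout h h' hVne
  obtain ⟨v, hv, hvD'⟩ := hout h' h (Ne.symm hVne)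
  set zc₀ := v' * v * v'⁻¹ * v⁻¹ with hzc
  have hz : zc₀ ∈ omegaZ T := h.comm_mem v' (hD'T hv'.1) v hv
  have hz1 : zc₀ ≠ 1 := by
    intro e
    rw [hzc, mul_inv_eq_one, mul_inv_eq_iff_eq_mul] at e
    have h1 := h.fix v' (hD'T hv'.1) hv'D v hv e
    rw [← hinf] at h1
    exact hvD' h1.2
  have hzo : orderOf zc₀ = 2 := Involutions.orderOf_eq_two_iff.2 ⟨hz.2.1, hz1⟩
  have hcube : ∀ g ∈ M ⊓ Subgroup.normalizer (T : Set G), g ^ 3 ∈ T := by
    rintro g ⟨hgM, hgT⟩
    have hgM' := (hnt g hgT).1 hgM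
    set u := g * v' * g⁻¹
    set y := g * v * g⁻¹
    have hu : u ∈ omegaZ D' := normalizer_le_omegaZ (le_normalizer_pCoreOf M' hgM') hv'
    have hy : y ∈ omegaZ D := normalizer_le_omegaZ (le_normalizer_pCoreOf M hgM) hv
    have e1 : u * v * u⁻¹ * v⁻¹ = g * g * zc₀ * (g * g)⁻¹ := h.weight g hgM hgT v' (hD'T hv'.1) v hv
    have e2 : y * u * y⁻¹ * u⁻¹ = g * g * (v * u * v⁻¹ * u⁻¹) * (g * g)⁻¹ :=
      h'.weight g hgM' hgT v (hDT hv.1) u hu
    have e3 : y * u * y⁻¹ * u⁻¹ = g * zc₀⁻¹ * g⁻¹ := by simp only [y, u, hzc]; group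
    have e4 : v * u * v⁻¹ * u⁻¹ = g * g * zc₀⁻¹ * (g * g)⁻¹ := by
      rw [show v * u * v⁻¹ * u⁻¹ = (u * v * u⁻¹ * v⁻¹)⁻¹ by group, e1, conj_inv]
    rw [e3, e4, inv_eq_of_mul_eq_one_right hz.2.1] at e2
    have e5 : Commute (g ^ 3) zc₀ := by
      show g ^ 3 * zc₀ = zc₀ * g ^ 3
      calc g ^ 3 * zc₀ = g⁻¹ * (g * g * (g * g * zc₀ * (g * g)⁻¹) * (g * g)⁻¹) * g * g ^ 3 := by
            simp only [pow_succ, pow_zero, one_mul]; group
        _ = _ := by rw [← e2]; group
    refine h.loc.mem_of_normalizer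
      (h.loc.T_two.to_sup_of_normal_left' ((hC.cit zc₀ hzo).to_le (Subgroup.zpowers_le.2
        (Subgroup.mem_centralizer_singleton_iff.2 e5.eq)))
        (Subgroup.zpowers_le.2 (Subgroup.pow_mem _ hgT 3))) le_sup_left
      (le_sup_right (a := T) (Subgroup.mem_zpowers _)) (M.pow_mem hgM 3)
  obtain ⟨n, hn⟩ := h.pow_two
  have hq4 : q = 4 := by
    set K := M ⊓ Subgroup.normalizer (T : Set G) with hK
    have hTK : T ≤ K := le_inf h.loc.T_le Subgroup.le_normalizer
    have : (T.subgroupOf K).Normal := Subgroup.normal_subgroupOf_of_le_normalizer inf_le_right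
    have h3 : IsPGroup 3 (K ⧸ T.subgroupOf K) := fun a => by
      obtain ⟨g, rfl⟩ := QuotientGroup.mk_surjective a
      refine ⟨1, ?_⟩
      rw [pow_one, ← QuotientGroup.mk_pow, QuotientGroup.eq_one_iff, Subgroup.mem_subgroupOf,
        Subgroup.coe_pow]
      exact hcube g g.2
    have : Fact (Nat.Prime 3) := ⟨Nat.prime_three⟩
    obtain ⟨j, hj⟩ := IsPGroup.iff_card.1 h3
    have h5 := Subgroup.card_eq_card_quotient_mul_card_subgroup (T.subgroupOf K)
    rw [hj, Nat.card_congr (Subgroup.subgroupOfEquivOfLe hTK).toEquiv, hK, h.card_NT,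
      mul_comm (3 ^ j)] at h5
    have h6 := Nat.eq_of_mul_eq_mul_left (Nat.card_pos (α := T)) h5
    have h7 : 4 ≤ q := h.four_le
    have h8 : n = 2 := by
      refine two_pow_sub_one_eq_three_pow (j := j) ?_ (by omega)
      by_contra hlt
      have := Nat.pow_le_pow_right two_pos (show n ≤ 1 by omega)
      omega
    rw [hn, h8]; rfl
  subst hq4
  exact ⟨h, h', hDne, hcV, hcV', hinf, hinvol, fun E h1 h2 h3 => helem E h1 h2 (by simpa using h3), hsup, hnt⟩

/-- `T` is a Sylow subgroup: nothing interchanges the two cores. -/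
theorem E2Pair.sylow (hC : Ctx G) (P : E2Pair M M' T) {R : Subgroup G} (hR : IsPGroup 2 R)
    (hTR : T ≤ R) : R = T := by
  by_contra hne
  have : Fact (Nat.Prime 2) := ⟨Nat.prime_two⟩
  set D := pCoreOf 2 M with hD
  set D' := pCoreOf 2 M' with hD'
  set W := omegaZ T with hW
  have hDT : D ≤ T := P.left.loc.core_le
  have hD'T : D' ≤ T := P.right.loc.core_le
  have hDe : IsElementaryAbelian 2 D := by rw [hD, ← P.core]; exact E2Data.isElem_omega M
  have hD'e : IsElementaryAbelian 2 D' := by rw [hD', ← P.core']; exact E2Data.isElem_omega M'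
  have hDc : Nat.card D = 16 := by rw [hD, ← P.core, P.left.card_V]; norm_num
  have hD'c : Nat.card D' = 16 := by rw [hD', ← P.core', P.right.card_V]; norm_num
  have hWD : W ≤ D := by rw [hW, ← P.inf]; exact inf_le_left
  have hWD' : W ≤ D' := by rw [hW, ← P.inf]; exact inf_le_right
  set K := M ⊓ Subgroup.normalizer (T : Set G) with hK
  -- conjugation by a normalising element permutes the two cores
  have hperm : ∀ g ∈ Subgroup.normalizer (T : Set G), g ∉ M →
      D.map (MulAut.conj g).toMonoidHom = D' ∧ D'.map (MulAut.conj g).toMonoidHom = D := by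
    intro g hg hgM
    have him : ∀ E : Subgroup G, E ≤ T → E.map (MulAut.conj g).toMonoidHom ≤ T := by
      rintro E hE _ ⟨a, ha, rfl⟩
      exact mem_normalizer_omegaZ_conj hg (hE ha)
    have h1 := (P.elem _ (him D hDT) (ThompsonJ.isElementaryAbelian_map hDe _)
      (by rw [Subgroup.card_map_of_injective (MulAut.conj g).injective, hDc])).resolve_left
      fun e => hgM (P.left.loc.maxLoc.normalizer_core ▸ mem_normalizer_of_map_conj e)
    refine ⟨h1, (P.elem _ (him D' hD'T) (ThompsonJ.isElementaryAbelian_map hD'e _)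
      (by rw [Subgroup.card_map_of_injective (MulAut.conj g).injective, hD'c])).resolve_right fun e => ?_⟩
    exact P.ne (Subgroup.map_injective (f := (MulAut.conj g).toMonoidHom) (MulAut.conj g).injective
      (h1.trans e.symm))
  obtain ⟨g₀, hg₀R, hg₀N, hg₀T⟩ := exists_normalizer_notMem hR (lt_of_le_of_ne hTR (Ne.symm hne))
  have hg₀M : g₀ ∉ M := fun h1 => hg₀T (P.left.loc.mem_of_normalizer hR hTR hg₀R h1)
  -- an element of order three of `K`
  have hKc : Nat.card K = Nat.card T * 3 := P.left.card_NT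
  have h64 : Nat.card T = 64 := by rw [P.left.card_T, ← hD, hDc]
  have : Fact (Nat.Prime 3) := ⟨Nat.prime_three⟩
  let Q : Sylow 3 K := default
  have hQc : Nat.card (Q : Subgroup K) = 3 := by
    obtain ⟨n, hn⟩ := IsPGroup.iff_card.1 Q.2
    have h1 := Subgroup.card_subgroup_dvd_card (Q : Subgroup K)
    rw [hn, hKc, h64] at h1
    have h2 : (Q : Subgroup K) ≠ ⊥ := Q.ne_bot_of_dvd_card (by rw [hKc]; exact dvd_mul_left 3 _)
    have h3 : n ≤ 1 := by
      by_contra hh
      exact absurd ((pow_dvd_pow 3 (show 2 ≤ n by omega)).trans h1) (by norm_num)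
    rcases n with _ | _ | n
    · exact absurd (Subgroup.eq_bot_of_card_eq _ (by simpa using hn)) h2
    · simpa using hn
    · omega
  obtain ⟨h, hh⟩ := exists_prime_orderOf_dvd_card' (G := (Q : Subgroup K)) 3 (by rw [hQc])
  set η : G := (((h : (Q : Subgroup K)) : K) : G) with hη
  have hηo : orderOf η = 3 := by rw [hη, Subgroup.orderOf_coe, Subgroup.orderOf_coe, hh]
  have hηK : η ∈ K := ((h : (Q : Subgroup K)) : K).2
  -- an involution outside `M` inverting `η`
  have hgK : ∀ g ∈ Subgroup.normalizer (T : Set G), ∀ a ∈ K, g * a * g⁻¹ ∈ K := by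
    intro g hg a ha
    have hn := Subgroup.mul_mem _ (Subgroup.mul_mem _ hg ha.2) (Subgroup.inv_mem _ hg)
    refine ⟨?_, hn⟩
    by_cases hgM : g ∈ M
    · exact M.mul_mem (M.mul_mem hgM ha.1) (M.inv_mem hgM)
    · refine (P.nt_eq _ hn).2 ?_
      rw [← P.right.loc.maxLoc.normalizer_core]
      refine mem_normalizer_of_map_conj ?_
      rw [← hD', ← (hperm g hg hgM).1, Subgroup.map_map, show (MulAut.conj (g * a * g⁻¹)).toMonoidHom.comp
        (MulAut.conj g).toMonoidHom = (MulAut.conj g).toMonoidHom.comp (MulAut.conj a).toMonoidHom from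
          MonoidHom.ext fun y => by simp [mul_assoc], ← Subgroup.map_map]
      congr 1
      refine Subgroup.eq_of_le_of_card_ge ?_ (Subgroup.card_map_of_injective (MulAut.conj a).injective).ge
      rintro _ ⟨b, hb, rfl⟩
      exact mem_normalizer_omegaZ_conj (le_normalizer_pCoreOf M ha.1) hb
  obtain ⟨g₁, hg₁N, hg₁M, hg₁η⟩ : ∃ g ∈ Subgroup.normalizer (T : Set G), g ∉ M ∧
      g * η * g⁻¹ ∈ Subgroup.zpowers η := by
    let η' : K := ⟨g₀ * η * g₀⁻¹, hgK g₀ hg₀N η hηK⟩
    have hη'o : orderOf η' = 3 := by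
      rw [← Subgroup.orderOf_coe]
      show orderOf (g₀ * η * g₀⁻¹) = 3
      rw [Involutions.orderOf_conj, hηo]
    obtain ⟨Q', hQ'⟩ := (IsPGroup.of_card (n := 1) (by rw [pow_one, Nat.card_zpowers, hη'o]) :
      IsPGroup 3 (Subgroup.zpowers η')).exists_le_sylow
    obtain ⟨k, hk⟩ := MulAction.exists_smul_eq K Q' Q
    refine ⟨(k : G) * g₀, Subgroup.mul_mem _ k.2.2 hg₀N, fun h1 => hg₀M ?_, ?_⟩
    · simpa using M.mul_mem (M.inv_mem k.2.1) h1
    · have h2 : k * η' * k⁻¹ ∈ (Q : Subgroup K) := by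
        rw [← hk, Sylow.coe_subgroup_smul]
        exact ⟨η', hQ' (Subgroup.mem_zpowers η'), rfl⟩
      have h3 : (Q : Subgroup K) = Subgroup.zpowers ((h : (Q : Subgroup K)) : K) :=
        (Subgroup.eq_of_le_of_card_ge (Subgroup.zpowers_le.2 h.2)
          (by rw [hQc, Nat.card_zpowers, Subgroup.orderOf_coe, hh])).symm
      rw [h3] at h2
      obtain ⟨i, hi⟩ := h2
      refine ⟨i, ?_⟩
      have := congrArg Subtype.val hi
      simpa [η', hη, mul_assoc] using this
  obtain ⟨t, htN, htM, ht2, htη⟩ : ∃ t ∈ Subgroup.normalizer (T : Set G), t ∉ M ∧ orderOf t = 2 ∧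
      t * η * t⁻¹ = η⁻¹ := by
    obtain ⟨k, m, hm, hkm⟩ := Nat.exists_eq_two_pow_mul_odd (orderOf_pos g₁).ne'
    set g₂ := g₁ ^ m with hg₂
    have hsq : g₁ ^ 2 ∈ M := by
      rw [← P.left.loc.maxLoc.normalizer_core]
      refine mem_normalizer_of_map_conj ?_
      rw [pow_two, show (MulAut.conj (g₁ * g₁)).toMonoidHom = (MulAut.conj g₁).toMonoidHom.comp
        (MulAut.conj g₁).toMonoidHom from MonoidHom.ext fun y => by simp [mul_assoc], ← Subgroup.map_map,
        (hperm g₁ hg₁N hg₁M).1, (hperm g₁ hg₁N hg₁M).2]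
    have hg₂M : g₂ ∉ M := by
      obtain ⟨j, hj⟩ := hm
      intro h1
      rw [hg₂, hj, pow_succ, pow_mul] at h1
      exact hg₁M (by simpa using M.mul_mem (M.inv_mem (M.pow_mem hsq j)) h1)
    have hg₂o : orderOf g₂ = 2 ^ k := by
      rw [hg₂, orderOf_pow' _ (fun e => Nat.not_odd_zero (e ▸ hm)), hkm, Nat.gcd_mul_left_left,
        Nat.mul_div_cancel _ (Nat.pos_of_ne_zero fun e => Nat.not_odd_zero (e ▸ hm))]
    have hg₂1 : g₂ ≠ 1 := fun e => hg₂M (e ▸ M.one_mem)
    have hk1 : k ≠ 0 := fun e => hg₂1 (orderOf_eq_one_iff.1 (by rw [hg₂o, e, pow_zero]))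
    have hηinv : ∀ n : ℕ, g₁ ^ n * η * (g₁ ^ n)⁻¹ ∈ Subgroup.zpowers η := by
      intro n
      induction n with
      | zero => simp
      | succ n ih =>
        obtain ⟨i, hi⟩ := ih
        rw [pow_succ', show g₁ * g₁ ^ n * η * (g₁ * g₁ ^ n)⁻¹ = g₁ * (g₁ ^ n * η * (g₁ ^ n)⁻¹) * g₁⁻¹ by group,
          ← hi, ← conj_zpow]
        exact Subgroup.zpow_mem _ hg₁η i
    have hodd : Odd (orderOf η) := hηo ▸ by decide
    have hη1 : η ≠ 1 := fun e => by rw [e, orderOf_one] at hηo; omega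
    have hinv : g₂ * η * g₂⁻¹ = η⁻¹ := by
      obtain ⟨i, hi⟩ := hηinv m
      have h3 : i % 3 = 0 ∨ i % 3 = 1 ∨ i % 3 = 2 := by omega
      simp only at hi
      have h4 : g₂ * η * g₂⁻¹ = η ^ (i % 3) := by
        rw [hg₂, ← hi, ← zpow_mod_orderOf η i, hηo]; rfl
      rcases h3 with e | e | e <;> rw [e] at h4
      · rw [zpow_zero] at h4; exact absurd (conj_eq_one_iff.1 h4) hη1
      · rw [zpow_one, mul_inv_eq_iff_eq_mul] at h4
        exact absurd (hC.cit.eq_one_of_commute (hg₂o ▸ dvd_pow_self 2 hk1) hodd h4) hη1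
      · rw [h4, eq_inv_iff_mul_eq_one, ← zpow_add_one]
        show η ^ ((3 : ℕ) : ℤ) = 1
        rw [zpow_natCast, ← hηo, pow_orderOf_eq_one]
    refine ⟨g₂, Subgroup.pow_mem _ hg₁N m, hg₂M, Involutions.orderOf_eq_two_iff.2 ⟨?_, hg₂1⟩, hinv⟩
    by_contra hne2
    have h5 : Commute (g₂ * g₂) η := by
      show g₂ * g₂ * η = η * (g₂ * g₂)
      calc g₂ * g₂ * η = g₂ * (g₂ * η * g₂⁻¹) * g₂ := by group
        _ = g₂ * η⁻¹ * g₂⁻¹ * g₂ * g₂ := by rw [hinv]; group
        _ = (g₂ * η * g₂⁻¹)⁻¹ * g₂ * g₂ := by group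
        _ = η * (g₂ * g₂) := by rw [hinv, inv_inv, mul_assoc]
    refine hη1 (hC.cit.eq_one_of_commute ?_ hodd h5)
    refine two_dvd_orderOf_of_mem (D := Subgroup.zpowers g₂)
      (IsPGroup.of_card (n := k) (by rw [Nat.card_zpowers, hg₂o])) ?_ hne2
    exact mul_mem (Subgroup.mem_zpowers _) (Subgroup.mem_zpowers _)
  have htt := Involutions.mul_self_eq_one ht2
  have htinv : t⁻¹ = t := Involutions.inv_eq_self ht2
  obtain ⟨htD, htD'⟩ := hperm t htN htM
  have hWt : ∀ a ∈ W, t * a * t⁻¹ ∈ W := fun a ha => normalizer_le_omegaZ htN ha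
  have hWη : ∀ a ∈ W, η * a * η⁻¹ ∈ W := fun a ha => normalizer_le_omegaZ hηK.2 ha
  have hη1 : η ≠ 1 := fun e => by rw [e, orderOf_one] at hηo; omega
  have hWc : Nat.card W = 4 := P.left.card_W
  have hfpfη : ∀ a ∈ W, Commute a η → a = 1 := fun a ha hc =>
    hC.cit.fpf (isPGroup_pCoreOf M) (hWD ha) (hηo ▸ by decide) hη1 hc
  -- the fixed element
  obtain ⟨w, hwW, hwt⟩ : ∃ w ∈ W, t * w * t⁻¹ ≠ w := by
    by_contra! hall
    obtain ⟨⟨w, hw⟩, hw1⟩ : ∃ w : W, w ≠ 1 := Subgroup.ne_bot_iff_exists_ne_one.1 fun e => by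
      rw [e, Subgroup.card_bot] at hWc; omega
    refine hw1 (Subtype.ext (hfpfη w hw ?_))
    have h1 : t * (η * w * η⁻¹) * t⁻¹ = η⁻¹ * (t * w * t⁻¹) * η := by
      rw [show t * (η * w * η⁻¹) * t⁻¹ = (t * η * t⁻¹) * (t * w * t⁻¹) * (t * η * t⁻¹)⁻¹ by group, htη,
        inv_inv]
    rw [hall _ (hWη w hw), hall w hw] at h1
    have h3 : η * η * w = w * (η * η) := by
      calc η * η * w = η * (η * w * η⁻¹) * η := by group
        _ = w * (η * η) := by rw [h1]; group
    have e3 : η * η * η = 1 := by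
      rw [← pow_orderOf_eq_one η, hηo]; simp [pow_succ, mul_assoc]
    have hi : η * η = η⁻¹ := eq_inv_of_mul_eq_one_left e3
    rw [hi] at h3
    exact ((show Commute η⁻¹ w from h3).inv_left.symm : Commute w η⁻¹⁻¹) |> fun e => by rwa [inv_inv] at e
  set w₀ := w * (t * w * t⁻¹) with hw₀
  have hw₀W : w₀ ∈ W := W.mul_mem hwW (hWt w hwW)
  have hWc2 : ∀ a ∈ W, ∀ b ∈ W, a * b = b * a := fun a ha b hb => hb.2.2 a ha.1 |>.symm
  have hww : t * (t * w * t⁻¹) * t⁻¹ = w := by
    rw [show t * (t * w * t⁻¹) * t⁻¹ = (t * t) * w * (t * t)⁻¹ by group, htt]; group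
  have hw₀t : t * w₀ * t⁻¹ = w₀ := by
    rw [hw₀, show t * (w * (t * w * t⁻¹)) * t⁻¹ = (t * w * t⁻¹) * (t * (t * w * t⁻¹) * t⁻¹) by group, hww]
    exact hWc2 _ (hWt w hwW) _ hwW
  have hw₀1 : w₀ ≠ 1 := fun e => hwt (by
    rw [hw₀, mul_eq_one_iff_eq_inv', inv_eq_of_mul_eq_one_right hwW.2.1] at e
    exact e)
  have hfixW : ∀ a ∈ W, t * a * t⁻¹ = a → a = 1 ∨ a = w₀ := by
    intro a ha hat
    by_contra! hh
    classical
    letI : Fintype W := Fintype.ofFinite _
    have hw1 : w ≠ 1 := fun e => hwt (by rw [e]; group)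
    have hws : t * w * t⁻¹ ≠ 1 := fun e => hw1 (conj_eq_one_iff.1 e)
    have hww0 : w ≠ w₀ := fun e => hws (by
      have := mul_eq_left.1 (hw₀ ▸ e.symm : w * (t * w * t⁻¹) = w); exact this)
    have htw0 : t * w * t⁻¹ ≠ w₀ := fun e => hw1 (mul_eq_right.1 (hw₀ ▸ e.symm : w * (t * w * t⁻¹) = t * w * t⁻¹))
    have haw : a ≠ w := fun e => hwt (by rw [← e]; exact hat)
    have hatw : a ≠ t * w * t⁻¹ := fun e => hwt (by
      have h2 : t * a * t⁻¹ = w := by rw [e, hww]
      rw [hat] at h2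
      rw [h2] at e
      exact e.symm)
    have h1 : ({⟨a, ha⟩, ⟨w, hwW⟩, ⟨_, hWt w hwW⟩, ⟨w₀, hw₀W⟩, 1} : Finset W).card ≤ Fintype.card W :=
      Finset.card_le_univ _
    rw [Finset.card_insert_of_notMem, Finset.card_insert_of_notMem, Finset.card_insert_of_notMem,
      Finset.card_insert_of_notMem, Finset.card_singleton, ← Nat.card_eq_fintype_card, hWc] at h1
    · omega
    all_goals simp only [Finset.mem_insert, Finset.mem_singleton, not_or, Subtype.ext_iff, Subgroup.coe_one]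
    · exact hw₀1
    · exact ⟨htw0, hws⟩
    · exact ⟨fun e => hwt e.symm, hww0, hw1⟩
    · exact ⟨haw, hatw, hh.2, hh.1⟩
  -- an element commuting with `t` whose square is `w₀`
  obtain ⟨c, hcT, hct, hc2⟩ : ∃ c ∈ T, Commute c t ∧ c * c = w₀ := by
    obtain ⟨v, hv, hvD'⟩ : ∃ v ∈ D, v ∉ D' := SetLike.not_le_iff_exists.1 fun h1 =>
      P.ne (Subgroup.eq_of_le_of_card_ge h1 (by rw [hDc, hD'c]))
    set v' := t * v * t⁻¹ with hv'
    have hv'D : v' ∈ D' := htD ▸ ⟨v, hv, rfl⟩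
    have hv'nD : v' ∉ D := by
      intro e
      rw [← htD'] at e
      obtain ⟨b, hb, e⟩ := e
      exact hvD' ((MulAut.conj t).injective e ▸ hb)
    have hv2 : v * v = 1 := by rw [← pow_two]; exact (ThompsonJ.isElementaryAbelian_iff.1 hDe).2 v hv
    have hv'2 : v' * v' = 1 := by rw [← pow_two]; exact (ThompsonJ.isElementaryAbelian_iff.1 hD'e).2 v' hv'D
    set z₀ := v' * v * v'⁻¹ * v⁻¹ with hz₀
    have hz₀W : z₀ ∈ W := P.left.comm_mem v' (hD'T hv'D) v (P.core.symm ▸ hv)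
    have hz₀t : t * z₀ * t⁻¹ = z₀ := by
      have h1 : t * z₀ * t⁻¹ = z₀⁻¹ := by
        have e1 : t * v' * t⁻¹ = v := by
          rw [hv', show t * (t * v * t⁻¹) * t⁻¹ = (t * t) * v * (t * t)⁻¹ by group, htt]; group
        rw [hz₀, show t * (v' * v * v'⁻¹ * v⁻¹) * t⁻¹ =
          (t * v' * t⁻¹) * (t * v * t⁻¹) * (t * v' * t⁻¹)⁻¹ * (t * v * t⁻¹)⁻¹ by group, e1, ← hv']
        group
      rw [h1, inv_eq_of_mul_eq_one_right hz₀W.2.1]
    have hz₀1 : z₀ ≠ 1 := by
      intro e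
      rw [hz₀, mul_inv_eq_one, mul_inv_eq_iff_eq_mul] at e
      have h1 := P.left.fix v' (hD'T hv'D) hv'nD v (P.core.symm ▸ hv) e
      exact hvD' (hWD' h1)
    have hz0w : z₀ = w₀ := (hfixW z₀ hz₀W hz₀t).resolve_left hz₀1
    have hcw : ∀ b ∈ T, Commute w b := fun b hb => (hwW.2.2 b hb)
    have hswap : v' * v = w₀ * (v * v') := by
      rw [← hz0w, hz₀, inv_eq_of_mul_eq_one_right hv2, inv_eq_of_mul_eq_one_right hv'2]
      calc v' * v = v' * v * ((v' * (v * v) * v')) := by rw [hv2, mul_one, hv'2, mul_one]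
        _ = v' * v * v' * v * (v * v') := by group
    refine ⟨v * v' * w, T.mul_mem (T.mul_mem (hDT hv) (hD'T hv'D)) hwW.1, ?_, ?_⟩
    · show v * v' * w * t = t * (v * v' * w)
      have e1 : t * v' * t⁻¹ = v := by
        rw [hv', show t * (t * v * t⁻¹) * t⁻¹ = (t * t) * v * (t * t)⁻¹ by group, htt]; group
      have e2 : w₀ * (t * w * t⁻¹) = w := by
        rw [hw₀, mul_assoc, (hWt w hwW).2.1, mul_one]
      calc v * v' * w * t = v * v' * (w₀ * (t * w * t⁻¹)) * t := by rw [e2]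
        _ = (w₀ * (v * v')) * (t * w * t⁻¹) * t := by
            rw [← mul_assoc, (hw₀W.2.2 (v * v') (T.mul_mem (hDT hv) (hD'T hv'D)))]
        _ = (v' * v) * (t * w * t⁻¹) * t := by rw [hswap]
        _ = (t * v * t⁻¹) * (t * v' * t⁻¹) * (t * w * t⁻¹) * t := by rw [e1]
        _ = t * (v * v' * w) := by group
    · have e3 : v * v' * w * (v * v' * w) = v * v' * (v * v') * (w * w) := by
        calc v * v' * w * (v * v' * w) = v * v' * (w * (v * v')) * w := by group
          _ = v * v' * ((v * v') * w) * w := by rw [(hcw _ (T.mul_mem (hDT hv) (hD'T hv'D))).eq]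
          _ = _ := by group
      rw [e3, hwW.2.1, mul_one]
      calc v * v' * (v * v') = v * (v' * v) * v' := by group
        _ = v * (w₀ * (v * v')) * v' := by rw [hswap]
        _ = w₀ * ((v * v) * (v' * v')) := by
            rw [← mul_assoc v w₀, ← hw₀W.2.2 v (hDT hv)]; group
        _ = w₀ := by rw [hv2, hv'2, mul_one, mul_one]
  -- a Sylow subgroup with `T` of index two
  set R₀ := T ⊔ Subgroup.zpowers t with hR₀
  have hR₀p : IsPGroup 2 R₀ := P.left.loc.T_two.to_sup_of_normal_left'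
    (IsPGroup.of_card (n := 1) (by rw [pow_one, Nat.card_zpowers, ht2])) (Subgroup.zpowers_le.2 htN)
  have htR₀ : t ∈ R₀ := le_sup_right (a := T) (Subgroup.mem_zpowers t)
  have htT : t ∉ T := fun h1 => htM (P.left.loc.T_le h1)
  have hform : ∀ a ∈ R₀, a ∈ T ∨ a * t ∈ T := by
    intro a ha
    rw [hR₀, ← SetLike.mem_coe, Subgroup.coe_mul_of_right_le_normalizer_left T (Subgroup.zpowers t)
      (Subgroup.zpowers_le.2 htN)] at ha
    obtain ⟨b, hb, c', hc', rfl⟩ := ha
    obtain ⟨i, rfl⟩ := Subgroup.mem_zpowers_iff.1 hc'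
    obtain ⟨j, rfl | rfl⟩ := Int.even_or_odd' i
    · left; show b * t ^ (2 * j) ∈ T; rw [zpow_mul, zpow_two, htt, one_zpow, mul_one]; exact hb
    · right
      show b * t ^ (2 * j + 1) * t ∈ T
      rw [zpow_add, zpow_one, zpow_mul, zpow_two, htt, one_zpow, one_mul, mul_assoc, htt, mul_one]
      exact hb
  have helemR : ∀ E : Subgroup G, E ≤ R₀ → IsElementaryAbelian 2 E → 16 ≤ Nat.card E → E = D ∨ E = D' := by
    intro E hE hEe hEc
    by_cases hET : E ≤ T
    · exact P.elem E hET hEe hEc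
    exfalso
    obtain ⟨e, he, heT⟩ := SetLike.not_le_iff_exists.1 hET
    have het : e * t ∈ T := (hform e (hE he)).resolve_left heT
    have h1 : E ⊓ T ≤ W := by
      rintro a ⟨haE, haT⟩
      have hc := ThompsonJ.isElementaryAbelian_comm hEe he haE
      have hsw : ∀ {A B : Subgroup G}, T ≤ Subgroup.normalizer (B : Set G) →
          A.map (MulAut.conj t).toMonoidHom = B → a ∈ A → a ∈ B := by
        intro A B hB hAB ha
        have h2 : t * a * t⁻¹ ∈ B := hAB ▸ ⟨a, ha, rfl⟩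
        have h3 := mem_normalizer_omegaZ_conj (hB het) h2
        rwa [show e * t * (t * a * t⁻¹) * (e * t)⁻¹ = e * (t * t) * a * (t * t)⁻¹ * e⁻¹ by group, htt,
          mul_one, inv_one, mul_one, hc, mul_inv_cancel_right] at h3
      have hNT : T ≤ Subgroup.normalizer (D : Set G) := P.left.loc.T_le.trans (le_normalizer_pCoreOf M)
      have hNT' : T ≤ Subgroup.normalizer (D' : Set G) := P.right.loc.T_le.trans (le_normalizer_pCoreOf M')
      rw [hW, ← P.inf]
      rcases P.invol a haT (by rw [← pow_two]; exact (ThompsonJ.isElementaryAbelian_iff.1 hEe).2 a haE) with h | h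
      · exact ⟨h, hsw hNT' htD h⟩
      · exact ⟨hsw hNT htD' h, h⟩
    have h2 := Subgroup.card_le_of_le h1
    have h3 : Nat.card E ≤ 2 * Nat.card ↥(E ⊓ T) := card_le_two_mul fun a ha b hb haT hbT => by
      have e1 := (hform a (hE ha)).resolve_left haT
      have e2 := (hform b (hE hb)).resolve_left hbT
      have h5 := T.mul_mem e1 (mem_normalizer_omegaZ_conj htN e2)
      rwa [show a * t * (t * (b * t) * t⁻¹) = a * (t * t) * b by group, htt, mul_one] at h5
    omega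
  obtain ⟨S, hS⟩ := hR₀p.exists_le_sylow
  have hSR : (S : Subgroup G) = R₀ := by
    by_contra hne2
    obtain ⟨y, hyS, hyN, hyR⟩ := exists_normalizer_notMem S.2 (lt_of_le_of_ne hS (Ne.symm hne2))
    have him : ∀ E : Subgroup G, E ≤ R₀ → E.map (MulAut.conj y).toMonoidHom ≤ R₀ := by
      rintro E hE _ ⟨a, ha, rfl⟩
      exact mem_normalizer_omegaZ_conj hyN (hE ha)
    have h1 := helemR _ (him D (hDT.trans le_sup_left)) (ThompsonJ.isElementaryAbelian_map hDe _)
      (by rw [Subgroup.card_map_of_injective (MulAut.conj y).injective, hDc])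
    have h2 := helemR _ (him D' (hD'T.trans le_sup_left)) (ThompsonJ.isElementaryAbelian_map hD'e _)
      (by rw [Subgroup.card_map_of_injective (MulAut.conj y).injective, hD'c])
    have hne' : D.map (MulAut.conj y).toMonoidHom ≠ D'.map (MulAut.conj y).toMonoidHom :=
      fun e => P.ne (Subgroup.map_injective (f := (MulAut.conj y).toMonoidHom) (MulAut.conj y).injective e)
    have hyT : y ∈ Subgroup.normalizer (T : Set G) := by
      refine mem_normalizer_of_map_conj ?_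
      rw [← P.sup, Subgroup.map_sup]
      rcases h1 with e1 | e1 <;> rcases h2 with e2 | e2
      · exact absurd (e1.trans e2.symm) hne'
      · rw [e1, e2]
      · rw [e1, e2, sup_comm]
      · exact absurd (e1.trans e2.symm) hne'
    by_cases hyM : y ∈ M
    · exact hyR (le_sup_left (b := Subgroup.zpowers t)
        (P.left.loc.mem_of_normalizer S.2 (le_sup_left.trans hS) hyS hyM))
    · have h5 : t * y ∈ M := by
        rw [← P.left.loc.maxLoc.normalizer_core]
        refine mem_normalizer_of_map_conj ?_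
        rw [show (MulAut.conj (t * y)).toMonoidHom = (MulAut.conj t).toMonoidHom.comp
          (MulAut.conj y).toMonoidHom from MonoidHom.ext fun b => by simp [mul_assoc], ← Subgroup.map_map,
          (hperm y hyT hyM).1, htD']
      have h6 := P.left.loc.mem_of_normalizer S.2 (le_sup_left.trans hS) (mul_mem (hS htR₀) hyS) h5
      refine hyR ?_
      have h7 : y = t * (t * y) := by rw [← mul_assoc, htt, one_mul]
      rw [h7]
      exact mul_mem htR₀ (le_sup_left (b := Subgroup.zpowers t) h6)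
  -- transfer
  have hR₀c : Nat.card R₀ = 2 * Nat.card T := by
    refine le_antisymm ((card_le_two_mul (H := T) (K := R₀) fun a ha b hb haT hbT => ?_).trans ?_)
      (two_mul_card_le (lt_of_le_of_ne le_sup_left fun e => htT (e ▸ htR₀)))
    · have e1 := (hform a ha).resolve_left haT
      have e2 := (hform b hb).resolve_left hbT
      have h5 := T.mul_mem e1 (mem_normalizer_omegaZ_conj htN e2)
      rwa [show a * t * (t * (b * t) * t⁻¹) = a * (t * t) * b by group, htt, mul_one] at h5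
    · rw [inf_eq_right.2 (le_sup_left : T ≤ R₀)]
  have hTidx : T.index % 4 = 2 := by
    have h1 := (S : Subgroup G).index_mul_card
    rw [hSR, hR₀c, ← T.index_mul_card, ← mul_assoc] at h1
    have h2 := Nat.eq_of_mul_eq_mul_right Nat.card_pos h1
    have h3 := S.not_dvd_index
    rw [hSR] at h3
    omega
  obtain ⟨g, hg⟩ : ∃ g : G, g * t * g⁻¹ ∈ T := by
    by_contra! hall
    obtain ⟨K', hK'⟩ := Involutions.exists_index_two_of_involution_not_conj ht2 hTidx hall
    have := hC.simple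
    rcases (Subgroup.normal_of_index_eq_two hK').eq_bot_or_eq_top with e | e
    · rw [e, Subgroup.index_bot] at hK'
      exact hC.not_two_group (IsPGroup.of_card (n := 1) (by rw [hK', pow_one]))
    · rw [e, Subgroup.index_top] at hK'
      omega
  have hu2 : orderOf (g * t * g⁻¹) = 2 := by rw [Involutions.orderOf_conj, ht2]
  obtain ⟨x, hxW, hx1, hxt⟩ : ∃ x ∈ W, x ≠ 1 ∧ IsConj t x := by
    have key : ∀ {N : Subgroup G}, E2Data N T 4 → omegaZ (pCoreOf 2 N) = pCoreOf 2 N →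
        g * t * g⁻¹ ∈ pCoreOf 2 N → ∃ x ∈ W, x ≠ 1 ∧ IsConj t x := by
      intro N hN eN hmem
      obtain ⟨m, -, hm⟩ := hN.fuse _ (eN.symm ▸ hmem)
      refine ⟨_, hm, fun e => Involutions.ne_one hu2 (conj_eq_one_iff.1 e), isConj_iff.2 ⟨m * g, ?_⟩⟩
      group
    rcases P.invol _ hg (Involutions.mul_self_eq_one hu2) with h | h
    · exact key P.left P.core h
    · exact key P.right P.core' h
  have hconjW : IsConj x w₀ := by
    classical
    letI : Fintype W := Fintype.ofFinite _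
    by_contra hnc
    have hη3 : η * η * η = 1 := by rw [← pow_orderOf_eq_one η, hηo]; simp [pow_succ, mul_assoc]
    have hd1 : η * x * η⁻¹ ≠ x := fun e => hx1 (hfpfη x hxW (mul_inv_eq_iff_eq_mul.1 e).symm)
    have hd2 : η * (η * x * η⁻¹) * η⁻¹ ≠ η * x * η⁻¹ := fun e => hd1 (by simpa using e)
    have hd3 : η * (η * x * η⁻¹) * η⁻¹ ≠ x := by
      intro e
      apply hd1
      calc η * x * η⁻¹ = η * (η * (η * x * η⁻¹) * η⁻¹) * η⁻¹ := by rw [e]
        _ = (η * η * η) * x * (η * η * η)⁻¹ := by group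
        _ = x := by rw [hη3]; group
    have h1 : ({(1 : W), ⟨x, hxW⟩, ⟨_, hWη x hxW⟩, ⟨_, hWη _ (hWη x hxW)⟩, ⟨w₀, hw₀W⟩} : Finset W).card ≤
        Fintype.card W := Finset.card_le_univ _
    rw [Finset.card_insert_of_notMem, Finset.card_insert_of_notMem, Finset.card_insert_of_notMem,
      Finset.card_insert_of_notMem, Finset.card_singleton, ← Nat.card_eq_fintype_card, hWc] at h1
    · omega
    all_goals simp only [Finset.mem_insert, Finset.mem_singleton, not_or, Subtype.ext_iff, Subgroup.coe_one]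
    · exact fun e => hnc (isConj_iff.2 ⟨η * η, by rw [← e]; group⟩)
    · exact ⟨Ne.symm hd2, fun e => hnc (isConj_iff.2 ⟨η, e⟩)⟩
    · exact ⟨Ne.symm hd1, Ne.symm hd3, fun e => hnc (e ▸ IsConj.refl x)⟩
    · refine ⟨Ne.symm hx1, fun e => hx1 ?_, fun e => hx1 ?_, Ne.symm hw₀1⟩
      · exact conj_eq_one_iff.1 e.symm
      · exact conj_eq_one_iff.1 (conj_eq_one_iff.1 e.symm)
  obtain ⟨y, hy⟩ := isConj_iff.1 (hxt.trans hconjW)
  have hw₀o : orderOf w₀ = 2 := Involutions.orderOf_eq_two_iff.2 ⟨hw₀W.2.1, hw₀1⟩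
  have hC₀ : Subgroup.centralizer ({w₀} : Set G) = R₀ := by
    rw [← hSR]
    refine S.3 (hC.cit w₀ hw₀o) fun a ha => ?_
    rw [hSR] at ha
    rw [Subgroup.mem_centralizer_singleton_iff]
    have h1 : t * w₀ = w₀ * t := mul_inv_eq_iff_eq_mul.1 hw₀t
    rcases hform a ha with h | h
    · exact (hw₀W.2.2 a h).symm
    · have h2 : Commute w₀ (a * t * t) := (show Commute w₀ (a * t) from hw₀W.2.2 _ h).mul_right h1.symm
      rw [mul_assoc, htt, mul_one] at h2
      exact h2.eq.symm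
  -- the square `w₀` of `c` in the conjugate of `T`
  have hcR : y * c * y⁻¹ ∈ R₀ := by
    rw [← hC₀, Subgroup.mem_centralizer_singleton_iff, ← hy]
    calc y * c * y⁻¹ * (y * t * y⁻¹) = y * (c * t) * y⁻¹ := by group
      _ = y * (t * c) * y⁻¹ := by rw [hct.eq]
      _ = _ := by group
  have hw₁T : y * w₀ * y⁻¹ ∈ T := by
    rw [← hc2, show y * (c * c) * y⁻¹ = (y * c * y⁻¹) * (y * c * y⁻¹) by group]
    rcases hform _ hcR with h | h
    · exact T.mul_mem h h
    · have h5 := T.mul_mem h (mem_normalizer_omegaZ_conj htN h)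
      rwa [show ∀ a : G, a * t * (t * (a * t) * t⁻¹) = a * (t * t) * a from fun a => by group, htt,
        mul_one] at h5
  have key2 : ∀ {N : Subgroup G}, omegaZ (pCoreOf 2 N) = pCoreOf 2 N → Nat.card (pCoreOf 2 N) = 16 →
      pCoreOf 2 N ≤ T → w₀ ∈ pCoreOf 2 N → y * w₀ * y⁻¹ ∈ pCoreOf 2 N → False := by
    intro N eN hNc hNT hw0 hmem
    set E := (pCoreOf 2 N).map (MulAut.conj y⁻¹).toMonoidHom
    have hEe : IsElementaryAbelian 2 E := ThompsonJ.isElementaryAbelian_map (eN ▸ E2Data.isElem_omega N) _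
    have hw0E : w₀ ∈ E := ⟨_, hmem, by simp [mul_assoc]⟩
    have htE : t ∈ E := ⟨w₀, hw0, by
      simp only [MulEquiv.coe_toMonoidHom, MulAut.conj_apply, ← hy]; group⟩
    have hER : E ≤ R₀ := by
      rw [← hC₀]
      intro b hb
      rw [Subgroup.mem_centralizer_singleton_iff]
      exact ThompsonJ.isElementaryAbelian_comm hEe hb hw0E
    rcases helemR E hER hEe (by rw [Subgroup.card_map_of_injective (MulAut.conj y⁻¹).injective, hNc]) with e | e
    · exact htT (hDT (e ▸ htE))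
    · exact htT (hD'T (e ▸ htE))
  rcases P.invol _ hw₁T (by
      rw [show y * w₀ * y⁻¹ * (y * w₀ * y⁻¹) = y * (w₀ * w₀) * y⁻¹ by group, hw₀W.2.1]; group) with h | h
  · exact key2 P.core hDc hDT (hWD hw₀W) h
  · exact key2 P.core' hD'c hD'T (hWD' hw₀W) h

end CfsgLib.CIT
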