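import Cfsg.Agent.Lib.CIT.E2

/-!
Two maximal 2-locals sharing a Sylow 2-subgroup.
-/

set_option autoImplicit false

open Cfsg CfsgLib.PrimeElementOrders

namespace CfsgLib.CIT

universe u

variable {G : Type u} [Group G] [Finite G]

theorem thompson_ne_bot {M T : Subgroup G} (h : LocData M T) : thompsonSubgroupOf 2 T ≠ ⊥ := by
  have : Fact (Nat.Prime 2) := ⟨Nat.prime_two⟩
  obtain ⟨⟨a, ha⟩, hne⟩ := Subgroup.ne_bot_iff_exists_ne_one.1 h.maxLoc.core_ne_bot
  exact ThompsonJ.thompsonSubgroupOf_ne_bot ((CIT.two_dvd_orderOf_of_mem h.T_two (h.core_le ha)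
    (fun e => hne (Subtype.ext e))).trans (Subgroup.orderOf_dvd_natCard T (h.core_le ha)))

theorem normalizer_thompson_eq {M T : Subgroup G} (h : LocData M T)
    (hJ : thompsonSubgroupOf 2 T ≤ pCoreOf 2 M) :
    Subgroup.normalizer (thompsonSubgroupOf 2 T : Set G) = M := by
  refine h.maxLoc.normalizer_eq (h.T_two.to_le (ThompsonJ.thompsonSubgroupOf_le 2 T))
    (thompson_ne_bot h) ?_
  rw [← ThompsonJ.thompsonSubgroupOf_eq_of_le h.core_le hJ]
  exact (le_normalizer_pCoreOf M).trans (ThompsonJ.normalizer_le_normalizer_thompsonSubgroupOf 2 _)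

omit [Finite G] in
/-- An element of the Sylow subgroup normalising `T` inside `M` lies in `T`. -/
theorem LocData.mem_of_normalizer {M T R : Subgroup G} (h : LocData M T) (hR : IsPGroup 2 R)
    (hTR : T ≤ R) {g : G} (hgR : g ∈ R) (hgM : g ∈ M) : g ∈ T := by
  have h2 := h.T_max _ (hR.to_le (sup_le hTR (Subgroup.zpowers_le.2 hgR))) le_sup_left
    (sup_le h.T_le (Subgroup.zpowers_le.2 hgM))
  exact h2 ▸ le_sup_right (a := T) (Subgroup.mem_zpowers g)

/-- With `J(T) ≤ D` the subgroup `T` is a Sylow subgroup. -/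
theorem sylow_of_thompson_le {M T : Subgroup G} (h : LocData M T)
    (hJ : thompsonSubgroupOf 2 T ≤ pCoreOf 2 M) {R : Subgroup G} (hR : IsPGroup 2 R) (hTR : T ≤ R) :
    R = T := by
  by_contra hne
  obtain ⟨g, hgR, hgN, hgT⟩ := exists_normalizer_notMem hR (lt_of_le_of_ne hTR (Ne.symm hne))
  exact hgT (h.mem_of_normalizer hR hTR hgR
    (normalizer_thompson_eq h hJ ▸ ThompsonJ.normalizer_le_normalizer_thompsonSubgroupOf 2 T hgN))

theorem eq_of_thompson {M M' T : Subgroup G} (h : LocData M T) (h' : LocData M' T)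
    (hJ : thompsonSubgroupOf 2 T ≤ pCoreOf 2 M) (hJ' : thompsonSubgroupOf 2 T ≤ pCoreOf 2 M') :
    M = M' := by
  rw [← normalizer_thompson_eq h hJ, normalizer_thompson_eq h' hJ']

variable (hC : Ctx G)

include hC

/-- An E2-local and a local with `J(T) ≤ D` do not share `T`. -/
theorem E2Data.not_thompson {M M' T : Subgroup G} {q : ℕ} (h : E2Data M T q) (h' : LocData M' T)
    (hJ : thompsonSubgroupOf 2 T ≤ pCoreOf 2 M') : False := by
  set D := pCoreOf 2 M
  set V' := omegaZ (pCoreOf 2 M')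
  obtain ⟨A, hA, hAD⟩ := h.offender
  obtain ⟨a, haA, haD⟩ := SetLike.not_le_iff_exists.1 hAD
  have hV := (ThompsonJ.le_thompsonSubgroupOf h.isMaxEA).trans hJ
  -- `V'` centralises `V`, hence lies in `D`
  have hV'T : V' ≤ T := (omegaZ_le _).trans h'.core_le
  have hV'D : ∀ v ∈ V', v ∈ D := by
    intro v hv
    by_contra hvD
    have h2 : omegaZ D ≤ omegaZ T := fun a ha =>
      h.fix v (hV'T hv) hvD a ha (hv.2.2 a (hV ha))
    have h3 := Subgroup.card_le_of_le h2
    rw [h.card_V, h.card_W] at h3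
    nlinarith [h.four_le]
  have hV'le : V' ≤ omegaZ D := fun v hv => h.mem_omega (hV'D v hv) hv.2.1
  have h4 : ∀ v ∈ V', v ∈ omegaZ T := fun v hv =>
    h.fix a (hA.le haA) haD v (hV'le hv)
      (hv.2.2 a ((ThompsonJ.le_thompsonSubgroupOf hA).trans hJ haA)).symm
  refine h'.ne (le_antisymm (fun t ht => ?_) h'.core_le)
  exact hC.mem_core_of_commute h'.maxLoc (h'.T_le ht) fun v hv => ((h4 v hv).2.2 t ht).symm

/-- A local with `|Ω₁Z(D)| ≤ 4` has at most two central elements of order at most two in `T`. -/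
theorem LocData.center_le_two {M T : Subgroup G} (h : LocData M T)
    (h4 : Nat.card (omegaZ (pCoreOf 2 M)) ≤ 4) : Nat.card (omegaZ T) ≤ 2 := by
  obtain ⟨τ, hτ, hτD⟩ := h.exists_notMem
  have h1 := h.sq_le_omega hC hτ hτD (h.omegaZ_T_le hC) fun a ha => ha.2.2 τ hτ
  nlinarith

/-- Small and cyclic locals do not share `T`. -/
theorem CycData.not_small {M₁ M T : Subgroup G} {x₁ s₁ : G} (h₁ : Local1 M₁ 3 x₁ s₁ T 1)
    (hW₁ : Nat.card (omegaZ (pCoreOf 2 M₁)) ≤ 4) (h : CycData M T) : False := by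
  set D₁ := pCoreOf 2 M₁ with hD₁
  set D := pCoreOf 2 M with hD
  set V := omegaZ D with hVdef
  obtain ⟨n, hn1, hn⟩ := h.loc.exists_sq hC
  have h16 : 16 ≤ Nat.card V := by
    have := h.big
    rcases n with _ | _ | n
    · omega
    · rw [hn] at this; norm_num at this
    · rw [hn]
      calc 16 = (2 ^ 2) ^ 2 := by norm_num
        _ ≤ _ := Nat.pow_le_pow_left (Nat.pow_le_pow_right two_pos (by omega)) 2
  have hne₁ : T ≠ D₁ := fun e => h₁.s_notMem (e.le h₁.s_mem)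
  have hZ : Nat.card (omegaZ T) ≤ 2 :=
    LocData.center_le_two hC ⟨h₁.maxLoc, h₁.T_le, h₁.T_two, h₁.T_max, hne₁⟩ hW₁
  have hVT : V ≤ T := (omegaZ_le _).trans h.loc.core_le
  obtain ⟨s, hsT, hgen⟩ := h.gen
  have hsD : s ∉ D := by
    intro hs
    obtain ⟨τ, hτ, hτD⟩ := h.loc.exists_notMem
    obtain ⟨i, hi⟩ := hgen τ hτ
    exact hτD (by simpa using D.mul_mem (D.pow_mem hs i) hi)
  have hconjV : ∀ a ∈ T, ∀ v ∈ V, a * v * a⁻¹ ∈ V := fun a ha v hv =>
    normalizer_le_omegaZ (le_normalizer_pCoreOf M (h.loc.T_le ha)) hv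
  -- elements centralised by `s`
  have hfix : ∀ a ∈ T, (∀ τ ∈ T, ∃ i : ℕ, (a ^ i)⁻¹ * τ ∈ D) →
      ∀ v ∈ V, Commute a v → v ∈ omegaZ T := by
    intro a _ hga v hv hc
    refine ⟨h.loc.core_le hv.1, hv.2.1, fun τ hτ => ?_⟩
    obtain ⟨i, hi⟩ := hga τ hτ
    have := (hc.symm.pow_right i).mul_right (show Commute v ((a ^ i)⁻¹ * τ) from hv.2.2 _ hi)
    rw [mul_inv_cancel_left] at this
    exact this.eq
  -- the second kernel of `1 + a`
  have hker2 : ∀ a ∈ T, (∀ τ ∈ T, ∃ i : ℕ, (a ^ i)⁻¹ * τ ∈ D) → ∀ A ≤ V,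
      (∀ v ∈ A, Commute a (a * v * a⁻¹ * v⁻¹)) → Nat.card A ≤ 4 := by
    intro a ha hga A hA hc
    let f : A →* omegaZ T :=
      { toFun := fun v => ⟨a * v * a⁻¹ * (v : G)⁻¹, hfix a ha hga _
          (V.mul_mem (hconjV a ha _ (hA v.2)) (V.inv_mem (hA v.2))) (hc v v.2)⟩
        map_one' := Subtype.ext (by simp)
        map_mul' := fun u v => Subtype.ext (by
          show a * (u * v : G) * a⁻¹ * ((u : G) * v)⁻¹ =
            (a * u * a⁻¹ * (u : G)⁻¹) * (a * v * a⁻¹ * (v : G)⁻¹)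
          have e1 : (a * v * a⁻¹) * (u : G)⁻¹ = (u : G)⁻¹ * (a * v * a⁻¹) :=
            (hconjV a ha _ (hA v.2)).2.2 _ (D.inv_mem (hA u.2).1)
          calc a * (u * v : G) * a⁻¹ * ((u : G) * v)⁻¹
              = (a * u * a⁻¹) * ((a * v * a⁻¹) * ((v : G)⁻¹ * (u : G)⁻¹)) := by group
            _ = (a * u * a⁻¹) * ((a * v * a⁻¹) * ((u : G)⁻¹ * (v : G)⁻¹)) := by
                rw [(hA v.2).2.2 _ (hA u.2).1 |> fun e => show (v : G)⁻¹ * (u : G)⁻¹ = (u : G)⁻¹ * (v : G)⁻¹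
                  by rw [← mul_inv_rev, ← mul_inv_rev, e]]
            _ = (a * u * a⁻¹) * (((a * v * a⁻¹) * (u : G)⁻¹) * (v : G)⁻¹) := by group
            _ = _ := by rw [e1]; group) }
    have hk : Nat.card f.ker ≤ 2 := by
      refine le_trans (Nat.card_le_card_of_injective (fun v => (⟨((v : A) : G), ?_⟩ : omegaZ T)) ?_) hZ
      · refine hfix a ha hga _ (hA (v : A).2) ?_
        have h2 : a * ((v : A) : G) * a⁻¹ * ((v : A) : G)⁻¹ = 1 := congrArg Subtype.val v.2
        rw [mul_inv_eq_one, mul_inv_eq_iff_eq_mul] at h2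
        exact h2
      · exact fun u v e => Subtype.ext (Subtype.ext (congrArg Subtype.val e :))
    have h1 : Nat.card f.ker * Nat.card f.range = Nat.card A := by
      rw [← Subgroup.index_ker, Subgroup.card_mul_index]
    have h2 := Subgroup.card_le_card_group f.range
    calc Nat.card A = Nat.card f.ker * Nat.card f.range := h1.symm
      _ ≤ 2 * 2 := Nat.mul_le_mul hk (h2.trans hZ)
  have hhalf : Nat.card V ≤ 2 * Nat.card ↥(V ⊓ D₁) :=
    card_le_two_mul fun a ha b hb => h₁.mul_mem_core (hVT ha) (hVT hb)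
  -- no generator lies in `D₁`
  have hnogen : ∀ a ∈ T, a ∈ D₁ → (∀ τ ∈ T, ∃ i : ℕ, (a ^ i)⁻¹ * τ ∈ D) → False := by
    intro a ha haD₁ hga
    have := hker2 a ha hga (V ⊓ D₁) inf_le_left fun v hv => (h₁.commutator_central hv.2 haD₁ haD₁).symm
    omega
  have hs₁ : s ∉ D₁ := fun hs => hnogen s hsT hs hgen
  by_cases hDD : D ≤ D₁
  swap
  · obtain ⟨d, hd, hd₁⟩ := SetLike.not_le_iff_exists.1 hDD
    refine hnogen (s * d) (T.mul_mem hsT (h.loc.core_le hd))
      (h₁.mul_mem_core hsT (h.loc.core_le hd) hs₁ hd₁) fun τ hτ => ?_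
    obtain ⟨i, hi⟩ := hgen τ hτ
    refine ⟨i, ?_⟩
    have hn : (s : G) ∈ Subgroup.normalizer (D : Set G) := le_normalizer_pCoreOf M (h.loc.T_le hsT)
    have key : ∀ j : ℕ, (s ^ j)⁻¹ * (s * d) ^ j ∈ D := by
      intro j
      induction j with
      | zero => simp
      | succ j ih =>
        have e : (s ^ (j + 1))⁻¹ * (s * d) ^ (j + 1) = (s⁻¹ * ((s ^ j)⁻¹ * (s * d) ^ j) * s) * d := by
          rw [pow_succ, pow_succ]; group
        rw [e]
        exact D.mul_mem ((Subgroup.mem_normalizer_iff''.1 hn _).1 ih) hd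
    have := D.mul_mem (D.inv_mem (key i)) hi
    simpa [mul_assoc] using this
  -- `D ≤ D₁` and `s ∉ D₁`
  have hu : s * s ∈ D₁ := h₁.mul_mem_core hsT hsT hs₁ hs₁
  have hVD₁ : V ≤ D₁ := (omegaZ_le _).trans hDD
  have hnotW₁ : ∀ {A : Subgroup G}, A ≤ V → (∀ a ∈ A, ∀ b ∈ D₁, Commute a b) → Nat.card A ≤ 4 :=
    fun {A} hA hcen => le_trans (Subgroup.card_le_of_le (show A ≤ omegaZ D₁ from fun a ha =>
      ⟨hVD₁ (hA ha), (hA ha).2.1, fun b hb => hcen a ha b hb⟩)) hW₁
  by_cases hs4 : s ^ 4 ∈ D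
  · -- `D` has index at most two in `D₁`
    have hidx : ∀ e ∈ D₁, ∀ e' ∈ D₁, e ∉ D → e' ∉ D → e * e' ∈ D := by
      intro e he e' he' heD he'D
      have hform : ∀ e ∈ D₁, e ∉ D → (s * s)⁻¹ * e ∈ D := by
        intro e he heD
        obtain ⟨i, hi⟩ := hgen e (h₁.core_le he)
        have hs4' : ∀ j : ℕ, s ^ (4 * j) ∈ D := fun j => by rw [pow_mul]; exact D.pow_mem hs4 j
        obtain ⟨j, hj⟩ : ∃ j, i = 4 * j ∨ i = 4 * j + 1 ∨ i = 4 * j + 2 ∨ i = 4 * j + 3 :=
          ⟨i / 4, by omega⟩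
        rcases hj with rfl | rfl | rfl | rfl
        · exact absurd (by simpa using D.mul_mem (hs4' j) hi) heD
        · refine absurd ?_ hs₁
          have h4j : s ^ (4 * j) ∈ D₁ := by
            rw [show 4 * j = 2 * (2 * j) by ring, pow_mul, pow_two]; exact D₁.pow_mem hu _
          have h5 := D₁.mul_mem he (D₁.inv_mem (hDD hi))
          rw [mul_inv_rev, inv_inv, mul_inv_cancel_left, pow_succ'] at h5
          simpa using D₁.mul_mem h5 (D₁.inv_mem h4j)
        · have e1 : (s * s)⁻¹ * e = s ^ (4 * j) * ((s ^ (4 * j + 2))⁻¹ * e) := by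
            rw [add_comm (4 * j) 2, pow_add, pow_two]; group
          rw [e1]
          exact D.mul_mem (hs4' j) hi
        · refine absurd ?_ hs₁
          have h4j : s ^ (4 * j + 2) ∈ D₁ := by
            rw [show 4 * j + 2 = 2 * (2 * j + 1) by ring, pow_mul, pow_two]; exact D₁.pow_mem hu _
          have h5 := D₁.mul_mem he (D₁.inv_mem (hDD hi))
          rw [mul_inv_rev, inv_inv, mul_inv_cancel_left, show 4 * j + 3 = (4 * j + 2) + 1 from rfl,
            pow_succ'] at h5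
          simpa using D₁.mul_mem h5 (D₁.inv_mem h4j)
      have hn : s * s ∈ Subgroup.normalizer (D : Set G) :=
        le_normalizer_pCoreOf M (h.loc.T_le (T.mul_mem hsT hsT))
      have e1 : e * e' = ((s * s) * ((s * s)⁻¹ * e) * (s * s)⁻¹) * (s ^ 4 * ((s * s)⁻¹ * e')) := by
        rw [show s ^ 4 = (s * s) * (s * s) by simp [pow_succ, mul_assoc]]; group
      rw [e1]
      exact D.mul_mem ((Subgroup.mem_normalizer_iff.1 hn _).1 (hform e he heD))
        (D.mul_mem hs4 (hform e' he' he'D))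
    have := hnotW₁ le_rfl fun a ha b hb => h₁.mem_center_of_index_two (hVD₁ ha)
      (fun e he e' he' h1 h2 => ha.2.2 _ (hidx e he e' he' (fun h3 => h1 (ha.2.2 e h3))
        (fun h3 => h2 (ha.2.2 e' h3)))) b hb
    omega
  · -- `s ^ 4` centralises `V`
    refine hs4 (hC.mem_core_of_commute h.loc.maxLoc (h.loc.T_le (T.pow_mem hsT 4)) fun v hv => ?_)
    have hc := h₁.commutator_central (hVD₁ hv) hu hu
    set w := s * s * v * (s * s)⁻¹ * v⁻¹ with hw
    have hwV : w ∈ V := V.mul_mem (hconjV _ (T.mul_mem hsT hsT) _ hv) (V.inv_mem hv)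
    have e : s ^ 4 * v * (s ^ 4)⁻¹ = v := by
      rw [show s ^ 4 = (s * s) * (s * s) by simp [pow_succ, mul_assoc]]
      generalize hu' : s * s = u at *
      have e1 : u * v * u⁻¹ = w * v := by rw [hw]; group
      calc u * u * v * (u * u)⁻¹ = u * (u * v * u⁻¹) * u⁻¹ := by group
        _ = u * (w * v) * u⁻¹ := by rw [e1]
        _ = (u * w) * (v * u⁻¹) := by group
        _ = w * (u * v * u⁻¹) := by rw [← hc]; group
        _ = v := by rw [e1, ← mul_assoc, hwV.2.1, one_mul]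
    exact mul_inv_eq_iff_eq_mul.1 e

end CfsgLib.CIT
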