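import Cfsg.Agent.Lib.CIT.Types

/-!
Elementary abelian sections of the core as modules for the quotient by the core.
-/

set_option autoImplicit false

open Cfsg CfsgLib.PrimeElementOrders

namespace CfsgLib.CIT

universe u

variable {G : Type u} [Group G]

/-- The kernel of the section `Y / N`, killing also the squares. -/
def sectKer (Y N : Subgroup G) : Subgroup Y :=
  Subgroup.normalClosure ((N.subgroupOf Y : Set Y) ∪ Set.range (fun y : Y => y * y))

instance sectKerNormal (Y N : Subgroup G) : (sectKer Y N).Normal := Subgroup.normalClosure_normal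

/-- The section `Y / N`. -/
abbrev SectT (Y N : Subgroup G) : Type u := ↥Y ⧸ sectKer Y N

theorem sectT_sq (Y N : Subgroup G) (a : SectT Y N) : a * a = 1 := by
  obtain ⟨y, rfl⟩ := QuotientGroup.mk_surjective a
  rw [← QuotientGroup.mk_mul, QuotientGroup.eq_one_iff]
  exact Subgroup.subset_normalClosure (Or.inr ⟨y, rfl⟩)

instance sectTCommGroup (Y N : Subgroup G) : CommGroup (SectT Y N) :=
  { (inferInstance : Group (SectT Y N)) with
    mul_comm := fun a b => by
      have h := fun c : SectT Y N => inv_eq_of_mul_eq_one_right (sectT_sq Y N c)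
      calc a * b = (a * b)⁻¹ := (h _).symm
        _ = b⁻¹ * a⁻¹ := mul_inv_rev a b
        _ = b * a := by rw [h, h] }

/-- `Y / N` is an elementary abelian section of the core, centralised by it and invariant in `M`. -/
structure Sect (M Y N : Subgroup G) : Prop where
  le : N ≤ Y
  Y_le : Y ≤ pCoreOf 2 M
  normY : M ≤ Subgroup.normalizer (Y : Set G)
  normN : M ≤ Subgroup.normalizer (N : Set G)
  sq : ∀ y ∈ Y, y * y ∈ N
  cent : ∀ y ∈ Y, ∀ d ∈ pCoreOf 2 M, d * y * d⁻¹ * y⁻¹ ∈ N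

namespace Sect

variable {M Y N : Subgroup G}

theorem sectKer_eq (h : Sect M Y N) : sectKer Y N = N.subgroupOf Y := by
  have : (N.subgroupOf Y).Normal :=
    Subgroup.normal_subgroupOf_of_le_normalizer ((h.Y_le.trans (pCoreOf_le M)).trans h.normN)
  refine le_antisymm (Subgroup.normalClosure_le_normal ?_)
    (fun a ha => Subgroup.subset_normalClosure (Or.inl ha))
  rintro a (ha | ⟨y, rfl⟩)
  · exact ha
  · exact h.sq _ y.2

theorem mk_eq_one (h : Sect M Y N) (y : Y) :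
    (QuotientGroup.mk y : SectT Y N) = 1 ↔ (y : G) ∈ N := by
  rw [QuotientGroup.eq_one_iff, h.sectKer_eq, Subgroup.mem_subgroupOf]

theorem mk_eq_mk (h : Sect M Y N) (a b : Y) :
    (QuotientGroup.mk a : SectT Y N) = QuotientGroup.mk b ↔ (a : G) * (b : G)⁻¹ ∈ N := by
  rw [← mul_inv_eq_one, ← QuotientGroup.mk_inv, ← QuotientGroup.mk_mul, h.mk_eq_one]
  rfl

/-- Conjugation by an element of `M` on the section. -/
def conjHom (h : Sect M Y N) (m : M) : SectT Y N →* SectT Y N :=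
  QuotientGroup.map (sectKer Y N) (sectKer Y N)
    ((Subgroup.normalizerMonoidHom Y (Subgroup.inclusion h.normY m)).toMonoidHom) (by
      rw [h.sectKer_eq]
      intro y hy
      exact (Subgroup.mem_normalizer_iff.1 (h.normN m.2) _).1 hy)

theorem conjHom_mk (h : Sect M Y N) (m : M) (y : Y) :
    h.conjHom m (QuotientGroup.mk y) =
      QuotientGroup.mk (Subgroup.normalizerMonoidHom Y (Subgroup.inclusion h.normY m) y) := rfl

/-- The action of `M` on the section. -/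
@[reducible] def actM (h : Sect M Y N) : MulDistribMulAction M (SectT Y N) where
  smul m a := h.conjHom m a
  one_smul a := QuotientGroup.induction_on a fun y => by
    show h.conjHom 1 (QuotientGroup.mk y) = _
    rw [conjHom_mk, map_one, map_one]; rfl
  mul_smul m m' a := QuotientGroup.induction_on a fun y => by
    show h.conjHom (m * m') (QuotientGroup.mk y) = h.conjHom m (h.conjHom m' (QuotientGroup.mk y))
    rw [conjHom_mk, conjHom_mk, conjHom_mk, map_mul, map_mul]; rfl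
  smul_mul m a b := map_mul (h.conjHom m) a b
  smul_one m := map_one (h.conjHom m)

/-- The action of the quotient by the core. -/
def act (h : Sect M Y N) : Qt M →* MulAut (SectT Y N) :=
  QuotientGroup.lift (pCore 2 M) (@MulDistribMulAction.toMulAut M (SectT Y N) _ _ h.actM)
    fun d hd => by
      refine MulEquiv.ext fun a => QuotientGroup.induction_on a fun y => ?_
      show h.conjHom d (QuotientGroup.mk y) = QuotientGroup.mk y
      rw [conjHom_mk, h.mk_eq_mk]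
      exact h.cent _ y.2 _ ((mem_pCoreOf_iff d).2 hd)

/-- The action as an instance to be introduced locally. -/
@[reducible] def action (h : Sect M Y N) : MulDistribMulAction (Qt M) (SectT Y N) :=
  MulDistribMulAction.compHom (SectT Y N) h.act

theorem smul_mk (h : Sect M Y N) (m : M) (y y' : Y) (he : (y' : G) = (m : G) * y * (m : G)⁻¹) :
    letI := h.action
    (QuotientGroup.mk m : Qt M) • (QuotientGroup.mk y : SectT Y N) = QuotientGroup.mk y' := by
  show h.conjHom m (QuotientGroup.mk y) = _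
  rw [conjHom_mk]
  congr 1
  exact Subtype.ext he.symm

variable [Finite G]

theorem fpfAct (h : Sect M Y N) (hC : Ctx G) :
    letI := h.action
    FPFAct (Qt M) (SectT Y N) := by
  letI := h.action
  refine ⟨sectT_sq Y N, fun x hx hx1 v hv => ?_⟩
  obtain ⟨m, rfl, hmo⟩ := exists_odd_lift x hx
  obtain ⟨y, rfl⟩ := QuotientGroup.mk_surjective v
  rw [h.smul_mk m y ⟨(m : G) * y * (m : G)⁻¹, (Subgroup.mem_normalizer_iff.1 (h.normY m.2) _).1 y.2⟩ rfl,
    h.mk_eq_mk] at hv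
  rw [h.mk_eq_one]
  refine hC.cit.mem_of_fix_coset (isPGroup_pCoreOf M) (h.le.trans h.Y_le) (hmo.symm ▸ hx) (fun e => hx1 ?_)
    (h.normN m.2) (h.Y_le y.2) hv
  rw [OneMemClass.coe_eq_one.1 e]
  rfl

omit [Finite G] in
/-- A minimal section is irreducible. -/
theorem irreducible (h : Sect M Y N)
    (hmin : ∀ P : Subgroup G, N < P → P ≤ Y → M ≤ Subgroup.normalizer (P : Set G) → P = Y) :
    letI := h.action
    ∀ U : Subgroup (SectT Y N), (∀ g : Qt M, ∀ v ∈ U, g • v ∈ U) → U = ⊥ ∨ U = ⊤ := by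
  letI := h.action
  intro U hU
  set P : Subgroup G := (U.comap (QuotientGroup.mk' (sectKer Y N))).map Y.subtype with hPdef
  have hmem : ∀ y : Y, (y : G) ∈ P ↔ (QuotientGroup.mk y : SectT Y N) ∈ U := fun y =>
    ⟨fun ⟨y', hy', e⟩ => Y.subtype_injective e ▸ hy', fun hy => ⟨y, hy, rfl⟩⟩
  have hPY : P ≤ Y := Subgroup.map_subtype_le _
  have hNP : N ≤ P := fun n hn => (hmem ⟨n, h.le hn⟩).2 (by
    rw [(h.mk_eq_one _).2 hn]; exact U.one_mem)
  have key : ∀ m ∈ M, ∀ a ∈ P, m * a * m⁻¹ ∈ P := fun m hm a ha => by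
    refine (hmem ⟨m * a * m⁻¹, (Subgroup.mem_normalizer_iff.1 (h.normY hm) _).1 (hPY ha)⟩).2 ?_
    rw [← h.smul_mk ⟨m, hm⟩ ⟨a, hPY ha⟩ _ rfl]
    exact hU _ _ ((hmem ⟨a, hPY ha⟩).1 ha)
  have hPnorm : M ≤ Subgroup.normalizer (P : Set G) := by
    intro m hm
    rw [Subgroup.mem_normalizer_iff]
    refine fun a => ⟨key m hm a, fun ha => ?_⟩
    have := key m⁻¹ (M.inv_mem hm) _ ha
    simpa [mul_assoc] using this
  rcases hNP.lt_or_eq with hlt | heq
  · refine Or.inr ((Subgroup.eq_top_iff' U).2 fun v => ?_)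
    obtain ⟨y, rfl⟩ := QuotientGroup.mk_surjective v
    exact (hmem y).1 ((hmin P hlt hPY hPnorm).symm ▸ y.2)
  · refine Or.inl ((Subgroup.eq_bot_iff_forall U).2 fun v hv => ?_)
    obtain ⟨y, rfl⟩ := QuotientGroup.mk_surjective v
    rw [h.mk_eq_one]
    exact heq.symm ▸ (hmem y).2 hv

omit [Finite G] in
theorem nontrivial (h : Sect M Y N) (hne : N < Y) : Nontrivial (SectT Y N) := by
  obtain ⟨y, hy, hyN⟩ := SetLike.exists_of_lt hne
  exact nontrivial_of_ne (QuotientGroup.mk (⟨y, hy⟩ : Y)) 1 fun e => hyN ((h.mk_eq_one _).1 e)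

end Sect

/-- The core is abelian when its quotient has a natural module structure. -/
theorem SimpleData.core_comm [Finite G] {M T : Subgroup G} (hC : Ctx G) (_h : SimpleData M T)
    {S : Sylow 2 (Qt M)} {s t w g : Qt M} (N : NatV (Vm M) S) (Gn : NatGen S s t w g) :
    ∀ a ∈ pCoreOf 2 M, ∀ b ∈ pCoreOf 2 M, a * b = b * a := by
  classical
  set D := pCoreOf 2 M with hD
  by_contra hcon
  push Not at hcon
  have : Fact (Nat.Prime 2) := ⟨Nat.prime_two⟩
  have hDn : M ≤ Subgroup.normalizer (D : Set G) := le_normalizer_pCoreOf M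
  let Z : Subgroup G := D ⊓ Subgroup.centralizer (D : Set G)
  have hZn : M ≤ Subgroup.normalizer (Z : Set G) := by
    intro m hm
    have h1 := Subgroup.mem_normalizer_iff.1 (hDn hm)
    have h2 := Subgroup.mem_normalizer_iff.1 (le_normalizer_centralizer hDn hm)
    rw [Subgroup.mem_normalizer_iff]
    exact fun a => and_congr (h1 a) (h2 a)
  have hcd : ∀ a ∈ Z, ∀ b ∈ D, Commute a b := fun a ha b hb => (ha.2 b hb).symm
  let Y₀ : Subgroup G :=
    { carrier := {y | y ∈ D ∧ y * y ∈ Z ∧ ∀ d ∈ D, d * y * d⁻¹ * y⁻¹ ∈ Z}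
      one_mem' := ⟨D.one_mem, by simp, fun d _ => by simp⟩
      mul_mem' := fun {a b} ha hb => by
        refine ⟨D.mul_mem ha.1 hb.1, ?_, fun d hd => ?_⟩
        · have e : a * b * (a * b) = (a * a) * (a⁻¹ * ((b * a * b⁻¹ * a⁻¹) * a)) * (b * b) := by group
          rw [e, (hcd _ (ha.2.2 b hb.1) a ha.1).eq, inv_mul_cancel_left]
          exact Z.mul_mem (Z.mul_mem ha.2.1 (ha.2.2 b hb.1)) hb.2.1
        · have e : d * (a * b) * d⁻¹ * (a * b)⁻¹ =
              (d * a * d⁻¹ * a⁻¹) * (a * (d * b * d⁻¹ * b⁻¹) * a⁻¹) := by group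
          rw [e, ← (hcd _ (hb.2.2 d hd) a ha.1).eq, mul_inv_cancel_right]
          exact Z.mul_mem (ha.2.2 d hd) (hb.2.2 d hd)
      inv_mem' := fun {a} ha => by
        refine ⟨D.inv_mem ha.1, ?_, fun d hd => ?_⟩
        · rw [← mul_inv_rev]; exact Z.inv_mem ha.2.1
        · have e : d * a⁻¹ * d⁻¹ * a⁻¹⁻¹ = a⁻¹ * (d * a * d⁻¹ * a⁻¹)⁻¹ * a := by group
          rw [e, ← (hcd _ (Z.inv_mem (ha.2.2 d hd)) a⁻¹ (D.inv_mem ha.1)).eq, inv_mul_cancel_right]
          exact Z.inv_mem (ha.2.2 d hd) }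
  have norm_of : ∀ P : Subgroup G, (∀ m ∈ M, ∀ a ∈ P, m * a * m⁻¹ ∈ P) →
      M ≤ Subgroup.normalizer (P : Set G) := fun P key m hm => by
    rw [Subgroup.mem_normalizer_iff]
    refine fun a => ⟨key m hm a, fun ha => ?_⟩
    have := key m⁻¹ (M.inv_mem hm) _ ha
    simpa [mul_assoc] using this
  have hY₀n : M ≤ Subgroup.normalizer (Y₀ : Set G) := by
    refine norm_of _ fun m hm a ha => ?_
    have h1 := Subgroup.mem_normalizer_iff.1 (hDn hm)
    refine ⟨(h1 a).1 ha.1, ?_, fun d hd => ?_⟩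
    · have := (Subgroup.mem_normalizer_iff.1 (hZn hm) _).1 ha.2.1
      simpa [mul_assoc] using this
    · have h2 := ha.2.2 (m⁻¹ * d * m) ((Subgroup.mem_normalizer_iff''.1 (hDn hm) d).1 hd)
      have := (Subgroup.mem_normalizer_iff.1 (hZn hm) _).1 h2
      simpa [mul_assoc] using this
  have hZY₀ : Z ≤ Y₀ := fun a ha => ⟨ha.1, Z.mul_mem ha ha, fun d hd => by
    rw [show d * a = a * d from (hcd a ha d hd).eq.symm, mul_inv_cancel_right, mul_inv_cancel]
    exact Z.one_mem⟩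
  have hZlt : Z < Y₀ := by
    refine lt_of_le_not_ge hZY₀ fun hle => ?_
    obtain ⟨a, ha, b, hb, hab⟩ := hcon
    set Zc := Subgroup.center (D : Subgroup G)
    have hq : Nontrivial ((D : Subgroup G) ⧸ Zc) := by
      refine nontrivial_of_ne (QuotientGroup.mk (⟨a, ha⟩ : D)) 1 fun e => hab ?_
      exact (congrArg Subtype.val (Subgroup.mem_center_iff.1 ((QuotientGroup.eq_one_iff _).1 e) ⟨b, hb⟩)).symm
    have hp : IsPGroup 2 ((D : Subgroup G) ⧸ Zc) := (isPGroup_pCoreOf M).to_quotient Zc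
    have := hp.center_nontrivial
    obtain ⟨n, hn, hc⟩ := (hp.to_subgroup (Subgroup.center _)).nontrivial_iff_card.1 this
    obtain ⟨c, hc2⟩ := exists_prime_orderOf_dvd_card' (G := Subgroup.center ((D : Subgroup G) ⧸ Zc)) 2
      (hc ▸ dvd_pow_self 2 hn.ne')
    obtain ⟨y, hy⟩ := QuotientGroup.mk_surjective (c : (D : Subgroup G) ⧸ Zc)
    have hmem : ∀ x : D, x ∈ Zc → (x : G) ∈ Z := fun x hx =>
      ⟨x.2, fun d hd => congrArg Subtype.val (Subgroup.mem_center_iff.1 hx ⟨d, hd⟩)⟩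
    have hyY : (y : G) ∈ Y₀ := by
      refine ⟨y.2, hmem (y * y) ?_, fun d hd => hmem (⟨d, hd⟩ * y * ⟨d, hd⟩⁻¹ * y⁻¹) ?_⟩
      · rw [← QuotientGroup.eq_one_iff, QuotientGroup.mk_mul, hy, ← Subgroup.coe_mul, ← pow_two, ← hc2,
          pow_orderOf_eq_one, Subgroup.coe_one]
      · rw [← QuotientGroup.eq_one_iff, QuotientGroup.mk_mul, QuotientGroup.mk_mul, QuotientGroup.mk_mul,
          QuotientGroup.mk_inv, QuotientGroup.mk_inv, hy, Subgroup.mem_center_iff.1 c.2,
          mul_inv_cancel_right, mul_inv_cancel]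
    have hyZ := hle hyY
    have : (c : (D : Subgroup G) ⧸ Zc) = 1 := by
      rw [← hy, QuotientGroup.eq_one_iff, Subgroup.mem_center_iff]
      exact fun x => Subtype.ext (hyZ.2 x x.2)
    rw [← Subgroup.orderOf_coe, this, orderOf_one] at hc2
    omega
  obtain ⟨Y, ⟨hZY, hYY₀, hYn⟩, hYmin⟩ := exists_minimal_of_wellFoundedLT
    (fun P : Subgroup G => Z < P ∧ P ≤ Y₀ ∧ M ≤ Subgroup.normalizer (P : Set G)) ⟨Y₀, hZlt, le_rfl, hY₀n⟩
  have hYs : Sect M Y Z :=
    ⟨hZY.le, fun a ha => (hYY₀ ha).1, hYn, hZn, fun a ha => (hYY₀ ha).2.1, fun a ha => (hYY₀ ha).2.2⟩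
  -- the commutators lie in `Ω₁Z(D)`
  have hcV : ∀ y ∈ Y, ∀ x ∈ D, x * y * x⁻¹ * y⁻¹ ∈ omegaZ D := by
    intro y hy x hx
    obtain ⟨hyD, hy2, hyc⟩ := hYY₀ hy
    set c := x * y * x⁻¹ * y⁻¹ with hc
    have hcZ : c ∈ Z := hyc x hx
    refine ⟨hcZ.1, ?_, fun b hb => (hcd c hcZ b hb).eq⟩
    have h1 : x * (y * y) * x⁻¹ = y * y := by
      rw [← (hcd _ hy2 x hx).eq, mul_inv_cancel_right]
    have h2 : x * (y * y) * x⁻¹ = c * (y * c) * y := by rw [hc]; group
    rw [h2, ← (hcd c hcZ y hyD).eq] at h1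
    have h3 : c * c * (y * y) = y * y := by
      calc c * c * (y * y) = c * (c * y) * y := by group
        _ = y * y := h1
    exact mul_eq_right.1 h3
  -- the centraliser of `Y` in the core
  let C : Subgroup G := D ⊓ Subgroup.centralizer (Y : Set G)
  have hCn : M ≤ Subgroup.normalizer (C : Set G) := by
    intro m hm
    have h1 := Subgroup.mem_normalizer_iff.1 (hDn hm)
    have h2 := Subgroup.mem_normalizer_iff.1 (le_normalizer_centralizer hYn hm)
    rw [Subgroup.mem_normalizer_iff]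
    exact fun a => and_congr (h1 a) (h2 a)
  have hClt : C < D := by
    refine lt_of_le_not_ge inf_le_left fun hle => ?_
    exact hZY.not_ge fun y hy => ⟨hYs.Y_le hy, fun d hd => ((hle hd).2 y hy).symm⟩
  obtain ⟨X, ⟨hCX, hXD, hXn⟩, hXmin⟩ := exists_minimal_of_wellFoundedLT
    (fun P : Subgroup G => C < P ∧ P ≤ D ∧ M ≤ Subgroup.normalizer (P : Set G)) ⟨D, hClt, le_rfl, hDn⟩
  -- the commutator map
  have hmul : ∀ y ∈ Y, ∀ a ∈ D, ∀ b ∈ D,
      (a * b) * y * (a * b)⁻¹ * y⁻¹ = (a * y * a⁻¹ * y⁻¹) * (b * y * b⁻¹ * y⁻¹) := by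
    intro y hy a ha b hb
    have hc := hcV y hy b hb
    calc (a * b) * y * (a * b)⁻¹ * y⁻¹ = a * (b * y * b⁻¹ * y⁻¹) * a⁻¹ * (a * y * a⁻¹ * y⁻¹) := by group
      _ = (b * y * b⁻¹ * y⁻¹) * (a * y * a⁻¹ * y⁻¹) := by
          rw [← hc.2.2 a ha, mul_inv_cancel_right]
      _ = _ := hc.2.2 _ (hcV y hy a ha).1
  have hXs : Sect M X C := by
    refine ⟨hCX.le, hXD, hXn, hCn, fun x hx => ⟨D.mul_mem (hXD hx) (hXD hx), fun y hy => ?_⟩,
      fun x hx d hd => ⟨D.mul_mem (D.mul_mem (D.mul_mem hd (hXD hx)) (D.inv_mem hd)) (D.inv_mem (hXD hx)),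
        fun y hy => ?_⟩⟩
    · have h1 := hmul y hy x (hXD hx) x (hXD hx)
      rw [(hcV y hy x (hXD hx)).2.1, mul_inv_eq_one, mul_inv_eq_iff_eq_mul] at h1
      exact h1.symm
    · have e : (d * x * d⁻¹ * x⁻¹) * y * (d * x * d⁻¹ * x⁻¹)⁻¹ * y⁻¹ = 1 := by
        have hdd := D.mul_mem (D.mul_mem hd (hXD hx)) (D.inv_mem hd)
        rw [hmul y hy _ hdd _ (D.inv_mem (hXD hx)), hmul y hy _ (D.mul_mem hd (hXD hx)) _ (D.inv_mem hd),
          hmul y hy _ hd _ (hXD hx)]
        have k : ∀ a ∈ D, (a * y * a⁻¹ * y⁻¹) * (a⁻¹ * y * a⁻¹⁻¹ * y⁻¹) = 1 := fun a ha => by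
          rw [← hmul y hy a ha a⁻¹ (D.inv_mem ha)]; simp
        set cd := d * y * d⁻¹ * y⁻¹
        set cx := x * y * x⁻¹ * y⁻¹
        set cd' := d⁻¹ * y * d⁻¹⁻¹ * y⁻¹
        set cx' := x⁻¹ * y * x⁻¹⁻¹ * y⁻¹
        have h3 : cx * cd' = cd' * cx :=
          (hcV y hy x (hXD hx)).2.2 _ (hcV y hy _ (D.inv_mem hd)).1
        calc cd * cx * cd' * cx' = cd * (cx * cd') * cx' := by group
          _ = (cd * cd') * (cx * cx') := by rw [h3]; group
          _ = 1 := by rw [k d hd, k x (hXD hx), one_mul]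
      rw [mul_inv_eq_one, mul_inv_eq_iff_eq_mul] at e
      exact e.symm
  letI := hYs.action
  letI := hXs.action
  have := hYs.nontrivial hZY
  have := hXs.nontrivial hCX
  have hYf := hYs.fpfAct hC
  have hXf := hXs.fpfAct hC
  have hYnat := Gn.natural_of_irreducible hYf
    (hYs.irreducible fun P h1 h2 h3 => le_antisymm h2 (hYmin ⟨h1, h2.trans hYY₀, h3⟩ h2))
  have hXnat := Gn.natural_of_irreducible hXf
    (hXs.irreducible fun P h1 h2 h3 => le_antisymm h2 (hXmin ⟨h1, h2.trans hXD, h3⟩ h2))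
  let f₀ : Y →* (X →* Vm M) :=
    { toFun := fun y =>
        { toFun := fun x => ⟨(x : G) * y * (x : G)⁻¹ * (y : G)⁻¹, hcV y y.2 x (hXD x.2)⟩
          map_one' := Subtype.ext (by simp)
          map_mul' := fun a b => Subtype.ext (hmul y y.2 a (hXD a.2) b (hXD b.2)) }
      map_one' := MonoidHom.ext fun x => Subtype.ext (by simp)
      map_mul' := fun y y' => MonoidHom.ext fun x => Subtype.ext (by
        show (x : G) * (y * y' : G) * (x : G)⁻¹ * ((y : G) * y')⁻¹ =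
          ((x : G) * y * (x : G)⁻¹ * (y : G)⁻¹) * ((x : G) * y' * (x : G)⁻¹ * (y' : G)⁻¹)
        have hc := hcV y' y'.2 x (hXD x.2)
        calc (x : G) * (y * y' : G) * (x : G)⁻¹ * ((y : G) * y')⁻¹
            = ((x : G) * y * (x : G)⁻¹) * (((x : G) * y' * (x : G)⁻¹ * (y' : G)⁻¹) * (y : G)⁻¹) := by group
          _ = ((x : G) * y * (x : G)⁻¹) * ((y : G)⁻¹ * ((x : G) * y' * (x : G)⁻¹ * (y' : G)⁻¹)) := by
              rw [hc.2.2 _ (D.inv_mem (hYs.Y_le y.2))]
          _ = _ := by group) }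
  have hinner : ∀ y : Y, sectKer X C ≤ (f₀ y).ker := by
    intro y x hx
    rw [hXs.sectKer_eq] at hx
    refine MonoidHom.mem_ker.2 (Subtype.ext ?_)
    show (x : G) * y * (x : G)⁻¹ * (y : G)⁻¹ = 1
    rw [mul_inv_eq_one, mul_inv_eq_iff_eq_mul]
    exact (hx.2 y y.2).symm
  let f₁ : Y →* (SectT X C →* Vm M) :=
    { toFun := fun y => QuotientGroup.lift (sectKer X C) (f₀ y) (hinner y)
      map_one' := MonoidHom.ext fun a => QuotientGroup.induction_on a fun x => by
        show f₀ 1 x = 1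
        rw [map_one]; rfl
      map_mul' := fun y y' => MonoidHom.ext fun a => QuotientGroup.induction_on a fun x => by
        show f₀ (y * y') x = f₀ y x * f₀ y' x
        rw [map_mul]; rfl }
  have houter : sectKer Y Z ≤ f₁.ker := by
    intro y hy
    rw [hYs.sectKer_eq] at hy
    refine MonoidHom.mem_ker.2 (MonoidHom.ext fun a => QuotientGroup.induction_on a fun x => ?_)
    refine Subtype.ext ?_
    show (x : G) * y * (x : G)⁻¹ * (y : G)⁻¹ = 1
    have hy' : (y : G) ∈ Z := hy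
    rw [← (hcd _ hy' x (hXD x.2)).eq, mul_inv_cancel_right, mul_inv_cancel]
  have hφ := Gn.bilinear_eq_one (hC.fpfAct M) hYf hXf hYnat hXnat (N.isNatural Gn (hC.fpfAct M))
    (QuotientGroup.lift (sectKer Y Z) f₁ houter) (by
      intro q a b
      obtain ⟨m, rfl⟩ := QuotientGroup.mk_surjective q
      obtain ⟨y, rfl⟩ := QuotientGroup.mk_surjective a
      obtain ⟨x, rfl⟩ := QuotientGroup.mk_surjective b
      rw [hYs.smul_mk m y ⟨(m : G) * y * (m : G)⁻¹,
          (Subgroup.mem_normalizer_iff.1 (hYn m.2) _).1 y.2⟩ rfl,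
        hXs.smul_mk m x ⟨(m : G) * x * (m : G)⁻¹,
          (Subgroup.mem_normalizer_iff.1 (hXn m.2) _).1 x.2⟩ rfl]
      refine Subtype.ext ?_
      rw [coe_smul_mk]
      show ((m : G) * x * (m : G)⁻¹) * ((m : G) * y * (m : G)⁻¹) * ((m : G) * x * (m : G)⁻¹)⁻¹ *
        ((m : G) * y * (m : G)⁻¹)⁻¹ = (m : G) * ((x : G) * y * (x : G)⁻¹ * (y : G)⁻¹) * (m : G)⁻¹
      group)
  refine hCX.not_ge fun x hx => ⟨hXD hx, fun y hy => ?_⟩
  have h1 := congrArg Subtype.val (hφ (QuotientGroup.mk (⟨y, hy⟩ : Y)) (QuotientGroup.mk (⟨x, hx⟩ : X)))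
  have h2 : x * y * x⁻¹ * y⁻¹ = 1 := h1
  rw [mul_inv_eq_one, mul_inv_eq_iff_eq_mul] at h2
  exact h2.symm

end CfsgLib.CIT
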