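import Cfsg.Agent.Lib.CIT.Basic
import Cfsg.Agent.Lib.Involutions.StronglyEmbedded
import Cfsg.Agent.S0340

/-!
A strongly embedded subgroup `M` with a normal subgroup `H` equal to the centraliser of an involution
and meeting every other conjugate of `M` trivially: the group is doubly transitive on the cosets of `M`
and two-point stabilisers are abelian complements of `H`, inverted by the swapping involutions.
-/

set_option autoImplicit false

open Cfsg
open scoped Pointwise

namespace CfsgLib.CIT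

variable {G : Type*} [Group G]

/-- The configuration. -/
structure TIConfig (M H : Subgroup G) (z : G) : Prop where
  se : IsStronglyEmbedded M
  out : ∃ t : G, orderOf t = 2 ∧ t ∉ M
  le : H ≤ M
  normal : M ≤ Subgroup.normalizer (H : Set G)
  z_ord : orderOf z = 2
  cent : Subgroup.centralizer ({z} : Set G) = H
  disj : ∀ g : G, g ∉ M → H ⊓ M.map (MulAut.conj g).toMonoidHom = ⊥
  cop : (Nat.card H).Coprime (H.relIndex M)

namespace TIConfig

variable {M H : Subgroup G} {z : G}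

/-- The base point. -/
abbrev pt (M : Subgroup G) : G ⧸ M := QuotientGroup.mk 1

theorem smul_pt_eq (g : G) : g • pt M = pt M ↔ g ∈ M := by
  show (QuotientGroup.mk (g * 1) : G ⧸ M) = QuotientGroup.mk 1 ↔ g ∈ M
  rw [mul_one, QuotientGroup.eq, mul_one, inv_mem_iff]

theorem smul_smul_pt_eq (t g : G) :
    g • (t • pt M) = t • pt M ↔ g ∈ M.map (MulAut.conj t).toMonoidHom := by
  rw [Involutions.mem_map_conj, ← smul_pt_eq, mul_smul, mul_smul, inv_smul_eq_iff]

theorem mem_z (h : TIConfig M H z) : z ∈ H :=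
  h.cent ▸ Subgroup.mem_centralizer_singleton_iff.2 rfl

variable [Finite G]

/-- All involutions are conjugate to `z`. -/
theorem isConj_z (h : TIConfig M H z) {v : G} (hv : orderOf v = 2) : IsConj z v := by
  have key : ∀ w ∈ M, orderOf w = 2 → ∀ t : G, orderOf t = 2 → t ∉ M → IsConj w t := by
    intro w hw hw2 t ht2 htM
    by_contra hnc
    obtain ⟨y, hy2, hyw, hyt, -⟩ := Involutions.exists_commuting_involution hw2 ht2 hnc
    have hyM : y ∈ M := Involutions.mem_of_conj_mem_of_stronglyEmbedded h.se hw hw2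
      (by rw [hyw, mul_inv_cancel_right]; exact hw)
    exact htM (Involutions.mem_of_conj_mem_of_stronglyEmbedded h.se hyM hy2
      (by rw [← hyt, mul_inv_cancel_right]; exact hyM))
  obtain ⟨t, ht, htM⟩ := h.out
  by_cases hvM : v ∈ M
  · exact (key z (h.le h.mem_z) h.z_ord t ht htM).trans (key v hvM hv t ht htM).symm
  · exact key z (h.le h.mem_z) h.z_ord v hv hvM

/-- An involution of `M` is centralised by `H`, and lies in it. -/
theorem invol_mem (h : TIConfig M H z) {v : G} (hv : orderOf v = 2) (hvM : v ∈ M) :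
    Subgroup.centralizer ({v} : Set G) = H ∧ v ∈ H := by
  obtain ⟨c, hc⟩ := isConj_iff.1 (h.isConj_z hv)
  have hcM : c ∈ M := Involutions.mem_of_conj_mem_of_stronglyEmbedded h.se (h.le h.mem_z) h.z_ord
    (hc ▸ hvM)
  have hN := h.normal hcM
  have e : Subgroup.centralizer ({v} : Set G) = H := by
    ext g
    rw [Subgroup.mem_centralizer_singleton_iff]
    have h1 : g ∈ H ↔ c⁻¹ * g * c ∈ H := Subgroup.mem_normalizer_iff''.1 hN g
    rw [h1, ← h.cent, Subgroup.mem_centralizer_singleton_iff, ← hc]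
    constructor
    · intro e
      calc c⁻¹ * g * c * z = c⁻¹ * (g * (c * z * c⁻¹)) * c := by group
        _ = c⁻¹ * (c * z * c⁻¹ * g) * c := by rw [e]
        _ = z * (c⁻¹ * g * c) := by group
    · intro e
      calc g * (c * z * c⁻¹) = c * (c⁻¹ * g * c * z) * c⁻¹ := by group
        _ = c * (z * (c⁻¹ * g * c)) * c⁻¹ := by rw [e]
        _ = c * z * c⁻¹ * g := by group
  exact ⟨e, e ▸ Subgroup.mem_centralizer_singleton_iff.2 rfl⟩

/-- The number of involutions of `M`. -/
noncomputable abbrev m (M H : Subgroup G) : ℕ := H.relIndex M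

theorem card_M (h : TIConfig M H z) : Nat.card M = Nat.card H * m M H := by
  have h1 := (H.subgroupOf M).index_mul_card
  rw [Nat.card_congr (Subgroup.subgroupOfEquivOfLe h.le).toEquiv] at h1
  rw [← h1, mul_comm]; rfl

theorem m_pos : 0 < m M H := Nat.pos_of_ne_zero Subgroup.index_ne_zero_of_finite

theorem card_involutions (h : TIConfig M H z) :
    Nat.card {v : G // orderOf v = 2} = H.index ∧
      Nat.card {v : G // orderOf v = 2 ∧ v ∈ M} = m M H := by
  have feq : ∀ a b : G, a * z * a⁻¹ = b * z * b⁻¹ ↔ a⁻¹ * b ∈ H := by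
    intro a b
    rw [← h.cent, Subgroup.mem_centralizer_singleton_iff]
    constructor
    · intro e
      calc a⁻¹ * b * z = a⁻¹ * (b * z * b⁻¹) * b := by group
        _ = z * (a⁻¹ * b) := by rw [← e]; group
    · intro e
      calc a * z * a⁻¹ = a * (z * (a⁻¹ * b)) * b⁻¹ := by group
        _ = a * (a⁻¹ * b * z) * b⁻¹ := by rw [e]
        _ = b * z * b⁻¹ := by group
  constructor
  · let f : G ⧸ H → {v : G // orderOf v = 2} :=
      Quotient.lift (fun g => ⟨g * z * g⁻¹, by rw [Involutions.orderOf_conj, h.z_ord]⟩) fun a b hab =>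
        Subtype.ext ((feq a b).2 ((QuotientGroup.leftRel_apply).1 hab))
    refine (Nat.card_eq_of_bijective f ⟨fun a b => ?_, fun v => ?_⟩).symm
    · refine Quotient.inductionOn₂ a b fun a b e => Quotient.sound ((QuotientGroup.leftRel_apply).2 ?_)
      exact (feq a b).1 (congrArg Subtype.val e)
    · obtain ⟨c, hc⟩ := isConj_iff.1 (h.isConj_z v.2)
      exact ⟨QuotientGroup.mk c, Subtype.ext hc⟩
  · let f : M ⧸ H.subgroupOf M → {v : G // orderOf v = 2 ∧ v ∈ M} :=
      Quotient.lift (fun a => ⟨(a : G) * z * (a : G)⁻¹, by rw [Involutions.orderOf_conj, h.z_ord],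
        M.mul_mem (M.mul_mem a.2 (h.le h.mem_z)) (M.inv_mem a.2)⟩) fun a b hab =>
        Subtype.ext ((feq _ _).2 (Subgroup.mem_subgroupOf.1 ((QuotientGroup.leftRel_apply).1 hab)))
    refine (Nat.card_eq_of_bijective f ⟨fun a b => ?_, fun v => ?_⟩).symm
    · refine Quotient.inductionOn₂ a b fun a b e => Quotient.sound ((QuotientGroup.leftRel_apply).2 ?_)
      exact Subgroup.mem_subgroupOf.2 ((feq _ _).1 (congrArg Subtype.val e))
    · obtain ⟨c, hc⟩ := isConj_iff.1 (h.isConj_z v.2.1)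
      exact ⟨QuotientGroup.mk ⟨c, Involutions.mem_of_conj_mem_of_stronglyEmbedded h.se
        (h.le h.mem_z) h.z_ord (hc ▸ v.2.2)⟩, Subtype.ext hc⟩

theorem card_inf_le (h : TIConfig M H z) {g : G} (hg : g ∉ M) :
    Nat.card ↥(M ⊓ M.map (MulAut.conj g).toMonoidHom) ≤ m M H := by
  set D := M ⊓ M.map (MulAut.conj g).toMonoidHom
  refine Nat.card_le_card_of_injective (fun a : D => (QuotientGroup.mk (⟨a, a.2.1⟩ : M) : M ⧸ H.subgroupOf M)) ?_
  intro a b e
  have h1 : (a : G)⁻¹ * b ∈ H := Subgroup.mem_subgroupOf.1 (QuotientGroup.eq.1 e)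
  have h2 : (a : G)⁻¹ * b ∈ H ⊓ M.map (MulAut.conj g).toMonoidHom :=
    ⟨h1, (Subgroup.mul_mem _ (Subgroup.inv_mem _ a.2.2) b.2.2)⟩
  rw [h.disj g hg, Subgroup.mem_bot, inv_mul_eq_one] at h2
  exact Subtype.ext h2

/-- Every other point is reached by an involution inverting the two-point stabiliser, of order `m`. -/
theorem exists_swap (h : TIConfig M H z) {ω : G ⧸ M} (hω : ω ≠ pt M) :
    ∃ t : G, orderOf t = 2 ∧ t ∉ M ∧ t • pt M = ω ∧
      Nat.card ↥(M ⊓ M.map (MulAut.conj t).toMonoidHom) = m M H ∧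
      ∀ a ∈ M, a • ω = ω → t * a * t⁻¹ = a⁻¹ := by
  classical
  letI : Fintype (G ⧸ M) := Fintype.ofFinite _
  let I' := {t : G // orderOf t = 2 ∧ t ∉ M}
  let Ω' := {y : G ⧸ M // y ≠ pt M}
  let f : I' → Ω' := fun t => ⟨(t : G) • pt M, fun e => t.2.2 ((smul_pt_eq _).1 e)⟩
  have hconjmem : ∀ t : G, orderOf t = 2 → ∀ a : G,
      a ∈ M.map (MulAut.conj t).toMonoidHom ↔ t * a * t ∈ M := by
    intro t ht a
    rw [Involutions.mem_map_conj, Involutions.inv_eq_self ht]
  have hfibmem : ∀ (y : Ω') (t u : {t : I' // f t = y}),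
      ((t : I') : G) * ((u : I') : G) ∈ M ⊓ M.map (MulAut.conj ((t : I') : G)).toMonoidHom := by
    intro y t u
    have e : ((t : I') : G) • pt M = ((u : I') : G) • pt M :=
      congrArg Subtype.val (t.2.trans u.2.symm)
    have ht2 := Involutions.mul_self_eq_one (t : I').2.1
    have h1 : ((t : I') : G) * ((u : I') : G) ∈ M := by
      rw [← smul_pt_eq, mul_smul, ← e, ← mul_smul, ht2, one_smul]
    refine ⟨h1, (hconjmem _ (t : I').2.1 _).2 ?_⟩
    rw [← mul_assoc, ht2, one_mul]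
    have := M.inv_mem h1
    rwa [mul_inv_rev, Involutions.inv_eq_self (t : I').2.1, Involutions.inv_eq_self (u : I').2.1] at this
  have hfibinj : ∀ (y : Ω') (t : {t : I' // f t = y}), Function.Injective
      (fun u : {t : I' // f t = y} => (⟨_, hfibmem y t u⟩ :
        ↥(M ⊓ M.map (MulAut.conj ((t : I') : G)).toMonoidHom))) := by
    intro y t a b e
    exact Subtype.ext (Subtype.ext (mul_left_cancel (congrArg Subtype.val e :)))
  have hfib : ∀ y : Ω', Nat.card {t : I' // f t = y} ≤ m M H := by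
    intro y
    rcases isEmpty_or_nonempty {t : I' // f t = y} with he | ⟨⟨t⟩⟩
    · rw [Nat.card_of_isEmpty]; exact Nat.zero_le _
    · exact (Nat.card_le_card_of_injective _ (hfibinj y t)).trans (h.card_inf_le (t : I').2.2)
  have hI'card : Nat.card I' = m M H * Nat.card Ω' := by
    obtain ⟨hI, hIM⟩ := h.card_involutions
    have h1 : Nat.card {v : G // orderOf v = 2} = Nat.card I' + m M H := by
      rw [← hIM, ← Nat.card_sum]
      exact Nat.card_congr
        { toFun := fun v => if hv : (v : G) ∈ M then Sum.inr ⟨v, v.2, hv⟩ else Sum.inl ⟨v, v.2, hv⟩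
          invFun := Sum.elim (fun v => ⟨v, v.2.1⟩) (fun v => ⟨v, v.2.1⟩)
          left_inv := fun v => by by_cases hv : (v : G) ∈ M <;> simp [hv]
          right_inv := fun v => by rcases v with ⟨v, hv⟩ | ⟨v, hv⟩ <;> simp [hv.2] }
    have h2 : Nat.card Ω' + 1 = M.index := by
      rw [Subgroup.index, Nat.card_eq_fintype_card, Nat.card_eq_fintype_card, Fintype.card_subtype_compl,
        Fintype.card_subtype_eq]
      have := Fintype.card_pos_iff.2 ⟨pt M⟩
      omega
    rw [hI, ← Subgroup.relIndex_mul_index h.le, ← h2, mul_add, mul_one] at h1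
    simp only [m] at h1
    show Nat.card I' = H.relIndex M * Nat.card Ω'
    omega
  have hfull : ∀ y : Ω', Nat.card {t : I' // f t = y} = m M H := by
    have h1 : ∑ y : Ω', Nat.card {t : I' // f t = y} = ∑ _y : Ω', m M H := by
      rw [← Nat.card_sigma, Finset.sum_const, Finset.card_univ, smul_eq_mul, ← Nat.card_eq_fintype_card,
        mul_comm, ← hI'card]
      exact Nat.card_congr (Equiv.sigmaFiberEquiv f)
    exact fun y => (Finset.sum_eq_sum_iff_of_le fun y _ => hfib y).1 h1 y (Finset.mem_univ _)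
  have hc := hfull ⟨ω, hω⟩
  obtain ⟨t⟩ : Nonempty {t : I' // f t = ⟨ω, hω⟩} := (Nat.card_pos_iff.1 (hc ▸ m_pos)).1
  have htω : ((t : I') : G) • pt M = ω := congrArg Subtype.val t.2
  have hinj := hfibinj ⟨ω, hω⟩ t
  have hle := Nat.card_le_card_of_injective _ hinj
  rw [hc] at hle
  have hKm : Nat.card ↥(M ⊓ M.map (MulAut.conj ((t : I') : G)).toMonoidHom) = m M H :=
    le_antisymm (h.card_inf_le (t : I').2.2) hle
  refine ⟨_, (t : I').2.1, (t : I').2.2, htω, hKm, fun a ha hfa => ?_⟩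
  have hbij := hinj.bijective_of_nat_card_le (by rw [hKm, hc])
  obtain ⟨u, hu⟩ := hbij.2 ⟨a, ha, (smul_smul_pt_eq _ a).1 (by rw [htω]; exact hfa)⟩
  have hu' : ((t : I') : G) * ((u : I') : G) = a := congrArg Subtype.val hu
  rw [← hu', mul_inv_rev, Involutions.inv_eq_self (t : I').2.1, Involutions.inv_eq_self (u : I').2.1,
    ← mul_assoc, Involutions.mul_self_eq_one (t : I').2.1, one_mul]

/-- The two-point stabilisers are abelian. -/
theorem commute_of_fix (h : TIConfig M H z) {ω : G ⧸ M} (hω : ω ≠ pt M) {a b : G} (ha : a ∈ M)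
    (hb : b ∈ M) (hfa : a • ω = ω) (hfb : b • ω = ω) : a * b = b * a := by
  obtain ⟨t, -, -, -, -, hinv⟩ := h.exists_swap hω
  have hab := hinv (a * b) (M.mul_mem ha hb) (by rw [mul_smul, hfb, hfa])
  have : t * (a * b) * t⁻¹ = (t * a * t⁻¹) * (t * b * t⁻¹) := by group
  rw [hab, hinv a ha hfa, hinv b hb hfb, ← mul_inv_rev] at this
  exact inv_injective this

/-- `M` is generated by `H` and a two-point stabiliser. -/
theorem exists_eq_mul (h : TIConfig M H z) {ω : G ⧸ M} (hω : ω ≠ pt M) {a : G} (ha : a ∈ M) :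
    ∃ b ∈ H, ∃ d ∈ M, d • ω = ω ∧ a = b * d := by
  obtain ⟨t, -, htM, htω, hK, -⟩ := h.exists_swap hω
  set D := M ⊓ M.map (MulAut.conj t).toMonoidHom
  let f : D → M ⧸ H.subgroupOf M := fun d => QuotientGroup.mk (⟨d, d.2.1⟩ : M)
  have hf : Function.Injective f := by
    intro x y e
    have h1 : (x : G)⁻¹ * y ∈ H := Subgroup.mem_subgroupOf.1 (QuotientGroup.eq.1 e)
    have h2 : (x : G)⁻¹ * y ∈ H ⊓ M.map (MulAut.conj t).toMonoidHom :=
      ⟨h1, (Subgroup.mul_mem _ (Subgroup.inv_mem _ x.2.2) y.2.2)⟩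
    rw [h.disj t htM, Subgroup.mem_bot, inv_mul_eq_one] at h2
    exact Subtype.ext h2
  obtain ⟨d, hd⟩ := (hf.bijective_of_nat_card_le (by rw [hK]; exact le_rfl)).2
    (QuotientGroup.mk (⟨a, ha⟩ : M))
  have h1 : (d : G)⁻¹ * a ∈ H := Subgroup.mem_subgroupOf.1 (QuotientGroup.eq.1 hd)
  refine ⟨(d : G) * ((d : G)⁻¹ * a) * (d : G)⁻¹,
    (Subgroup.mem_normalizer_iff.1 (h.normal d.2.1) _).1 h1, d, d.2.1, ?_, by group⟩
  rw [← htω]
  exact (smul_smul_pt_eq _ _).2 d.2.2

/-- A non-trivial element fixing the base point fixes at most one other point. -/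
theorem eq_of_fix (h : TIConfig M H z) {a : G} (ha : a ∈ M) (ha1 : a ≠ 1) {ω ω' : G ⧸ M}
    (hω : ω ≠ pt M) (hω' : ω' ≠ pt M) (hfa : a • ω = ω) (hfa' : a • ω' = ω') : ω = ω' := by
  obtain ⟨t, ht2, htM, htω, -, htinv⟩ := h.exists_swap hω
  obtain ⟨t', ht'2, -, ht'ω, -, ht'inv⟩ := h.exists_swap hω'
  have hodd : Odd (orderOf a) :=
    (h.se.2.2 t htM).of_dvd_nat (Subgroup.orderOf_dvd_natCard _
      ⟨ha, (smul_smul_pt_eq t a).1 (by rw [htω]; exact hfa)⟩)
  set c := t * t' with hc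
  have hca : c * a * c⁻¹ = a := by
    calc c * a * c⁻¹ = t * (t' * a * t'⁻¹) * t⁻¹ := by rw [hc]; group
      _ = (t * a * t⁻¹)⁻¹ := by rw [ht'inv a ha hfa']; group
      _ = a := by rw [htinv a ha hfa, inv_inv]
  have hcfix : c • pt M = pt M := by
    by_contra hne
    have hfa'' : a • (c • pt M) = c • pt M := by
      rw [← mul_smul, show a * c = c * a from ((mul_inv_eq_iff_eq_mul.1 hca)).symm, mul_smul,
        (smul_pt_eq a).2 ha]
    obtain ⟨u, hu2, -, huω, -, huinv⟩ := h.exists_swap hne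
    have hh : u * c ∈ M := by
      rw [← smul_pt_eq, mul_smul, ← huω, ← mul_smul, Involutions.mul_self_eq_one hu2, one_smul]
    -- an element of `M` inverting `a`
    have hinv : (u * c) * a * (u * c)⁻¹ = a⁻¹ := by
      calc (u * c) * a * (u * c)⁻¹ = u * (c * a * c⁻¹) * u⁻¹ := by group
        _ = a⁻¹ := by rw [hca, huinv a ha hfa'']
    obtain ⟨b, hb, d, hd, hdω, e⟩ := h.exists_eq_mul hω hh
    have hda : d * a * d⁻¹ = a := mul_inv_eq_iff_eq_mul.2 (h.commute_of_fix hω hd ha hdω hfa)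
    rw [e, show b * d * a * (b * d)⁻¹ = b * (d * a * d⁻¹) * b⁻¹ by group, hda] at hinv
    have h2 : a⁻¹ * a⁻¹ ∈ H := by
      have h3 : b * (a * b⁻¹ * a⁻¹) ∈ H :=
        H.mul_mem hb ((Subgroup.mem_normalizer_iff.1 (h.normal ha) _).1 (H.inv_mem hb))
      rwa [show b * (a * b⁻¹ * a⁻¹) = (b * a * b⁻¹) * a⁻¹ by group, hinv] at h3
    have h4 : a * a ∈ H ⊓ M.map (MulAut.conj t).toMonoidHom :=
      ⟨by simpa using H.inv_mem h2, Subgroup.mul_mem _ ((smul_smul_pt_eq t a).1 (by rw [htω]; exact hfa))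
        ((smul_smul_pt_eq t a).1 (by rw [htω]; exact hfa))⟩
    rw [h.disj t htM, Subgroup.mem_bot, ← pow_two] at h4
    have h5 := orderOf_dvd_of_pow_eq_one h4
    rcases (Nat.dvd_prime Nat.prime_two).1 h5 with h6 | h6
    · exact ha1 (orderOf_eq_one_iff.1 h6)
    · exact absurd (h6 ▸ hodd) (by decide)
  rw [hc, mul_smul, ht'ω] at hcfix
  have h1 := congrArg (fun y => t • y) hcfix
  simp only [← mul_smul, Involutions.mul_self_eq_one ht2, one_smul] at h1
  rw [h1, ← htω]

/-- `M` is transitive on the other points. -/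
theorem exists_smul_eq (h : TIConfig M H z) (hm : 1 < m M H) {ω ω' : G ⧸ M} (hω : ω ≠ pt M)
    (hω' : ω' ≠ pt M) : ∃ g ∈ M, g • ω = ω' := by
  obtain ⟨p, hp, hpm⟩ := Nat.exists_prime_and_dvd hm.ne'
  have : Fact p.Prime := ⟨hp⟩
  obtain ⟨t, -, -, htω, hK, -⟩ := h.exists_swap hω
  obtain ⟨t', -, -, ht'ω, hK', -⟩ := h.exists_swap hω'
  have syl : ∀ u : G, Nat.card ↥(M ⊓ M.map (MulAut.conj u).toMonoidHom) = m M H →
      ∃ P : Sylow p M, (P : Subgroup M) ≤ (M ⊓ M.map (MulAut.conj u).toMonoidHom).subgroupOf M := by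
    intro u hu
    set D := (M ⊓ M.map (MulAut.conj u).toMonoidHom).subgroupOf M
    let Q : Sylow p D := default
    have hQ : IsPGroup p ((Q : Subgroup D).map D.subtype) := Q.2.map _
    refine ⟨Sylow.ofCard ((Q : Subgroup D).map D.subtype) ?_, Subgroup.map_subtype_le _⟩
    rw [Subgroup.card_map_of_injective D.subtype_injective, Q.card_eq_multiplicity,
      Nat.card_congr (Subgroup.subgroupOfEquivOfLe inf_le_left).toEquiv, hu, h.card_M,
      Nat.factorization_mul Nat.card_pos.ne' m_pos.ne', Finsupp.add_apply,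
      Nat.factorization_eq_zero_of_not_dvd (n := Nat.card H) (fun hd => ?_), zero_add]
    exact hp.ne_one (Nat.eq_one_of_dvd_coprimes h.cop hd hpm)
  obtain ⟨P, hP⟩ := syl t hK
  obtain ⟨P', hP'⟩ := syl t' hK'
  obtain ⟨g, hg⟩ := MulAction.exists_smul_eq M P P'
  obtain ⟨⟨a, haP⟩, hane⟩ : ∃ a : (P : Subgroup M), a ≠ 1 := by
    refine Subgroup.ne_bot_iff_exists_ne_one.1 (P.ne_bot_of_dvd_card ?_)
    rw [h.card_M]; exact Dvd.dvd.mul_left hpm _
  have ha1 : (a : G) ≠ 1 := fun e => hane (Subtype.ext (Subtype.ext e))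
  have ha := Subgroup.mem_subgroupOf.1 (hP haP)
  have hbP : g * a * g⁻¹ ∈ (P' : Subgroup M) := by
    rw [← hg, Sylow.coe_subgroup_smul]
    exact ⟨_, haP, rfl⟩
  have hb : (g : G) * a * (g : G)⁻¹ ∈ M ⊓ M.map (MulAut.conj t').toMonoidHom :=
    Subgroup.mem_subgroupOf.1 (hP' hbP)
  refine ⟨g, g.2, h.eq_of_fix hb.1 (fun e => ha1 (conj_eq_one_iff.1 e)) ?_ hω' ?_ ?_⟩
  · intro e
    rw [smul_eq_iff_eq_inv_smul, (smul_pt_eq _).2 (M.inv_mem g.2)] at e
    exact hω e
  · rw [← mul_smul, show (g : G) * (a : G) * (g : G)⁻¹ * g = g * a by group, mul_smul, ← htω,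
      (smul_smul_pt_eq t (a : G)).2 ha.2]
  · rw [← ht'ω]
    exact (smul_smul_pt_eq t' _).2 hb.2

theorem exists_ne_pt (h : TIConfig M H z) : ∃ ω : G ⧸ M, ω ≠ pt M := by
  obtain ⟨t, -, htM⟩ := h.out
  exact ⟨t • pt M, fun e => htM ((smul_pt_eq t).1 e)⟩

/-- The degree is `|H| + 1`. -/
theorem index_eq (h : TIConfig M H z) (hm : 1 < m M H) : M.index = Nat.card H + 1 := by
  classical
  obtain ⟨ω, hω⟩ := h.exists_ne_pt
  obtain ⟨t, -, htM, htω, hK, -⟩ := h.exists_swap hω
  letI : Fintype (G ⧸ M) := Fintype.ofFinite _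
  have horb : MulAction.orbit M ω = {y : G ⧸ M | y ≠ pt M} := by
    ext y
    constructor
    · rintro ⟨g, rfl⟩ e
      change (g : G) • ω = pt M at e
      rw [smul_eq_iff_eq_inv_smul, (smul_pt_eq _).2 (M.inv_mem g.2)] at e
      exact hω e
    · intro hy
      obtain ⟨g, hg, e⟩ := h.exists_smul_eq hm hω hy
      exact ⟨⟨g, hg⟩, e⟩
  have hst : MulAction.stabilizer M ω = (M ⊓ M.map (MulAut.conj t).toMonoidHom).subgroupOf M := by
    ext g
    rw [MulAction.mem_stabilizer_iff, Subgroup.mem_subgroupOf, Subgroup.mem_inf, ← htω]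
    exact ⟨fun e => ⟨g.2, (smul_smul_pt_eq t _).1 e⟩, fun e => (smul_smul_pt_eq t _).2 e.2⟩
  have h1 := (MulAction.index_stabilizer M ω).symm
  rw [horb] at h1
  have h2 := (MulAction.stabilizer M ω).index_mul_card
  rw [← h1, hst, Nat.card_congr (Subgroup.subgroupOfEquivOfLe inf_le_left).toEquiv, hK, h.card_M] at h2
  have h3 : Set.ncard {y : G ⧸ M | y ≠ pt M} + 1 = M.index := by
    rw [Set.ncard_eq_toFinset_card', Subgroup.index, Nat.card_eq_fintype_card]
    simp only [Set.toFinset_setOf, Finset.filter_ne', Finset.card_erase_of_mem (Finset.mem_univ _),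
      Finset.card_univ]
    have := Fintype.card_pos_iff.2 ⟨pt M⟩
    omega
  rw [← h3, Nat.eq_of_mul_eq_mul_right m_pos h2]

/-- The order of the group. -/
theorem card_eq (h : TIConfig M H z) (hm : 1 < m M H) :
    Nat.card G = (Nat.card H + 1) * (Nat.card H * m M H) := by
  rw [← h.index_eq hm, ← h.card_M, Subgroup.index_mul_card]

/-- A faithful action gives a Zassenhaus group. -/
theorem zassenhaus (h : TIConfig M H z) (hm : 1 < m M H) [IsSimpleGroup G] :
    IsZassenhausGroup G (G ⧸ M) := by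
  have hMtop : M ≠ ⊤ := h.se.1
  have hpre : ∀ ω : G ⧸ M, ∃ g : G, g • pt M = ω := fun ω => MulAction.exists_smul_eq G (pt M) ω
  have hfaith : FaithfulSMul G (G ⧸ M) := by
    refine ⟨fun {g₁ g₂} h12 => ?_⟩
    have hk : (MulAction.toPermHom G (G ⧸ M)).ker = ⊥ := by
      rcases (MonoidHom.normal_ker (MulAction.toPermHom G (G ⧸ M))).eq_bot_or_eq_top with e | e
      · exact e
      · refine absurd (top_le_iff.1 ?_) hMtop
        rw [← e]
        intro g hg
        exact (smul_pt_eq g).1 (congrArg (fun p : Equiv.Perm (G ⧸ M) => p (pt M)) (MonoidHom.mem_ker.1 hg))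
    refine (MonoidHom.ker_eq_bot_iff _).1 hk (Equiv.ext fun y => ?_)
    exact h12 y
  obtain ⟨ω₁, hω₁⟩ := h.exists_ne_pt
  refine ⟨hfaith, ?_, ?_, ?_, ?_⟩
  · rw [MulAction.is_two_pretransitive_iff]
    intro a b c d hab hcd
    obtain ⟨g, rfl⟩ := hpre a
    obtain ⟨g', rfl⟩ := hpre c
    obtain ⟨e, he, hee⟩ := h.exists_smul_eq hm (ω := g⁻¹ • b) (ω' := g'⁻¹ • d)
      (fun h => hab (by rw [← h, smul_inv_smul]))
      (fun h => hcd (by rw [← h, smul_inv_smul]))
    refine ⟨g' * e * g⁻¹, ?_, ?_⟩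
    · rw [mul_smul, mul_smul, inv_smul_smul, (smul_pt_eq e).2 he]
    · rw [mul_smul, mul_smul, hee, smul_inv_smul]
  · intro g a b c hab hbc hac ha hb hc
    obtain ⟨u, rfl⟩ := hpre a
    by_contra hg
    have hmem : u⁻¹ * g * u ∈ M := by rw [← smul_pt_eq, mul_smul, mul_smul, ha, inv_smul_smul]
    refine hbc ?_
    have := h.eq_of_fix hmem (fun e => hg (by
        calc g = u * (u⁻¹ * g * u) * u⁻¹ := by group
          _ = 1 := by rw [e]; group)) (ω := u⁻¹ • b) (ω' := u⁻¹ • c)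
      (fun h => hab (by rw [← h, smul_inv_smul])) (fun h => hac (by rw [← h, smul_inv_smul]))
      (by rw [mul_smul, mul_smul, smul_inv_smul, hb]) (by rw [mul_smul, mul_smul, smul_inv_smul, hc])
    exact smul_left_cancel _ this
  · obtain ⟨t, -, -, htω, hK, -⟩ := h.exists_swap hω₁
    obtain ⟨⟨a, ha⟩, hane⟩ : ∃ a : ↥(M ⊓ M.map (MulAut.conj t).toMonoidHom), a ≠ 1 := by
      refine Subgroup.ne_bot_iff_exists_ne_one.1 fun e => ?_
      rw [e, Subgroup.card_bot] at hK
      exact hm.ne hK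
    exact ⟨a, fun e => hane (Subtype.ext e), pt M, ω₁, Ne.symm hω₁, (smul_pt_eq a).2 ha.1,
      htω ▸ (smul_smul_pt_eq t a).2 ha.2⟩
  · intro N hN hNt
    refine ⟨pt M, fun e => ?_⟩
    rcases hN.eq_bot_or_eq_top with hN' | hN'
    · subst hN'
      obtain ⟨⟨g, hg⟩, hgω⟩ := hNt.exists_smul_eq (pt M) ω₁
      rw [Subgroup.mem_bot] at hg
      subst hg
      exact hω₁ (hgω.symm.trans (one_smul G (pt M)))
    · have h1 : (⟨z, hN' ▸ Subgroup.mem_top z⟩ : N) ∈ MulAction.stabilizer N (pt M) :=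
        (smul_pt_eq z).2 (h.le h.mem_z)
      have h2 := Subgroup.mem_bot.1 (e.le h1)
      exact Involutions.ne_one h.z_ord (congrArg Subtype.val h2 :)

theorem psl_or_suzuki (h : TIConfig M H z) (hm : 1 < m M H) [IsSimpleGroup G] :
    (∃ (F : Type) (_ : Field F) (_ : Fintype F),
        Nonempty (G ≃* Matrix.ProjectiveSpecialLinearGroup (Fin 2) F)) ∨ IsSuzuki G :=
  Cfsg.Agent.S0340.result (h.zassenhaus hm)

end TIConfig

end CfsgLib.CIT
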