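import Cfsg.Agent.Lib.CIT.TI
import Cfsg.Agent.Lib.Frobenius.Kernel

/-!
CIT groups whose Sylow 2-subgroups meet trivially.
-/

set_option autoImplicit false

open Cfsg
open scoped Pointwise

namespace CfsgLib.CIT

variable {L : Type*} [Group L]

/-- Distinct Sylow `2`-subgroups meet trivially. -/
def TISylow (L : Type*) [Group L] : Prop :=
  ∀ S S' : Sylow 2 L, (S : Subgroup L) ⊓ S' ≠ ⊥ → S = S'

variable [Finite L]

/-- A `2`-element of the normaliser of a Sylow subgroup lies in it. -/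
theorem mem_sylow_of_mem_normalizer (S : Sylow 2 L) {a : L}
    (ha : a ∈ Subgroup.normalizer ((S : Subgroup L) : Set L))
    (h2 : IsPGroup 2 (Subgroup.zpowers a)) : a ∈ (S : Subgroup L) := by
  have h1 : IsPGroup 2 ↥(Subgroup.zpowers a ⊔ (S : Subgroup L)) :=
    h2.to_sup_of_normal_right' S.2 (Subgroup.zpowers_le.2 ha)
  rw [← S.3 h1 le_sup_right]
  exact le_sup_left (b := (S : Subgroup L)) (Subgroup.mem_zpowers a)

theorem isPGroup_zpowers_of_orderOf {a : L} (ha : orderOf a = 2) : IsPGroup 2 (Subgroup.zpowers a) :=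
  IsPGroup.of_card (n := 1) (by rw [pow_one, Nat.card_zpowers, ha])

theorem exists_central_involution (S : Sylow 2 L) (hne : (S : Subgroup L) ≠ ⊥) :
    ∃ z ∈ (S : Subgroup L), orderOf z = 2 ∧ ∀ a ∈ (S : Subgroup L), a * z = z * a := by
  have : Fact (Nat.Prime 2) := ⟨Nat.prime_two⟩
  have : Nontrivial (S : Subgroup L) := (Subgroup.nontrivial_iff_ne_bot _).2 hne
  have := S.2.center_nontrivial
  obtain ⟨n, hn, hc⟩ := (S.2.to_subgroup (Subgroup.center (S : Subgroup L))).nontrivial_iff_card.1 this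
  obtain ⟨z, hz⟩ := exists_prime_orderOf_dvd_card' (G := Subgroup.center (S : Subgroup L)) 2
    (hc ▸ dvd_pow_self 2 hn.ne')
  refine ⟨((z : (S : Subgroup L)) : L), (z : (S : Subgroup L)).2, ?_, fun a ha => ?_⟩
  · rw [Subgroup.orderOf_coe, Subgroup.orderOf_coe, hz]
  · exact congrArg Subtype.val (Subgroup.mem_center_iff.1 z.2 ⟨a, ha⟩)

theorem IsCIT.centralizer_eq_sylow (hL : IsCIT L) {S : Sylow 2 L} {z : L} (hz : orderOf z = 2)
    (hzS : ∀ a ∈ (S : Subgroup L), a * z = z * a) :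
    Subgroup.centralizer ({z} : Set L) = (S : Subgroup L) :=
  S.3 (hL z hz) fun a ha => Subgroup.mem_centralizer_singleton_iff.2 (hzS a ha)

theorem sylow_ne_bot (h2 : 2 ∣ Nat.card L) (S : Sylow 2 L) : (S : Subgroup L) ≠ ⊥ := by
  have : Fact (Nat.Prime 2) := ⟨Nat.prime_two⟩
  exact S.ne_bot_of_dvd_card h2

theorem TISylow.normalizer_ne_top (hO : pCore 2 L = ⊥) (h2 : 2 ∣ Nat.card L) (S : Sylow 2 L) :
    Subgroup.normalizer ((S : Subgroup L) : Set L) ≠ ⊤ := by
  have : Fact (Nat.Prime 2) := ⟨Nat.prime_two⟩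
  intro e
  refine sylow_ne_bot h2 S (le_bot_iff.1 (hO ▸ ?_))
  have : (S : Subgroup L).Normal := Subgroup.normalizer_eq_top_iff.1 e
  exact Cores.le_pCore S.2

theorem smul_eq_iff_mem_normalizer (S : Sylow 2 L) {g : L} :
    g • S = S ↔ g ∈ Subgroup.normalizer ((S : Subgroup L) : Set L) :=
  Sylow.smul_eq_iff_mem_normalizer

/-- The configuration of a CIT group with Sylow `2`-subgroups meeting trivially. -/
theorem TISylow.tiConfig (hTI : TISylow L) (hL : IsCIT L) (hO : pCore 2 L = ⊥)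
    (h2 : 2 ∣ Nat.card L) (S : Sylow 2 L) :
    ∃ z, z ∈ (S : Subgroup L) ∧ (∀ a ∈ (S : Subgroup L), a * z = z * a) ∧
      TIConfig (Subgroup.normalizer ((S : Subgroup L) : Set L)) (S : Subgroup L) z := by
  have : Fact (Nat.Prime 2) := ⟨Nat.prime_two⟩
  set M := Subgroup.normalizer ((S : Subgroup L) : Set L) with hM
  obtain ⟨z, hzS, hz, hzc⟩ := exists_central_involution S (sylow_ne_bot h2 S)
  have hMtop := TISylow.normalizer_ne_top hO h2 S
  -- a 2-element of `M` and of a conjugate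
  have key : ∀ g : L, g ∉ M → ∀ a ∈ M, IsPGroup 2 (Subgroup.zpowers a) →
      g⁻¹ * a * g ∈ M → a = 1 := by
    intro g hg a haM h2a hga
    by_contra ha1
    have h1 := mem_sylow_of_mem_normalizer S haM h2a
    have h2' : g⁻¹ * a * g ∈ (S : Subgroup L) := by
      refine mem_sylow_of_mem_normalizer S hga ?_
      have e : Subgroup.zpowers (g⁻¹ * a * g) = (Subgroup.zpowers a).map (MulAut.conj g⁻¹).toMonoidHom := by
        rw [MonoidHom.map_zpowers]; simp [mul_assoc]
      rw [e]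
      exact h2a.map _
    refine hg ((smul_eq_iff_mem_normalizer S).1 (hTI _ _ ?_))
    intro hbot
    refine ha1 (Subgroup.mem_bot.1 (hbot ▸ ⟨?_, h1⟩))
    rw [SetLike.mem_coe, Sylow.coe_subgroup_smul]
    exact ⟨_, h2', by simp [mul_assoc]⟩
  obtain ⟨g, hg⟩ : ∃ g, g ∉ M := by
    by_contra! hall
    exact hMtop ((Subgroup.eq_top_iff' M).2 hall)
  have hSM : (S : Subgroup L) ≤ M := Subgroup.le_normalizer
  refine ⟨z, hzS, hzc, ⟨⟨hMtop, ?_, fun g hg => ?_⟩, ⟨g * z * g⁻¹, ?_, fun hmem => ?_⟩, hSM, le_rfl, hz,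
    hL.centralizer_eq_sylow hz hzc, fun g hg => ?_, ?_⟩⟩
  · exact even_iff_two_dvd.2 (hz ▸ Subgroup.orderOf_dvd_natCard M (hSM hzS))
  · refine Nat.not_even_iff_odd.1 fun he => ?_
    obtain ⟨⟨a, ha⟩, hao⟩ := exists_prime_orderOf_dvd_card'
      (G := ↥(M ⊓ M.map (MulAut.conj g).toMonoidHom)) 2 he.two_dvd
    rw [Subgroup.orderOf_mk] at hao
    have := key g hg a ha.1 (isPGroup_zpowers_of_orderOf hao) (Involutions.mem_map_conj.1 ha.2)
    rw [this, orderOf_one] at hao
    omega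
  · rw [Involutions.orderOf_conj, hz]
  · have := key g hg _ hmem (isPGroup_zpowers_of_orderOf (by rw [Involutions.orderOf_conj, hz]))
      (by simpa [mul_assoc] using hSM hzS)
    exact Involutions.ne_one hz (conj_eq_one_iff.1 this)
  · rw [Subgroup.eq_bot_iff_forall]
    rintro a ⟨haS, ha⟩
    refine key g hg a (hSM haS) (S.2.to_le (Subgroup.zpowers_le.2 haS)) (Involutions.mem_map_conj.1 ha)
  · obtain ⟨n, hn⟩ := IsPGroup.iff_card.1 S.2
    rw [hn]
    refine Nat.Coprime.pow_left n ?_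
    exact (Nat.Prime.coprime_iff_not_dvd Nat.prime_two).2 fun h =>
      S.not_dvd_index (h.trans (Subgroup.relIndex_dvd_index_of_le hSM))

/-- If the normaliser of `S` is `S`, there is a normal complement. -/
theorem TISylow.exists_complement (hTI : TISylow L) (hL : IsCIT L) (hO : pCore 2 L = ⊥)
    (h2 : 2 ∣ Nat.card L) (S : Sylow 2 L)
    (hm : TIConfig.m (Subgroup.normalizer ((S : Subgroup L) : Set L)) (S : Subgroup L) = 1) :
    ∃ N : Subgroup L, N.Normal ∧ Odd (Nat.card N) ∧ N ≠ ⊥ := by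
  have : Fact (Nat.Prime 2) := ⟨Nat.prime_two⟩
  obtain ⟨z, hzS, -, hc⟩ := hTI.tiConfig hL hO h2 S
  have hMS : Subgroup.normalizer ((S : Subgroup L) : Set L) = (S : Subgroup L) :=
    le_antisymm (Subgroup.relIndex_eq_one.1 hm) hc.le
  have hFC : IsFrobeniusComplement (S : Subgroup L) := by
    refine ⟨sylow_ne_bot h2 S, hMS ▸ hc.se.1, fun g hg => ?_⟩
    have := hc.disj g (by rwa [hMS])
    rw [hMS] at this
    rw [Subgroup.eq_bot_iff_forall]
    rintro a ⟨ha, hb⟩
    obtain ⟨b, hb', rfl⟩ := hb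
    exact Subgroup.mem_bot.1 (this ▸ ⟨ha, ⟨b, hb', rfl⟩⟩)
  obtain ⟨N, -, hN, hcomp⟩ := CfsgLib.Frobenius.exists_kernel hFC
  refine ⟨N, hN, ?_, fun e => ?_⟩
  · have h3 := hcomp.index_eq_card
    have h4 : Nat.card N = (S : Subgroup L).index := hcomp.index_eq_card.symm
    rw [h4]
    exact Nat.not_even_iff_odd.1 fun he => S.not_dvd_index he.two_dvd
  · have := hcomp.card_mul
    rw [e, Subgroup.card_bot, one_mul] at this
    exact hc.se.1 (hMS.trans (Subgroup.eq_top_of_card_eq _ this))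

end CfsgLib.CIT
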