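import Cfsg.Agent.Lib.CIT.Local
import Cfsg.Agent.Lib.CIT.Natural2

/-!
The kinds of maximal 2-locals which are not 2-closed.
-/

set_option autoImplicit false

open Cfsg CfsgLib.PrimeElementOrders

namespace CfsgLib.CIT

universe u

variable {G : Type u} [Group G]

/-- A maximal 2-local with a Sylow 2-subgroup bigger than the core. -/
structure LocData (M T : Subgroup G) : Prop where
  maxLoc : IsMaxLoc M
  T_le : T ≤ M
  T_two : IsPGroup 2 T
  T_max : ∀ R : Subgroup G, IsPGroup 2 R → T ≤ R → R ≤ M → R = T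
  ne : T ≠ pCoreOf 2 M

theorem LocData.core_le {M T : Subgroup G} (h : LocData M T) : pCoreOf 2 M ≤ T :=
  core_le_of_max h.T_le h.T_two h.T_max

theorem LocData.exists_notMem {M T : Subgroup G} (h : LocData M T) : ∃ τ ∈ T, τ ∉ pCoreOf 2 M := by
  by_contra! hall
  exact h.ne (le_antisymm hall h.core_le)

theorem card_mul_card_le [Finite G] (H K : Subgroup G) :
    Nat.card H * Nat.card K ≤ Nat.card ↥(H ⊔ K) * Nat.card ↥(H ⊓ K) := by
  have h1 := ((H ⊓ K).subgroupOf H).index_mul_card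
  rw [Nat.card_congr (Subgroup.subgroupOfEquivOfLe inf_le_left).toEquiv, ← Subgroup.relIndex,
    Subgroup.inf_relIndex_left] at h1
  have h2 := (K.subgroupOf (H ⊔ K)).index_mul_card
  rw [Nat.card_congr (Subgroup.subgroupOfEquivOfLe (le_sup_right : K ≤ H ⊔ K)).toEquiv,
    ← Subgroup.relIndex] at h2
  have h3 : K.relIndex H ≤ K.relIndex (H ⊔ K) :=
    Subgroup.relIndex_le_of_le_right le_sup_left Subgroup.index_ne_zero_of_finite
  rw [← h1, ← h2]
  calc K.relIndex H * Nat.card ↥(H ⊓ K) * Nat.card K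
      = K.relIndex H * Nat.card K * Nat.card ↥(H ⊓ K) := by ring
    _ ≤ _ := Nat.mul_le_mul_right _ (Nat.mul_le_mul_right _ h3)

/-- The Sylow subgroup of the quotient given by `T`. -/
theorem LocData.exists_qt_sylow [Finite G] {M T : Subgroup G} (h : LocData M T) :
    ∃ S : Sylow 2 (Qt M), ∀ m : M,
      (QuotientGroup.mk m : Qt M) ∈ (S : Subgroup (Qt M)) ↔ (m : G) ∈ T := by
  set π := QuotientGroup.mk' (pCore 2 M)
  have hT : IsPGroup 2 (T.subgroupOf M) := h.T_two.comap_of_injective M.subtype M.subtype_injective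
  have hker : π.ker ≤ T.subgroupOf M := by
    rw [QuotientGroup.ker_mk']
    exact fun m hm => h.core_le ((mem_pCoreOf_iff m).2 hm)
  obtain ⟨S, hS⟩ := (hT.map π).exists_le_sylow
  have hP : IsPGroup 2 ((S : Subgroup (Qt M)).comap π) :=
    S.2.comap_of_ker_isPGroup π (by rw [QuotientGroup.ker_mk']; exact Cores.isPGroup_pCore 2 M)
  have heq : ((S : Subgroup (Qt M)).comap π).map M.subtype = T := h.T_max _ (hP.map _)
    (fun t ht => ⟨⟨t, h.T_le ht⟩, hS ⟨⟨t, h.T_le ht⟩, ht, rfl⟩, rfl⟩) (Subgroup.map_subtype_le _)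
  refine ⟨S, fun m => ⟨fun hm => heq ▸ ⟨m, hm, rfl⟩, fun hm => ?_⟩⟩
  exact hS ⟨m, hm, rfl⟩

/-- The quotient is a simple group with trivially intersecting Sylow subgroups and `m > 1`. -/
structure SimpleData (M T : Subgroup G) : Prop where
  loc : LocData M T
  eset : ∀ S : Sylow 2 (Qt M), ∃ z, ESetup S z

/-- The quotient has cyclic Sylow subgroups. -/
structure CycData (M T : Subgroup G) : Prop where
  loc : LocData M T
  gen : ∃ s ∈ T, ∀ τ ∈ T, ∃ i : ℕ, (s ^ i)⁻¹ * τ ∈ pCoreOf 2 M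
  big : 4 < Nat.card (omegaZ (pCoreOf 2 M))

variable [Finite G]

theorem card_even_qt {M T : Subgroup G} (h : LocData M T) : 2 ∣ Nat.card (Qt M) := by
  obtain ⟨S, hS⟩ := h.exists_qt_sylow
  obtain ⟨τ, hτT, hτD⟩ := h.exists_notMem
  have h1 := two_dvd_orderOf_of_mem S.2 ((hS ⟨τ, h.T_le hτT⟩).2 hτT)
    fun e => hτD ((qmk_eq_one_iff _).1 e)
  exact h1.trans (orderOf_dvd_natCard _)

theorem LocData.omegaZ_T_le {M T : Subgroup G} (hC : Ctx G) (h : LocData M T) :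
    omegaZ T ≤ omegaZ (pCoreOf 2 M) :=
  omegaZ_top_le h.core_le (hC.centralizer_core_le h.maxLoc)

/-- Elements of `T` outside the core fix at most the root. -/
theorem LocData.sq_le {M T : Subgroup G} (hC : Ctx G) (h : LocData M T) {τ : G} (hτ : τ ∈ T)
    (hτD : τ ∉ pCoreOf 2 M) {X A : Subgroup G} (hX : X ≤ pCoreOf 2 M)
    (hMX : ∀ m ∈ M, ∀ a ∈ X, m * a * m⁻¹ ∈ X) (hA : A ≤ X) (hc : ∀ a ∈ A, Commute a τ) :
    Nat.card A ^ 2 ≤ Nat.card X := by
  set τ' : M := ⟨τ, h.T_le hτ⟩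
  obtain ⟨S, hS⟩ := h.exists_qt_sylow
  have h1 : 2 ∣ orderOf (QuotientGroup.mk τ' : Qt M) :=
    two_dvd_orderOf_of_mem S.2 ((hS τ').2 hτ) fun e => hτD ((qmk_eq_one_iff _).1 e)
  set n := orderOf (QuotientGroup.mk τ' : Qt M) / 2
  have h2 : orderOf (QuotientGroup.mk (τ' ^ n) : Qt M) = 2 := by
    rw [QuotientGroup.mk_pow]; exact orderOf_pow_orderOf_div (orderOf_pos _).ne' h1
  obtain ⟨x, hxo, hxD, hinv⟩ := exists_inverted_qt h2
  exact hC.sq_le hxD hxo hinv hX (fun a ha => hMX x x.2 a ha) hA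
    fun a ha => by rw [Subgroup.coe_pow]; exact (hc a ha).pow_right _

theorem LocData.sq_le_omega {M T : Subgroup G} (hC : Ctx G) (h : LocData M T) {τ : G} (hτ : τ ∈ T)
    (hτD : τ ∉ pCoreOf 2 M) {A : Subgroup G} (hA : A ≤ omegaZ (pCoreOf 2 M))
    (hc : ∀ a ∈ A, Commute a τ) : Nat.card A ^ 2 ≤ Nat.card (omegaZ (pCoreOf 2 M)) :=
  h.sq_le hC hτ hτD (omegaZ_le _)
    (fun _ hm _ ha => normalizer_le_omegaZ (le_normalizer_pCoreOf M hm) ha) hA hc

/-- An involution outside the core. -/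
theorem LocData.exists_invol {M T : Subgroup G} (hC : Ctx G) (h : LocData M T) :
    ∃ τ ∈ M, τ ∉ pCoreOf 2 M ∧ orderOf τ = 2 := by
  obtain ⟨t, ht⟩ := exists_prime_orderOf_dvd_card' (G := Qt M) 2 (card_even_qt h)
  obtain ⟨τ, hτ, hτo⟩ := hC.exists_invol_lift t ht
  refine ⟨τ, τ.2, fun hmem => ?_, hτo⟩
  rw [(qmk_eq_one_iff τ).2 hmem] at hτ
  rw [← hτ, orderOf_one] at ht
  omega

/-- The order of `Ω₁Z(D)` is a square. -/
theorem LocData.exists_sq {M T : Subgroup G} (hC : Ctx G) (h : LocData M T) :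
    ∃ n : ℕ, 1 ≤ n ∧ Nat.card (omegaZ (pCoreOf 2 M)) = (2 ^ n) ^ 2 := by
  have := nontrivial_vm h.maxLoc
  obtain ⟨t, ht⟩ := exists_prime_orderOf_dvd_card' (G := Qt M) 2 (card_even_qt h)
  obtain ⟨x, hxo, hxD, hinv⟩ := exists_inverted_qt ht
  have hxodd : Odd (orderOf (QuotientGroup.mk x : Qt M)) := by
    refine hxo.of_dvd_nat ?_
    rw [Subgroup.orderOf_coe]
    exact orderOf_map_dvd (QuotientGroup.mk' _) x
  have h1 := ((hC.fpfAct M).card_fixSub_sq ht hxodd (fun e => hxD ((qmk_eq_one_iff x).1 e)) hinv).1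
  obtain ⟨n, hn⟩ := IsPGroup.iff_card.1
    (((isPGroup_pCoreOf M).to_le (omegaZ_le _)).to_subgroup (fixSub (Vm M) t))
  refine ⟨n, Nat.one_le_iff_ne_zero.2 fun e => ?_, by rw [← hn, h1]⟩
  rw [hn, e, pow_zero, one_pow] at h1
  exact absurd h1.symm (Finite.one_lt_card (α := Vm M)).ne'

/-- An elementary subgroup of maximal order and the centre of the core. -/
theorem LocData.offender_bound {M T A : Subgroup G} (h : LocData M T)
    (hA : ThompsonJ.IsMaxEA 2 T A) :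
    Nat.card (omegaZ (pCoreOf 2 M)) * Nat.card ↥(A ⊓ pCoreOf 2 M) ≤
      Nat.card A * Nat.card ↥(omegaZ (pCoreOf 2 M) ⊓ A) := by
  set D := pCoreOf 2 M
  set W := omegaZ D
  have hWe : IsElementaryAbelian 2 W := ThompsonJ.isElementaryAbelian_iff.2
    ⟨fun a ha b hb => (ha.2.2 b hb.1).symm, fun a ha => by rw [pow_two]; exact ha.2.1⟩
  have hHe : IsElementaryAbelian 2 (A ⊓ D) := ThompsonJ.isElementaryAbelian_mono hA.elem inf_le_left
  have h1 := hA.card_le (W ⊔ A ⊓ D) (sup_le ((omegaZ_le D).trans h.core_le)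
    (inf_le_left.trans hA.le)) (ThompsonJ.isElementaryAbelian_sup hWe hHe fun a ha => by
      rw [Subgroup.mem_centralizer_iff]
      exact fun b hb => (ha.2.2 b hb.2).symm)
  refine (card_mul_card_le W (A ⊓ D)).trans (Nat.mul_le_mul h1 ?_)
  exact Subgroup.card_le_of_le (inf_le_inf_left W inf_le_left)

/-- A maximal 2-local with `|Ω₁Z(D)| ≤ 4`. -/
theorem LocData.small {M T : Subgroup G} (hC : Ctx G) (h : LocData M T)
    (h4 : Nat.card (omegaZ (pCoreOf 2 M)) ≤ 4) : ∃ x s, Local1 M 3 x s T 1 := by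
  classical
  have := nontrivial_vm h.maxLoc
  obtain ⟨n, hn1, hn⟩ := h.exists_sq hC
  have hV : Nat.card (Vm M) = 4 := by
    rcases n with _ | _ | n
    · omega
    · simpa using hn
    · rw [hn] at h4
      have := Nat.pow_le_pow_right two_pos (show 2 ≤ n + 1 + 1 by omega)
      nlinarith
  have hO := pCore_qt_eq_bot M
  have hfaith : ∀ a : Qt M, (∀ v : Vm M, a • v = v) → a = 1 := fun a =>
    (hC.fpfAct M).eq_one_of_trivial hO
  let P := {v : Vm M // v ≠ 1}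
  let ρ : Qt M → Equiv.Perm P := fun a =>
    { toFun := fun v => ⟨a • (v : Vm M), fun e => v.2 (by rwa [smul_eq_iff_eq_inv_smul, smul_one] at e)⟩
      invFun := fun v => ⟨a⁻¹ • (v : Vm M), fun e => v.2 (by rwa [smul_eq_iff_eq_inv_smul, smul_one] at e)⟩
      left_inv := fun v => Subtype.ext (inv_smul_smul a _)
      right_inv := fun v => Subtype.ext (smul_inv_smul a _) }
  have hρ : Function.Injective ρ := by
    intro a b e
    refine (inv_mul_eq_one.1 (hfaith (b⁻¹ * a) fun v => ?_)).symm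
    by_cases hv : v = 1
    · rw [hv, smul_one]
    have h2 : a • v = b • v := congrArg (fun π : Equiv.Perm P => ((π ⟨v, hv⟩ : P) : Vm M)) e
    rw [mul_smul, h2, inv_smul_smul]
  have hP : Nat.card P = 3 := by
    letI : Fintype (Vm M) := Fintype.ofFinite _
    rw [Nat.card_eq_fintype_card, Fintype.card_subtype_compl, Fintype.card_subtype_eq,
      ← Nat.card_eq_fintype_card, hV]
  have h6 : Nat.card (Qt M) ≤ 6 := by
    refine (Nat.card_le_card_of_injective ρ hρ).trans ?_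
    rw [Nat.card_perm, hP]
    decide
  obtain ⟨t, ht⟩ := exists_prime_orderOf_dvd_card' (G := Qt M) 2 (card_even_qt h)
  obtain ⟨x₀, hx₀o, hx₀D, hinv⟩ := exists_inverted_qt ht
  set ξ : Qt M := QuotientGroup.mk x₀ with hξ
  have hξodd : Odd (orderOf ξ) := by
    refine hx₀o.of_dvd_nat ?_
    rw [Subgroup.orderOf_coe]
    exact orderOf_map_dvd (QuotientGroup.mk' _) x₀
  have hcard : Nat.card (Qt M) = 6 ∧ orderOf ξ = 3 := by
    have h1 := orderOf_dvd_natCard ξ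
    have h2 := card_even_qt h
    have h3 := orderOf_pos ξ
    have h4 : orderOf ξ ≠ 1 := fun e => hx₀D ((qmk_eq_one_iff x₀).1 (orderOf_eq_one_iff.1 e))
    have h5 : 2 * orderOf ξ ∣ Nat.card (Qt M) :=
      (Nat.coprime_two_left.2 hξodd).mul_dvd_of_dvd_of_dvd h2 h1
    have h7 := Nat.le_of_dvd Nat.card_pos h5
    obtain ⟨j, hj⟩ := hξodd
    have h8 : orderOf ξ = 3 := by omega
    rw [h8] at h5
    have := Nat.le_of_dvd Nat.card_pos h5
    exact ⟨by omega, h8⟩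
  obtain ⟨x, hxξ, hxo⟩ := exists_odd_lift ξ hξodd
  rw [hcard.2] at hxo
  obtain ⟨S, hS⟩ := h.exists_qt_sylow
  obtain ⟨s, hsT, hsD⟩ := h.exists_notMem
  have hS2 : Nat.card (S : Subgroup (Qt M)) = 2 := by
    obtain ⟨j, hj⟩ := IsPGroup.iff_card.1 S.2
    have h1 := Subgroup.card_subgroup_dvd_card (S : Subgroup (Qt M))
    rw [hcard.1, hj] at h1
    have h2 : 2 ∣ Nat.card (S : Subgroup (Qt M)) := by
      have := Subgroup.orderOf_dvd_natCard (S : Subgroup (Qt M)) ((hS ⟨s, h.T_le hsT⟩).2 hsT)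
      exact (two_dvd_orderOf_of_mem S.2 ((hS ⟨s, h.T_le hsT⟩).2 hsT)
        fun e => hsD ((qmk_eq_one_iff _).1 e)).trans this
    have h3 := Nat.le_of_dvd (by norm_num) h1
    rcases j with _ | _ | _ | j
    · rw [hj] at h2; norm_num at h2
    · simpa using hj
    · norm_num at h1
    · have := Nat.pow_le_pow_right two_pos (show 3 ≤ j + 1 + 1 + 1 by omega)
      omega
  have hpar : ∀ τ ∈ T, τ ∉ pCoreOf 2 M → ∀ τ' ∈ T, τ' ∉ pCoreOf 2 M → τ⁻¹ * τ' ∈ pCoreOf 2 M := by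
    intro τ hτ hτD τ' hτ' hτ'D
    set a : (S : Subgroup (Qt M)) := ⟨_, (hS ⟨τ, h.T_le hτ⟩).2 hτ⟩
    set b : (S : Subgroup (Qt M)) := ⟨_, (hS ⟨τ', h.T_le hτ'⟩).2 hτ'⟩
    have ha : a ≠ 1 := fun e => hτD ((qmk_eq_one_iff _).1 (congrArg Subtype.val e))
    have hb : b ≠ 1 := fun e => hτ'D ((qmk_eq_one_iff _).1 (congrArg Subtype.val e))
    have hab : a = b := by
      by_contra hne
      letI : Fintype (S : Subgroup (Qt M)) := Fintype.ofFinite _
      have h1 : ({1, a, b} : Finset (S : Subgroup (Qt M))).card ≤ Fintype.card (S : Subgroup (Qt M)) :=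
        Finset.card_le_univ _
      rw [Finset.card_insert_of_notMem (by simp [Ne.symm ha, Ne.symm hb]),
        Finset.card_insert_of_notMem (by simp [hne]), Finset.card_singleton,
        ← Nat.card_eq_fintype_card, hS2] at h1
      omega
    have h2 := QuotientGroup.eq.1 (congrArg Subtype.val hab)
    exact (mem_pCoreOf_iff _).2 h2
  have hs2 : s ^ 2 ∈ pCoreOf 2 M := by
    by_contra hne
    refine hsD ?_
    have := hpar s hsT hsD (s ^ 2) (T.pow_mem hsT 2) hne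
    rwa [pow_two, inv_mul_cancel_left] at this
  have hdvd : ∀ i : ℕ, s ^ i ∈ pCoreOf 2 M → 2 ^ 1 ∣ i := by
    intro i hi
    rw [pow_one]
    obtain ⟨j, rfl | rfl⟩ := Nat.even_or_odd' i
    · exact dvd_mul_right 2 j
    · refine absurd ?_ hsD
      rw [pow_succ, pow_mul] at hi
      simpa using mul_mem (Subgroup.inv_mem _ (Subgroup.pow_mem _ hs2 j)) hi
  refine ⟨x, s, h.maxLoc, Nat.prime_three, by norm_num, by norm_num, x.2, hxo, h.T_le, h.T_two,
    h.T_max, h.core_le, le_rfl, hsT, by simpa using hs2, hdvd, fun τ hτ => ?_, by norm_num, ?_, ?_,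
    hC.centralizer_core_le h.maxLoc, h.exists_invol hC⟩
  · by_cases hτD : τ ∈ pCoreOf 2 M
    · exact ⟨0, by simpa using hτD⟩
    · exact ⟨1, by rw [pow_one]; exact hpar s hsT hsD τ hτ hτD⟩
  · intro a ha hax
    exact hC.cit.fpf (isPGroup_pCoreOf M) ha (hxo.symm ▸ by decide)
      (fun e => by rw [e, orderOf_one] at hxo; omega) hax
  · intro τ hτ hτD a ha h1 h2
    set τ' : M := ⟨τ, h.T_le hτ⟩
    have hτ1 : (QuotientGroup.mk τ' : Qt M) ≠ 1 := fun e => hτD ((qmk_eq_one_iff τ').1 e)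
    have hw3 : (QuotientGroup.mk (x * τ' * x⁻¹ * τ'⁻¹) : Qt M) ≠ 1 := by
      intro e
      rw [QuotientGroup.mk_mul, QuotientGroup.mk_mul, QuotientGroup.mk_mul, QuotientGroup.mk_inv,
        QuotientGroup.mk_inv, hxξ] at e
      have hc : Commute ξ (QuotientGroup.mk τ' : Qt M) := by
        have := mul_inv_eq_one.1 e
        exact mul_inv_eq_iff_eq_mul.1 this
      have h5 := (hC.cit_qt M).eq_one_of_commute
        (two_dvd_orderOf_of_mem S.2 ((hS τ').2 hτ) hτ1) hξodd hc.symm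
      rw [h5, orderOf_one] at hcard
      omega
    have hw : ∀ k : ℕ, ((x * τ' * x⁻¹ * τ'⁻¹ : M) : G) ^ k ≠ 1 ∨ ¬ ∃ j, k = 2 ^ j := by
      intro k
      by_contra hcon
      push Not at hcon
      obtain ⟨hk, j, rfl⟩ := hcon
      have h6 : (QuotientGroup.mk (x * τ' * x⁻¹ * τ'⁻¹) : Qt M) ^ 2 ^ j = 1 := by
        rw [← QuotientGroup.mk_pow, qmk_eq_one_iff, Subgroup.coe_pow, hk]
        exact one_mem _
      have h7 : orderOf (QuotientGroup.mk (x * τ' * x⁻¹ * τ'⁻¹) : Qt M) ∣ orderOf ξ := by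
        refine orderOf_dvd_of_pow_eq_one ?_
        set B := Subgroup.zpowers ξ
        have : B.Normal := by
          refine Subgroup.normal_of_index_eq_two ?_
          have h8 := B.index_mul_card
          rw [Nat.card_zpowers, hcard.1, hcard.2] at h8
          omega
        obtain ⟨l, hl⟩ : (QuotientGroup.mk (x * τ' * x⁻¹ * τ'⁻¹) : Qt M) ∈ B := by
          rw [show x * τ' * x⁻¹ * τ'⁻¹ = x * (τ' * x⁻¹ * τ'⁻¹) by group, QuotientGroup.mk_mul,
            QuotientGroup.mk_mul, QuotientGroup.mk_mul, QuotientGroup.mk_inv, QuotientGroup.mk_inv, hxξ]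
          exact B.mul_mem (Subgroup.mem_zpowers ξ) (this.conj_mem _ (B.inv_mem (Subgroup.mem_zpowers ξ)) _)
        rw [← hl, ← zpow_natCast, ← zpow_mul, mul_comm, zpow_mul, zpow_natCast, pow_orderOf_eq_one,
          one_zpow]
      have h9 := Nat.dvd_gcd (orderOf_dvd_of_pow_eq_one h6) h7
      rw [hcard.2, (Nat.Coprime.pow_left j (by norm_num : Nat.Coprime 2 3)).gcd_eq_one,
        Nat.dvd_one, orderOf_eq_one_iff] at h9
      exact hw3 h9
    set w : G := ((x * τ' * x⁻¹ * τ'⁻¹ : M) : G)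
    obtain ⟨k, m, hm, hkm⟩ := Nat.exists_eq_two_pow_mul_odd (orderOf_pos w).ne'
    have ho : orderOf (w ^ 2 ^ k) = m := by
      rw [orderOf_pow' _ (pow_ne_zero k two_ne_zero), hkm, Nat.gcd_mul_right_left,
        Nat.mul_div_cancel_left _ (Nat.two_pow_pos k)]
    refine hC.cit.fpf (isPGroup_pCoreOf M) ha (x := w ^ 2 ^ k) (ho.symm ▸ hm)
      ((hw (2 ^ k)).resolve_right (not_not_intro ⟨k, rfl⟩)) ?_
    exact (h2.mul_right h1.inv_right).pow_right _

/-- A cyclic quotient Sylow subgroup and `|Ω₁Z(D)| > 4`: no offender. -/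
theorem CycData.thompson_le {M T : Subgroup G} (hC : Ctx G) (h : CycData M T) :
    thompsonSubgroupOf 2 T ≤ pCoreOf 2 M := by
  rw [ThompsonJ.thompsonSubgroupOf_le_iff]
  intro A hA
  by_contra hAD
  obtain ⟨τ, hτA, hτD⟩ := SetLike.not_le_iff_exists.1 hAD
  obtain ⟨s, hsT, hgen⟩ := h.gen
  obtain ⟨S, hS⟩ := h.loc.exists_qt_sylow
  set σ : Qt M := QuotientGroup.mk (⟨s, h.loc.T_le hsT⟩ : M)
  have hpow : ∀ a (ha : a ∈ T), ∃ i : ℕ,
      (QuotientGroup.mk (⟨a, h.loc.T_le ha⟩ : M) : Qt M) = σ ^ i := by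
    intro a ha
    obtain ⟨i, hi⟩ := hgen a ha
    refine ⟨i, ?_⟩
    rw [← QuotientGroup.mk_pow, eq_comm, QuotientGroup.eq]
    exact (mem_pCoreOf_iff _).1 hi
  have hAe := ThompsonJ.isElementaryAbelian_iff.1 hA.elem
  have hAz : ∀ a ∈ A, a ∉ pCoreOf 2 M → ∀ ha : a ∈ T,
      (QuotientGroup.mk (⟨a, h.loc.T_le ha⟩ : M) : Qt M) = σ ^ (orderOf σ / 2) ∧ 2 ∣ orderOf σ := by
    intro a haA haD ha
    obtain ⟨i, hi⟩ := hpow a ha
    set α : Qt M := QuotientGroup.mk (⟨a, h.loc.T_le ha⟩ : M)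
    have hα1 : α ≠ 1 := fun e => haD ((qmk_eq_one_iff _).1 e)
    have hα2 : α ^ 2 = 1 := by
      rw [← QuotientGroup.mk_pow, qmk_eq_one_iff, Subgroup.coe_pow]
      show a ^ 2 ∈ _
      rw [hAe.2 a haA]; exact one_mem _
    rw [hi, ← pow_mul] at hα2
    obtain ⟨c, hc⟩ := orderOf_dvd_of_pow_eq_one hα2
    rw [hi, ← pow_mod_orderOf] at hα1 ⊢
    have hlt := Nat.mod_lt i (orderOf_pos σ)
    have hne : i % orderOf σ ≠ 0 := fun e => hα1 (by rw [e, pow_zero])
    have hmod := Nat.div_add_mod i (orderOf σ)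
    set q := i / orderOf σ
    have h5 : i % orderOf σ * 2 = orderOf σ := by
      have hd : orderOf σ ∣ i % orderOf σ * 2 := by
        refine (Nat.dvd_add_right (Dvd.intro (q * 2) rfl)).1 ⟨c, ?_⟩
        nlinarith [hmod, hc]
      obtain ⟨e, he⟩ := hd
      rcases e with _ | _ | e
      · omega
      · omega
      · nlinarith
    exact ⟨by congr 1; omega, ⟨i % orderOf σ, by omega⟩⟩
  have hprod : ∀ a ∈ A, ∀ b ∈ A, a ∉ pCoreOf 2 M → b ∉ pCoreOf 2 M → a * b ∈ pCoreOf 2 M := by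
    intro a ha b hb haD hbD
    obtain ⟨e1, hev⟩ := hAz a ha haD (hA.le ha)
    obtain ⟨e2, -⟩ := hAz b hb hbD (hA.le hb)
    refine (qmk_eq_one_iff (⟨a, h.loc.T_le (hA.le ha)⟩ * ⟨b, h.loc.T_le (hA.le hb)⟩ : M)).1 ?_
    rw [QuotientGroup.mk_mul, e1, e2, ← pow_add, ← two_mul, Nat.mul_div_cancel' hev,
      pow_orderOf_eq_one]
  have h1 : Nat.card A ≤ 2 * Nat.card ↥(A ⊓ pCoreOf 2 M) := card_le_two_mul hprod
  have h2 := h.loc.offender_bound hA
  have h3 := h.loc.sq_le_omega hC (hA.le hτA) hτD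
    (A := omegaZ (pCoreOf 2 M) ⊓ A) inf_le_left fun a ha => ThompsonJ.isElementaryAbelian_comm hA.elem ha.2 hτA
  have h4 := h.big
  have h5 : Nat.card (omegaZ (pCoreOf 2 M)) ≤ 2 * Nat.card ↥(omegaZ (pCoreOf 2 M) ⊓ A) := by
    refine Nat.le_of_mul_le_mul_right (h2.trans ?_) (Nat.card_pos (α := ↥(A ⊓ pCoreOf 2 M)))
    rw [mul_assoc, mul_comm (Nat.card ↥(omegaZ _ ⊓ A)) _, ← mul_assoc]
    exact Nat.mul_le_mul_right _ h1
  nlinarith

/-- With a simple quotient more than two elements of `Ω₁Z(D)` are central in `T`. -/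
theorem SimpleData.two_lt_center {M T : Subgroup G} (hC : Ctx G) (h : SimpleData M T) :
    2 < Nat.card (omegaZ T) := by
  have := nontrivial_vm h.loc.maxLoc
  obtain ⟨S, hS⟩ := h.loc.exists_qt_sylow
  obtain ⟨z, E⟩ := h.eset S
  set W := fixedBy (Vm M) (S : Subgroup (Qt M))
  have hWT : ∀ v ∈ W, (v : G) ∈ omegaZ T := by
    intro v hv
    refine ⟨h.loc.core_le v.2.1, v.2.2.1, fun τ hτ => ?_⟩
    exact ((smul_mk_eq_iff ⟨τ, h.loc.T_le hτ⟩ v).1 (hv _ ((hS _).2 hτ))).eq.symm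
  refine lt_of_lt_of_le ?_ (Nat.card_le_card_of_injective
    (fun v : W => (⟨((v : Vm M) : G), hWT v v.2⟩ : omegaZ T))
    fun a b e => Subtype.ext (Subtype.ext (congrArg Subtype.val e :)))
  by_contra hle
  push Not at hle
  obtain ⟨v, hv, hv1⟩ := exists_fixedBy_ne_one (hC.fpfAct M) (S : Subgroup (Qt M)) S.2
  obtain ⟨ω, hω⟩ := E.conf.exists_ne_pt
  obtain ⟨D, hDM, -, hcard, hodd, -⟩ := E.exists_torus hω
  obtain ⟨⟨d, hd⟩, hd1⟩ : ∃ d : D, d ≠ 1 := by
    refine Subgroup.ne_bot_iff_exists_ne_one.1 fun e => ?_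
    rw [e, Subgroup.card_bot] at hcard
    exact E.one_lt.ne hcard
  have hdv : d • v = v := by
    by_contra hne
    classical
    letI : Fintype W := Fintype.ofFinite _
    have h1 : ({1, ⟨v, hv⟩, ⟨d • v, smul_mem_fixedBy (hDM hd) hv⟩} : Finset W).card ≤ Fintype.card W :=
      Finset.card_le_univ _
    rw [Finset.card_insert_of_notMem, Finset.card_insert_of_notMem, Finset.card_singleton,
      ← Nat.card_eq_fintype_card] at h1
    · omega
    · simpa using Ne.symm hne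
    · simp only [Finset.mem_insert, Finset.mem_singleton, not_or]
      refine ⟨fun e => hv1 (congrArg Subtype.val e).symm, fun e => hv1 ?_⟩
      have e' : (1 : Vm M) = d • v := congrArg Subtype.val e
      rw [eq_comm, smul_eq_iff_eq_inv_smul, smul_one] at e'
      exact e'
  exact hd1 (Subtype.ext (by
    by_contra h1
    exact hv1 ((hC.fpfAct M).fpf d (hodd.of_dvd_nat (Subgroup.orderOf_dvd_natCard D hd)) h1 v hdv)))

theorem SimpleData.big {M T : Subgroup G} (hC : Ctx G) (h : SimpleData M T) :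
    4 < Nat.card (omegaZ (pCoreOf 2 M)) := by
  obtain ⟨τ, hτ, hτD⟩ := h.loc.exists_notMem
  have h1 := h.loc.sq_le_omega hC hτ hτD (h.loc.omegaZ_T_le hC) fun a ha => ha.2.2 τ hτ
  have h2 := h.two_lt_center hC
  nlinarith

/-- An offender gives a natural module. -/
theorem SimpleData.natV {M T A : Subgroup G} (hC : Ctx G) (h : SimpleData M T)
    (hA : ThompsonJ.IsMaxEA 2 T A) (hAD : ¬ A ≤ pCoreOf 2 M) {S : Sylow 2 (Qt M)}
    (hS : ∀ m : M, (QuotientGroup.mk m : Qt M) ∈ (S : Subgroup (Qt M)) ↔ (m : G) ∈ T) :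
    NatV (Vm M) S := by
  have := nontrivial_vm h.loc.maxLoc
  obtain ⟨z, E⟩ := h.eset S
  set f : A →* Qt M := (QuotientGroup.mk' _).comp (Subgroup.inclusion (hA.le.trans h.loc.T_le))
  have hAe := ThompsonJ.isElementaryAbelian_iff.1 hA.elem
  have hker : Nat.card f.ker = Nat.card ↥(A ⊓ pCoreOf 2 M) := Nat.card_congr
    { toFun := fun a => ⟨((a : A) : G), (a : A).2, (qmk_eq_one_iff _).1 a.2⟩
      invFun := fun a => ⟨⟨a, a.2.1⟩, (qmk_eq_one_iff _).2 a.2.2⟩
      left_inv := fun a => rfl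
      right_inv := fun a => rfl }
  refine E.offender (hC.fpfAct M) (pCore_qt_eq_bot M) f.range ?_ ?_ ?_ ?_
  · rintro _ ⟨a, rfl⟩
    exact (hS _).2 (hA.le a.2)
  · rintro _ ⟨a, rfl⟩
    rw [← map_mul, show a * a = 1 from Subtype.ext (by rw [← pow_two]; exact hAe.2 a a.2), map_one]
  · intro e
    refine hAD fun a ha => (qmk_eq_one_iff ⟨a, hA.le.trans h.loc.T_le ha⟩).1 ?_
    have h1 : f ⟨a, ha⟩ ∈ (⊥ : Subgroup (Qt M)) := e ▸ ⟨_, rfl⟩
    exact Subgroup.mem_bot.1 h1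
  · have h1 := h.loc.offender_bound hA
    have h2 : Nat.card f.ker * Nat.card f.range = Nat.card A := by
      rw [← Subgroup.index_ker, Subgroup.card_mul_index]
    rw [← h2, hker] at h1
    refine Nat.le_of_mul_le_mul_right ?_ (Nat.card_pos (α := ↥(A ⊓ pCoreOf 2 M)))
    refine h1.trans ?_
    rw [mul_comm (Nat.card ↥(A ⊓ _)), mul_assoc, mul_assoc, mul_comm (Nat.card ↥(A ⊓ _))]
    refine Nat.mul_le_mul_left _ (Nat.mul_le_mul_right _ ?_)
    refine Nat.card_le_card_of_injective (fun v => (⟨⟨v.1, v.2.1⟩, ?_⟩ : fixedBy (Vm M) f.range))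
      fun a b e => Subtype.ext (congrArg (fun v : fixedBy (Vm M) f.range => ((v : Vm M) : G)) e :)
    rintro _ ⟨a, rfl⟩
    exact (smul_mk_eq_iff _ _).2 (ThompsonJ.isElementaryAbelian_comm hA.elem a.2 v.2.2)

/-- The maximal 2-locals which are not 2-closed. -/
theorem LocData.types {M T : Subgroup G} (hC : Ctx G) (h : LocData M T) :
    (∃ x s, Local1 M 3 x s T 1 ∧ Nat.card (omegaZ (pCoreOf 2 M)) ≤ 4) ∨
      (thompsonSubgroupOf 2 T ≤ pCoreOf 2 M ∧ (CycData M T ∨ SimpleData M T)) ∨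
      (SimpleData M T ∧ ∃ A, ThompsonJ.IsMaxEA 2 T A ∧ ¬ A ≤ pCoreOf 2 M) := by
  rcases le_or_gt (Nat.card (omegaZ (pCoreOf 2 M))) 4 with h4 | h4
  · obtain ⟨x, s, hl⟩ := h.small hC h4
    exact Or.inl ⟨x, s, hl, h4⟩
  have := nontrivial_vm h.maxLoc
  obtain ⟨hTI, hcases⟩ := (hC.fpfAct M).structure_cases (hC.cit_qt M) (pCore_qt_eq_bot M)
    (card_even_qt h) (hC.ih_qt h.maxLoc)
  rcases hcases with hcyc | ⟨hsimple, hm⟩
  · obtain ⟨S, hS⟩ := h.exists_qt_sylow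
    have := hcyc S
    obtain ⟨⟨σ, hσ⟩, hgen⟩ := IsCyclic.exists_generator (α := (S : Subgroup (Qt M)))
    obtain ⟨s, rfl⟩ := QuotientGroup.mk_surjective σ
    have hc : CycData M T := by
      refine ⟨h, ⟨s, (hS s).1 hσ, fun τ hτ => ?_⟩, h4⟩
      obtain ⟨i, hi⟩ := (mem_powers_iff_mem_zpowers).2 (hgen ⟨_, (hS ⟨τ, h.T_le hτ⟩).2 hτ⟩)
      refine ⟨i, ?_⟩
      have hi' : (QuotientGroup.mk (s ^ i) : Qt M) = QuotientGroup.mk ⟨τ, h.T_le hτ⟩ := by
        have := congrArg Subtype.val hi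
        simpa using this
      have h2 := (mem_pCoreOf_iff _).2 (QuotientGroup.eq.1 hi')
      simpa using h2
    exact Or.inr (Or.inl ⟨hc.thompson_le hC, Or.inl hc⟩)
  · have hs : SimpleData M T := ⟨h, fun S => by
      obtain ⟨z, -, -, hz⟩ := hTI.tiConfig (hC.cit_qt M) (pCore_qt_eq_bot M) (card_even_qt h) S
      exact ⟨z, hC.cit_qt M, hz, hm S, hsimple⟩⟩
    by_cases hJ : thompsonSubgroupOf 2 T ≤ pCoreOf 2 M
    · exact Or.inr (Or.inl ⟨hJ, Or.inr hs⟩)
    · rw [ThompsonJ.thompsonSubgroupOf_le_iff] at hJ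
      push Not at hJ
      exact Or.inr (Or.inr ⟨hs, hJ⟩)

end CfsgLib.CIT
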