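import Cfsg.Agent.Lib.CIT.Main

/-!
The Zassenhaus action of a simple CIT group with Sylow 2-subgroups meeting trivially.
-/

set_option autoImplicit false

open Cfsg

namespace CfsgLib.CIT

universe u

/-- The action on the cosets of a Sylow normaliser. -/
theorem zassenhaus_of_tiSylow {G : Type u} [Group G] [Finite G] [IsSimpleGroup G] (hcit : IsCIT G)
    (hna : ∃ a b : G, a * b ≠ b * a) (h2 : 2 ∣ Nat.card G) (hTI : TISylow G) (S : Sylow 2 G) :
    IsZassenhausGroup G (G ⧸ Subgroup.normalizer ((S : Subgroup G) : Set G)) := by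
  have : Fact (Nat.Prime 2) := ⟨Nat.prime_two⟩
  have hO := pCore_eq_bot_of_simple hna
  obtain ⟨z, -, -, hcfg⟩ := hTI.tiConfig hcit hO h2 S
  refine hcfg.zassenhaus ?_
  by_contra hm
  have hm1 := TIConfig.m_pos (M := Subgroup.normalizer ((S : Subgroup G) : Set G)) (H := (S : Subgroup G))
  obtain ⟨N, hN, hodd, hne⟩ := hTI.exists_complement hcit hO h2 S (by omega)
  have hT := hN.eq_bot_or_eq_top.resolve_left hne
  rw [hT, Subgroup.card_top] at hodd
  exact absurd h2 (by obtain ⟨k, hk⟩ := hodd; omega)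

/-- The simple CIT groups, keeping the Zassenhaus data in the last case. -/
theorem cases {G : Type u} [Group G] [Finite G] [IsSimpleGroup G] (hcit : IsCIT G)
    (hna : ∃ a b : G, a * b ≠ b * a) (h2 : 2 ∣ Nat.card G) :
    (∃ (F : Type) (_ : Field F) (_ : Fintype F), Odd (Fintype.card F) ∧
      Nonempty (G ≃* Matrix.ProjectiveSpecialLinearGroup (Fin 2) F)) ∨
    (∃ (F : Type) (_ : Field F) (_ : Fintype F), Fintype.card F = 4 ∧
      Nonempty (G ≃* Matrix.ProjectiveSpecialLinearGroup (Fin 3) F)) ∨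
    (TISylow G ∧ ∀ S : Sylow 2 G,
      IsZassenhausGroup G (G ⧸ Subgroup.normalizer ((S : Subgroup G) : Set G))) := by
  rcases refined G hcit hna h2 with h | ⟨-, h⟩ | ⟨-, h⟩
  · exact Or.inr (Or.inr ⟨h, zassenhaus_of_tiSylow hcit hna h2 h⟩)
  · exact Or.inl h
  · exact Or.inr (Or.inl h)

end CfsgLib.CIT
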